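import Cfsg.Agent.Lib.PSL2.Classify
import Mathlib

/-!
# Coprime subgroups of `GL₂(K)`

* `projPartition` : modulo scalars, the centralizers of non-scalar elements form a partition of
  `PSL(2, q)` type without `q`-components.
* `shape` : hence the projective image is cyclic, dihedral, `A₄`, `S₄` or `A₅`.
-/

set_option autoImplicit false
set_option linter.style.haveILetI false
set_option linter.unusedSectionVars false

namespace Cfsg.Agent.TransCoprime

open Module

universe u v w

section Algebra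

variable {K : Type v} [Field K] {W : Type w} [AddCommGroup W] [Module K W]
  (h2 : finrank K W = 2) (X : Module.End K W) (hX : ∀ c : K, X ≠ c • 1)

include h2 hX

theorem exists_pair : ∃ v : W, LinearIndependent K ![v, X v] := by
  haveI : FiniteDimensional K W := FiniteDimensional.of_finrank_eq_succ h2
  by_contra! h
  obtain ⟨c, hc⟩ := LinearMap.exists_eq_smul_id_of_forall_notLinearIndependent h
  exact hX c hc

theorem exists_comb {T : Module.End K W} (hT : Commute T X) :
    ∃ a b : K, T = a • 1 + b • X := by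
  obtain ⟨v, hv⟩ := exists_pair h2 X hX
  set B := basisOfLinearIndependentOfCardEqFinrank hv (by rw [Fintype.card_fin, h2]) with hB
  have hB' : ∀ i, B i = ![v, X v] i := fun i => by
    rw [hB, coe_basisOfLinearIndependentOfCardEqFinrank]
  have hsum : T v = B.repr (T v) 0 • v + B.repr (T v) 1 • X v := by
    conv_lhs => rw [← B.sum_repr (T v)]
    rw [Fin.sum_univ_two, hB', hB']
    rfl
  generalize B.repr (T v) 0 = α, B.repr (T v) 1 = β at hsum
  refine ⟨α, β, B.ext fun i => ?_⟩
  rw [hB']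
  fin_cases i
  · exact hsum
  · show T (X v) = _
    rw [show T (X v) = X (T v) from LinearMap.congr_fun hT v, hsum, map_add, map_smul, map_smul]
    rfl

theorem comb_inj {a b c d : K} (h : a • (1 : Module.End K W) + b • X = c • 1 + d • X) :
    a = c ∧ b = d := by
  obtain ⟨v, hv⟩ := exists_pair h2 X hX
  have h1 := LinearMap.congr_fun h v
  simp only [LinearMap.add_apply, LinearMap.smul_apply, Module.End.one_apply] at h1
  exact hv.eq_of_pair h1

end Algebra

variable {G : Type u} [Group G] {K : Type v} [Field K] {W : Type w} [AddCommGroup W] [Module K W]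
  (ρ : G →* Module.End K W)

/-- The elements acting as scalars. -/
def scalarSub : Subgroup G where
  carrier := {g | ∃ c : K, ρ g = c • 1}
  one_mem' := ⟨1, by rw [map_one, one_smul]⟩
  mul_mem' {g k} := by
    rintro ⟨c, hc⟩ ⟨d, hd⟩
    exact ⟨c * d, by rw [map_mul, hc, hd, smul_mul_smul_comm, one_mul]⟩
  inv_mem' {g} := by
    rintro ⟨c, hc⟩
    refine ⟨c⁻¹, ?_⟩
    rcases eq_or_ne c 0 with rfl | hc0
    · have h1 : ρ g⁻¹ * ρ g = 1 := by rw [← map_mul, inv_mul_cancel, map_one]
      rw [hc, zero_smul, mul_zero] at h1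
      rw [← mul_one (ρ g⁻¹), ← h1, mul_zero, inv_zero, zero_smul]
    · have h1 : ρ g⁻¹ * ρ g = 1 := by rw [← map_mul, inv_mul_cancel, map_one]
      rw [hc, mul_smul_comm, mul_one] at h1
      conv_rhs => rw [← h1, smul_smul, inv_mul_cancel₀ hc0, one_smul]

theorem mem_scalarSub {g : G} : g ∈ scalarSub ρ ↔ ∃ c : K, ρ g = c • 1 := Iff.rfl

theorem commute_of_mem_scalarSub {z : G} (hz : z ∈ scalarSub ρ) (hρ : Function.Injective ρ)
    (g : G) : g * z = z * g := by
  obtain ⟨c, hc⟩ := hz
  apply hρ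
  rw [map_mul, map_mul, hc, mul_smul_comm, mul_one, smul_mul_assoc, one_mul]

instance scalarSub_normal : (scalarSub ρ).Normal := ⟨fun z hz g => by
  obtain ⟨c, hc⟩ := hz
  exact ⟨c, by rw [map_mul, map_mul, hc, mul_smul_comm, mul_one, smul_mul_assoc, ← map_mul,
    mul_inv_cancel, map_one]⟩⟩

variable [Finite G] (q : ℕ) [Fact q.Prime] [CharP K q] [Finite K]
  (h2 : finrank K W = 2) (hρ : Function.Injective ρ) (hcop : ¬ q ∣ Nat.card G)

theorem ne_scalar {g : G} (hg : g ∉ scalarSub ρ) : ∀ c : K, ρ g ≠ c • 1 := fun c h => hg ⟨c, h⟩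

include h2 hρ

/-- The centralizer of a non-scalar element, in coordinates. -/
theorem mem_centralizer_iff {g : G} (hg : g ∉ scalarSub ρ) {k : G} :
    k ∈ Subgroup.centralizer ({g} : Set G) ↔ ∃ a b : K, ρ k = a • 1 + b • ρ g := by
  rw [Subgroup.mem_centralizer_singleton_iff]
  constructor
  · intro h
    exact exists_comb h2 (ρ g) (ne_scalar ρ hg) (show ρ k * ρ g = ρ g * ρ k by
      rw [← map_mul, ← map_mul, h])
  · rintro ⟨a, b, h⟩
    apply hρ
    rw [map_mul, map_mul, h, add_mul, mul_add, smul_mul_assoc, smul_mul_assoc, mul_smul_comm,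
      mul_smul_comm, one_mul, mul_one]

theorem centralizer_comm {g : G} (hg : g ∉ scalarSub ρ) {x y : G}
    (hx : x ∈ Subgroup.centralizer ({g} : Set G)) (hy : y ∈ Subgroup.centralizer ({g} : Set G)) :
    x * y = y * x := by
  obtain ⟨a, b, hx⟩ := (mem_centralizer_iff ρ h2 hρ hg).1 hx
  obtain ⟨c, d, hy⟩ := (mem_centralizer_iff ρ h2 hρ hg).1 hy
  apply hρ
  rw [map_mul, map_mul, hx, hy]
  simp only [add_mul, mul_add, smul_mul_assoc, mul_smul_comm, one_mul, mul_one, smul_smul]
  module

theorem centralizer_eq {g k : G} (hg : g ∉ scalarSub ρ) (hk : k ∉ scalarSub ρ)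
    (hc : k ∈ Subgroup.centralizer ({g} : Set G)) :
    Subgroup.centralizer ({k} : Set G) = Subgroup.centralizer ({g} : Set G) := by
  refine le_antisymm (fun x hx => ?_) fun x hx => ?_
  · refine Subgroup.mem_centralizer_singleton_iff.2 (centralizer_comm ρ h2 hρ hk hx ?_)
    exact Subgroup.mem_centralizer_singleton_iff.2 (Subgroup.mem_centralizer_singleton_iff.1 hc).symm
  · exact Subgroup.mem_centralizer_singleton_iff.2 (centralizer_comm ρ h2 hρ hg hx hc)

include hcop

/-- A non-scalar element satisfies a quadratic equation with two roots. -/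
theorem exists_quad {g : G} (hg : g ∉ scalarSub ρ) :
    ∃ (t s : K) (r : AlgebraicClosure K), ρ g * ρ g = s • 1 + t • ρ g ∧
      r * r = algebraMap K _ s + algebraMap K _ t * r ∧ r ≠ algebraMap K _ t - r := by
  obtain ⟨s, t, hst⟩ := exists_comb h2 (ρ g) (ne_scalar ρ hg)
    (show Commute (ρ g * ρ g) (ρ g) from (Commute.refl _).mul_left (Commute.refl _))
  set L := AlgebraicClosure K
  obtain ⟨r, hr⟩ := IsAlgClosed.exists_root
    (Polynomial.X ^ 2 - Polynomial.C (algebraMap K L t) * Polynomial.X -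
      Polynomial.C (algebraMap K L s)) (by
        refine fun h => ?_
        have : (Polynomial.X ^ 2 - Polynomial.C (algebraMap K L t) * Polynomial.X -
          Polynomial.C (algebraMap K L s)).natDegree = 2 := by compute_degree!
        rw [Polynomial.natDegree_eq_of_degree_eq_some h] at this
        exact two_ne_zero this.symm)
  have hr' : r * r = algebraMap K L s + algebraMap K L t * r := by
    simp [Polynomial.IsRoot] at hr
    linear_combination hr
  refine ⟨t, s, r, hst, hr', fun he => ?_⟩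
  -- a double root
  obtain ⟨μ, hμt, hμs⟩ : ∃ μ : K, t = 2 * μ ∧ s = -(μ * μ) := by
    by_cases h20 : (2 : K) = 0
    · have ht : t = 0 := (algebraMap K L).injective (by
        have h20' : (2 : L) = 0 := by rw [← map_ofNat (algebraMap K L) 2, h20, map_zero]
        rw [map_zero]; linear_combination r * h20' - he)
      haveI : CharP K 2 := CharTwo.of_one_ne_zero_of_two_eq_zero one_ne_zero h20
      obtain ⟨μ, hμ⟩ := (FiniteField.isSquare_of_char_two (ringChar.eq K 2) s)
      refine ⟨μ, by rw [h20, zero_mul, ht], ?_⟩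
      rw [hμ, CharTwo.neg_eq]
    · refine ⟨t / 2, (mul_div_cancel₀ t h20).symm, (algebraMap K L).injective ?_⟩
      have h20' : (2 : L) ≠ 0 := by
        rw [← map_ofNat (algebraMap K L) 2]; exact fun h => h20 ((map_eq_zero _).1 h)
      have : r = algebraMap K L t / 2 := by rw [eq_div_iff h20']; linear_combination he
      rw [this] at hr'
      rw [map_neg, map_mul, map_div₀, map_ofNat]
      linear_combination -hr' + (algebraMap K L t) ^ 2 * (2 : L)⁻¹ * inv_mul_cancel₀ h20'
  set N := ρ g - μ • (1 : Module.End K W) with hN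
  have hN2 : N * N = 0 := by
    rw [hN, sub_mul, mul_sub, mul_sub, hst, hμt, hμs, mul_smul_comm, smul_mul_assoc, one_mul, mul_one,
      smul_mul_smul_comm, one_mul, two_mul, add_smul, neg_smul]
    abel
  have hq := (Fact.out (p := q.Prime))
  refine hg ?_
  have hgq : g ^ q ∈ scalarSub ρ := by
    refine ⟨μ ^ q, ?_⟩
    haveI : CharP (Module.End K W) q := by
      obtain ⟨v, hv⟩ := exists_pair h2 (ρ g) (ne_scalar ρ hg)
      haveI : Nontrivial W := ⟨v, 0, hv.ne_zero 0⟩
      exact charP_of_injective_algebraMap (algebraMap K (Module.End K W)).injective q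
    have hNq : N ^ q = 0 := pow_eq_zero_of_le hq.two_le (by rw [sq, hN2])
    rw [map_pow, show ρ g = μ • 1 + N by rw [hN]; abel,
      add_pow_char_of_commute _ (Commute.smul_left (Commute.one_left N) μ), smul_pow, one_pow, hNq,
      add_zero]
  obtain ⟨m, hm⟩ := exists_pow_eq_self_of_coprime (x := g) (n := q)
    ((Nat.Prime.coprime_iff_not_dvd hq).2 fun h => hcop (h.trans (orderOf_dvd_natCard g)))
  exact hm ▸ pow_mem hgq m

/-- The ratio of the two eigenvalues separates the centralizer modulo scalars. -/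
theorem exists_ratio {g : G} (hg : g ∉ scalarSub ρ) :
    ∃ f : ↥(Subgroup.centralizer ({g} : Set G)) →* (AlgebraicClosure K),
      ∀ x, f x = 1 → (x : G) ∈ scalarSub ρ := by
  obtain ⟨t, s, r, hst, hr, hne⟩ := exists_quad ρ q h2 hρ hcop hg
  have hex : ∀ x : ↥(Subgroup.centralizer ({g} : Set G)), ∃ a b : K, ρ x = a • 1 + b • ρ g :=
    fun x => (mem_centralizer_iff ρ h2 hρ hg).1 x.2
  choose a b hab using hex
  have huniq := fun {a b c d : K} => comb_inj h2 (ρ g) (ne_scalar ρ hg) (a := a) (b := b) (c := c) (d := d)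
  set F : AlgebraicClosure K → ↥(Subgroup.centralizer ({g} : Set G)) → AlgebraicClosure K :=
    fun l x => algebraMap K _ (a x) + algebraMap K _ (b x) * l
  have hF : ∀ l, l * l = algebraMap K _ s + algebraMap K _ t * l →
      (F l 1 = 1 ∧ ∀ x y, F l (x * y) = F l x * F l y) := by
    intro l hl
    have h1 : a 1 = 1 ∧ b 1 = 0 := huniq (by
      rw [← hab, one_smul, zero_smul, add_zero, Subgroup.coe_one, map_one])
    refine ⟨by simp [F, h1.1, h1.2], fun x y => ?_⟩
    have hxy : a (x * y) = a x * a y + b x * b y * s ∧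
        b (x * y) = a x * b y + b x * a y + b x * b y * t := huniq (by
      rw [← hab, Subgroup.coe_mul, map_mul, hab, hab]
      simp only [add_mul, mul_add, smul_mul_assoc, mul_smul_comm, one_mul, mul_one, smul_smul, hst,
        smul_add, add_smul]
      module)
    simp only [F, hxy.1, hxy.2, map_add, map_mul]
    linear_combination (-(algebraMap K (AlgebraicClosure K) (b x) * algebraMap K _ (b y))) * hl
  set r' := algebraMap K (AlgebraicClosure K) t - r
  have hr' : r' * r' = algebraMap K _ s + algebraMap K _ t * r' := by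
    simp only [r']; linear_combination hr
  let f₁ : ↥(Subgroup.centralizer ({g} : Set G)) →* AlgebraicClosure K :=
    { toFun := F r, map_one' := (hF r hr).1, map_mul' := (hF r hr).2 }
  let f₂ : ↥(Subgroup.centralizer ({g} : Set G)) →* AlgebraicClosure K :=
    { toFun := fun x => F r' x⁻¹
      map_one' := by rw [inv_one]; exact (hF r' hr').1
      map_mul' := fun x y => by rw [mul_inv_rev, (hF r' hr').2, mul_comm] }
  refine ⟨f₁ * f₂, fun x hx => ?_⟩
  have h1 : F r' x⁻¹ * F r' x = 1 := by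
    rw [← (hF r' hr').2, inv_mul_cancel, (hF r' hr').1]
  have hx' : F r x * F r' x⁻¹ = 1 := hx
  have heq : F r x = F r' x := by
    rw [← mul_one (F r x), ← h1, ← mul_assoc, hx', one_mul]
  have hb : b x = 0 := by
    have h3 : algebraMap K (AlgebraicClosure K) (b x) * (r - r') = 0 := by
      simp only [F] at heq; linear_combination heq
    exact (map_eq_zero _).1 ((mul_eq_zero.1 h3).resolve_right (sub_ne_zero.2 hne))
  exact ⟨a x, by rw [hab, hb, zero_smul, add_zero]⟩

theorem isCyclic_map_centralizer {g : G} (hg : g ∉ scalarSub ρ) :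
    IsCyclic ↥((Subgroup.centralizer ({g} : Set G)).map (QuotientGroup.mk' (scalarSub ρ))) := by
  obtain ⟨f, hf⟩ := exists_ratio ρ q h2 hρ hcop hg
  haveI : Finite f.toHomUnits.range :=
    Finite.of_surjective _ f.toHomUnits.rangeRestrict_surjective
  have : IsCyclic f.toHomUnits.range :=
    isCyclic_of_subgroup_isDomain ((Units.coeHom _).comp f.toHomUnits.range.subtype)
      (Units.val_injective.comp Subtype.val_injective)
  set π := (QuotientGroup.mk' (scalarSub ρ)).subgroupMap (Subgroup.centralizer ({g} : Set G))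
  have hker : f.toHomUnits.ker ≤ π.ker := fun x hx => by
    refine Subtype.ext ((QuotientGroup.eq_one_iff _).2 (hf x ?_))
    exact congrArg Units.val (MonoidHom.mem_ker.1 hx)
  have hc : IsCyclic (↥(Subgroup.centralizer ({g} : Set G)) ⧸ f.toHomUnits.ker) :=
    isCyclic_of_surjective (QuotientGroup.quotientKerEquivRange f.toHomUnits).symm
      (MulEquiv.surjective _)
  exact isCyclic_of_surjective (QuotientGroup.lift _ π hker)
    (QuotientGroup.lift_surjective_of_surjective _ _ (MonoidHom.subgroupMap_surjective _ _) hker)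

/-- An element moving a non-scalar element inside its centralizer centralizes it or exchanges the
eigenvalues. -/
theorem exists_swap {g : G} (hg : g ∉ scalarSub ρ) :
    ∃ t s : K, ρ g * ρ g = s • 1 + t • ρ g ∧ (t = 0 → (2 : K) ≠ 0) ∧
      ∀ k : G, k * g * k⁻¹ ∈ Subgroup.centralizer ({g} : Set G) →
        k ∉ Subgroup.centralizer ({g} : Set G) → ρ k * ρ g * ρ k⁻¹ = t • 1 - ρ g := by
  obtain ⟨t, s, r, hst, hr, hne⟩ := exists_quad ρ q h2 hρ hcop hg
  refine ⟨t, s, hst, fun ht h20 => hne ?_, fun k hk hkc => ?_⟩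
  · have h20' : (2 : AlgebraicClosure K) = 0 := by
      rw [← map_ofNat (algebraMap K (AlgebraicClosure K)) 2, h20, map_zero]
    rw [ht, map_zero]; linear_combination r * h20'
  obtain ⟨a, b, hab⟩ := (mem_centralizer_iff ρ h2 hρ hg).1 hk
  rw [map_mul, map_mul] at hab
  have hk1 : ρ k⁻¹ * ρ k = 1 := by rw [← map_mul, inv_mul_cancel, map_one]
  have hquad : (a • (1 : Module.End K W) + b • ρ g) * (a • 1 + b • ρ g) =
      s • 1 + t • (a • 1 + b • ρ g) := by
    rw [← hab]
    calc ρ k * ρ g * ρ k⁻¹ * (ρ k * ρ g * ρ k⁻¹) = ρ k * (ρ g * ρ g) * ρ k⁻¹ := by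
          simp only [mul_assoc]; rw [← mul_assoc (ρ k⁻¹) (ρ k), hk1, one_mul]
      _ = s • 1 + t • (ρ k * ρ g * ρ k⁻¹) := by
          rw [hst, mul_add, add_mul, mul_smul_comm, mul_smul_comm, smul_mul_assoc, smul_mul_assoc,
            mul_one, ← map_mul, mul_inv_cancel, map_one]
  simp only [add_mul, mul_add, smul_mul_assoc, mul_smul_comm, one_mul, mul_one, smul_smul, hst,
    smul_add] at hquad
  obtain ⟨e1, e2⟩ := comb_inj h2 (ρ g) (ne_scalar ρ hg) (a := a * a + b * b * s)
    (b := a * b + b * a + b * b * t) (c := s + t * a) (d := t * b) (by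
      simp only [add_smul]
      convert hquad using 1 <;> module)
  have e1' := congrArg (algebraMap K (AlgebraicClosure K)) e1
  have e2' := congrArg (algebraMap K (AlgebraicClosure K)) e2
  simp only [map_add, map_mul] at e1' e2'
  set A := algebraMap K (AlgebraicClosure K) a
  set B := algebraMap K (AlgebraicClosure K) b
  set T := algebraMap K (AlgebraicClosure K) t
  set S := algebraMap K (AlgebraicClosure K) s
  have hroot : ∀ l, l * l = S + T * l → A + B * l = r ∨ A + B * l = T - r := by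
    intro l hl
    have : (A + B * l - r) * (A + B * l - (T - r)) = 0 := by
      linear_combination e1' + l * e2' + B * B * hl - hr
    rcases mul_eq_zero.1 this with h | h
    · exact Or.inl (sub_eq_zero.1 h)
    · exact Or.inr (sub_eq_zero.1 h)
  have hr' : (T - r) * (T - r) = S + T * (T - r) := by linear_combination hr
  have hfixed : ¬ (B = 1 ∧ A = 0) := by
    rintro ⟨hB, hA⟩
    have hb : b = 1 := (algebraMap K (AlgebraicClosure K)).injective (hB.trans (map_one _).symm)
    have ha : a = 0 := (algebraMap K (AlgebraicClosure K)).injective (hA.trans (map_zero _).symm)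
    rw [ha, hb, zero_smul, zero_add, one_smul] at hab
    refine hkc (Subgroup.mem_centralizer_singleton_iff.2 ?_)
    apply hρ
    rw [map_mul, map_mul]
    conv_rhs => rw [← hab, mul_assoc, hk1, mul_one]
  have hB0 : B ≠ 0 := by
    intro hB
    have hb : b = 0 := (map_eq_zero _).1 hB
    rw [hb, zero_smul, add_zero] at hab
    refine ne_scalar ρ hg a ?_
    calc ρ g = ρ k⁻¹ * (ρ k * ρ g * ρ k⁻¹) * ρ k := by
          simp only [mul_assoc]; rw [hk1, mul_one, ← mul_assoc (ρ k⁻¹), hk1, one_mul]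
      _ = a • 1 := by rw [hab, mul_smul_comm, mul_one, smul_mul_assoc, hk1]
  have hd : r - (T - r) ≠ 0 := sub_ne_zero.2 hne
  have hfin : A = T ∧ B = -1 := by
    rcases hroot r hr with h1 | h1 <;> rcases hroot _ hr' with h2' | h2'
    · exact absurd (mul_eq_zero.1 (show B * (r - (T - r)) = 0 by linear_combination h1 - h2'))
        (not_or.2 ⟨hB0, hd⟩)
    · refine absurd ?_ hfixed
      have hB : B = 1 := sub_eq_zero.1 ((mul_eq_zero.1
        (show (B - 1) * (r - (T - r)) = 0 by linear_combination h1 - h2')).resolve_right hd)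
      exact ⟨hB, by rw [hB] at h1; linear_combination h1⟩
    · have hB : B = -1 := eq_neg_of_add_eq_zero_left ((mul_eq_zero.1
        (show (B + 1) * (r - (T - r)) = 0 by linear_combination h1 - h2')).resolve_right hd)
      exact ⟨by rw [hB] at h1; linear_combination h1, hB⟩
    · exact absurd (mul_eq_zero.1 (show B * (r - (T - r)) = 0 by linear_combination h1 - h2'))
        (not_or.2 ⟨hB0, hd⟩)
  have hb : b = -1 := (algebraMap K (AlgebraicClosure K)).injective (by rw [map_neg, map_one]; exact hfin.2)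
  have ha : a = t := (algebraMap K (AlgebraicClosure K)).injective hfin.1
  rw [hab, ha, hb, neg_smul, one_smul, sub_eq_add_neg]

omit h2 hρ hcop in
/-- The component of a class modulo scalars. -/
noncomputable def projComp (x : G ⧸ scalarSub ρ) : Subgroup (G ⧸ scalarSub ρ) :=
  (Subgroup.centralizer ({x.out} : Set G)).map (QuotientGroup.mk' (scalarSub ρ))

theorem mk_mem_projComp {g y : G} (hg : g ∉ scalarSub ρ) :
    ((y : G ⧸ scalarSub ρ) ∈ projComp ρ (g : G ⧸ scalarSub ρ)) ↔
      y ∈ Subgroup.centralizer ({g} : Set G) := by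
  obtain ⟨⟨z, hz⟩, hzg⟩ := QuotientGroup.mk_out_eq_mul (scalarSub ρ) g
  have hC : Subgroup.centralizer ({(QuotientGroup.mk g : G ⧸ scalarSub ρ).out} : Set G) =
      Subgroup.centralizer ({g} : Set G) := by
    ext y
    rw [hzg, Subgroup.mem_centralizer_singleton_iff, Subgroup.mem_centralizer_singleton_iff,
      mul_assoc g z y, ← commute_of_mem_scalarSub ρ hz hρ y, ← mul_assoc, ← mul_assoc,
      mul_left_inj]
  rw [projComp, hC]
  constructor
  · rintro ⟨c, hc, hcy⟩
    have hz' : c⁻¹ * y ∈ scalarSub ρ := QuotientGroup.eq.1 hcy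
    have hzC : c⁻¹ * y ∈ Subgroup.centralizer ({g} : Set G) :=
      Subgroup.mem_centralizer_singleton_iff.2 (commute_of_mem_scalarSub ρ hz' hρ g).symm
    simpa using mul_mem hc hzC
  · exact fun hy => ⟨y, hy, rfl⟩

theorem mem_normalizer_projComp {g k : G} (hg : g ∉ scalarSub ρ)
    (hk : (k : G ⧸ scalarSub ρ) ∈ Subgroup.normalizer (projComp ρ (g : G ⧸ scalarSub ρ) : Set _)) :
    k * g * k⁻¹ ∈ Subgroup.centralizer ({g} : Set G) := by
  rw [← mk_mem_projComp ρ q h2 hρ hcop hg]
  have h := (Subgroup.mem_normalizer_iff.1 hk (g : G ⧸ scalarSub ρ)).1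
    ((mk_mem_projComp ρ q h2 hρ hcop hg).2 (Subgroup.mem_centralizer_singleton_iff.2 rfl))
  rwa [← QuotientGroup.mk_mul, ← QuotientGroup.mk_inv, ← QuotientGroup.mk_mul] at h

theorem mk_ne_one_iff {g : G} : (g : G ⧸ scalarSub ρ) ≠ 1 ↔ g ∉ scalarSub ρ := by
  rw [ne_eq, QuotientGroup.eq_one_iff]

theorem not_isPGroup_projComp {g : G} (hg : g ∉ scalarSub ρ) :
    ¬ IsPGroup q (projComp ρ (g : G ⧸ scalarSub ρ)) := by
  intro h
  obtain ⟨n, hn⟩ := IsPGroup.iff_card.1 h
  rcases Nat.eq_zero_or_pos n with rfl | hn0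
  · rw [pow_zero, Subgroup.card_eq_one] at hn
    have := (mk_mem_projComp ρ q h2 hρ hcop hg).2 (Subgroup.mem_centralizer_singleton_iff.2 rfl)
    rw [hn, Subgroup.mem_bot] at this
    exact hg ((QuotientGroup.eq_one_iff g).1 this)
  · refine hcop (((dvd_pow_self q hn0.ne').trans (hn ▸ Subgroup.card_subgroup_dvd_card _)).trans ?_)
    exact Subgroup.card_quotient_dvd_card _

theorem inverting_aux {g k : G} (hg : g ∉ scalarSub ρ)
    (hk : k * g * k⁻¹ ∈ Subgroup.centralizer ({g} : Set G))
    (hkc : k ∉ Subgroup.centralizer ({g} : Set G)) :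
    k * k ∈ scalarSub ρ ∧
      ∀ y ∈ Subgroup.centralizer ({g} : Set G), y * (k * y * k⁻¹) ∈ scalarSub ρ := by
  obtain ⟨t, s, hst, hts, hsw⟩ := exists_swap ρ q h2 hρ hcop hg
  have h := hsw k hk hkc
  have hk1 : ρ k * ρ k⁻¹ = 1 := by rw [← map_mul, mul_inv_cancel, map_one]
  have hk2 : ρ k⁻¹ * ρ k = 1 := by rw [← map_mul, inv_mul_cancel, map_one]
  have hconj : ∀ c e : K, ρ k * (c • 1 + e • ρ g) * ρ k⁻¹ = c • 1 + e • (t • 1 - ρ g) := fun c e => by
    rw [mul_add, add_mul, mul_smul_comm, mul_smul_comm, smul_mul_assoc, smul_mul_assoc, mul_one,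
      hk1, h]
  constructor
  · have hkk : k * k ∈ Subgroup.centralizer ({g} : Set G) := by
      rw [Subgroup.mem_centralizer_singleton_iff, ← mul_inv_eq_iff_eq_mul]
      apply hρ
      simp only [mul_inv_rev, map_mul]
      calc ρ k * ρ k * ρ g * (ρ k⁻¹ * ρ k⁻¹) = ρ k * (ρ k * ρ g * ρ k⁻¹) * ρ k⁻¹ := by
            simp only [mul_assoc]
        _ = ρ g := by
          rw [h, sub_eq_add_neg, ← neg_one_smul K (ρ g), hconj, neg_one_smul, neg_sub]
          abel
    obtain ⟨c, e, hce⟩ := (mem_centralizer_iff ρ h2 hρ hg).1 hkk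
    have h3 := hconj c e
    have h4 : ρ k * ρ (k * k) * ρ k⁻¹ = ρ (k * k) := by
      rw [← map_mul, ← map_mul]; group
    rw [← hce, h4, hce, smul_sub, smul_smul, ← sub_eq_zero] at h3
    have e2 := comb_inj h2 (ρ g) (ne_scalar ρ hg) (a := -(e * t)) (b := 2 * e) (c := 0) (d := 0) (by
      rw [zero_smul, zero_smul, add_zero, neg_smul, two_mul, add_smul, ← h3]
      abel)
    have he : e = 0 := by
      by_contra he
      have ht : t = 0 := by simpa [he] using e2.1
      exact hts ht ((mul_eq_zero.1 e2.2).resolve_right he)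
    exact ⟨c, by rw [hce, he, zero_smul, add_zero]⟩
  · intro y hy
    obtain ⟨c, e, hce⟩ := (mem_centralizer_iff ρ h2 hρ hg).1 hy
    refine ⟨c * c + c * e * t - e * e * s, ?_⟩
    rw [map_mul, map_mul, map_mul, hce, hconj]
    simp only [add_mul, mul_add, mul_sub, sub_mul, smul_sub, smul_mul_assoc, mul_smul_comm, one_mul,
      mul_one, smul_smul, hst, smul_add, add_smul, sub_smul]
    module

theorem two_aux {g a b : G} (hg : g ∉ scalarSub ρ)
    (ha : a * g * a⁻¹ ∈ Subgroup.centralizer ({g} : Set G))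
    (hb : b * g * b⁻¹ ∈ Subgroup.centralizer ({g} : Set G))
    (hac : a ∉ Subgroup.centralizer ({g} : Set G)) (hbc : b ∉ Subgroup.centralizer ({g} : Set G)) :
    a * b ∈ Subgroup.centralizer ({g} : Set G) := by
  obtain ⟨t, s, -, -, hsw⟩ := exists_swap ρ q h2 hρ hcop hg
  rw [Subgroup.mem_centralizer_singleton_iff, ← mul_inv_eq_iff_eq_mul]
  apply hρ
  simp only [mul_inv_rev, map_mul]
  calc ρ a * ρ b * ρ g * (ρ b⁻¹ * ρ a⁻¹) = ρ a * (ρ b * ρ g * ρ b⁻¹) * ρ a⁻¹ := by
        simp only [mul_assoc]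
    _ = ρ g := by
      rw [hsw b hb hbc, mul_sub, sub_mul, hsw a ha hac, mul_smul_comm, mul_one, smul_mul_assoc,
        ← map_mul, mul_inv_cancel, map_one]
      abel

/-- The partition of the projective image. -/
noncomputable def projPartition : PSL2.Part.Partition (G ⧸ scalarSub ρ) q where
  comp := projComp ρ
  mem_self x hx := by
    obtain ⟨g, rfl⟩ := QuotientGroup.mk_surjective x
    exact (mk_mem_projComp ρ q h2 hρ hcop ((mk_ne_one_iff ρ q h2 hρ hcop).1 hx)).2
      (Subgroup.mem_centralizer_singleton_iff.2 rfl)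
  eq_of_mem x y hx hy hy1 := by
    obtain ⟨g, rfl⟩ := QuotientGroup.mk_surjective x
    obtain ⟨k, rfl⟩ := QuotientGroup.mk_surjective y
    rw [mk_ne_one_iff ρ q h2 hρ hcop] at hx hy1
    rw [mk_mem_projComp ρ q h2 hρ hcop hx] at hy
    ext z
    obtain ⟨z, rfl⟩ := QuotientGroup.mk_surjective z
    rw [mk_mem_projComp ρ q h2 hρ hcop hx, mk_mem_projComp ρ q h2 hρ hcop hy1,
      centralizer_eq ρ h2 hρ hx hy1 hy]
  conj x k hx := by
    obtain ⟨g, rfl⟩ := QuotientGroup.mk_surjective x
    obtain ⟨k, rfl⟩ := QuotientGroup.mk_surjective k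
    rw [mk_ne_one_iff ρ q h2 hρ hcop] at hx
    have hx' : k * g * k⁻¹ ∉ scalarSub ρ := fun h =>
      hx (by simpa [mul_assoc] using (inferInstance : (scalarSub ρ).Normal).conj_mem _ h k⁻¹)
    ext z
    obtain ⟨z, rfl⟩ := QuotientGroup.mk_surjective z
    rw [PSL2.Part.Partition.mem_map_conj, ← QuotientGroup.mk_mul, ← QuotientGroup.mk_inv,
      ← QuotientGroup.mk_mul, ← QuotientGroup.mk_mul, ← QuotientGroup.mk_mul,
      mk_mem_projComp ρ q h2 hρ hcop hx', mk_mem_projComp ρ q h2 hρ hcop hx,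
      Subgroup.mem_centralizer_singleton_iff, Subgroup.mem_centralizer_singleton_iff]
    constructor
    · intro h
      calc k⁻¹ * z * k * g = k⁻¹ * (z * (k * g * k⁻¹)) * k := by group
        _ = g * (k⁻¹ * z * k) := by rw [h]; group
    · intro h
      calc z * (k * g * k⁻¹) = k * (k⁻¹ * z * k * g) * k⁻¹ := by group
        _ = k * g * k⁻¹ * z := by rw [h]; group
  centralizer_p x y hx hP := by
    obtain ⟨g, rfl⟩ := QuotientGroup.mk_surjective x
    exact absurd hP (not_isPGroup_projComp ρ q h2 hρ hcop ((mk_ne_one_iff ρ q h2 hρ hcop).1 hx))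
  cyclic x hx _ := by
    obtain ⟨g, rfl⟩ := QuotientGroup.mk_surjective x
    rw [mk_ne_one_iff ρ q h2 hρ hcop] at hx
    refine ⟨?_, fun h => hcop ((h.trans (Subgroup.card_subgroup_dvd_card _)).trans
      (Subgroup.card_quotient_dvd_card _))⟩
    have hout : (QuotientGroup.mk g : G ⧸ scalarSub ρ).out ∉ scalarSub ρ := fun h => hx (by
      obtain ⟨⟨z, hz⟩, hzg⟩ := QuotientGroup.mk_out_eq_mul (scalarSub ρ) g
      rw [hzg] at h
      exact (Subgroup.mul_mem_cancel_right _ hz).1 h)
    exact isCyclic_map_centralizer ρ q h2 hρ hcop hout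
  inverting x k hx _ hk hkc := by
    obtain ⟨g, rfl⟩ := QuotientGroup.mk_surjective x
    obtain ⟨k, rfl⟩ := QuotientGroup.mk_surjective k
    rw [mk_ne_one_iff ρ q h2 hρ hcop] at hx
    rw [mk_mem_projComp ρ q h2 hρ hcop hx] at hkc
    obtain ⟨h1, h3⟩ := inverting_aux ρ q h2 hρ hcop hx
      (mem_normalizer_projComp ρ q h2 hρ hcop hx hk) hkc
    refine ⟨(QuotientGroup.eq_one_iff _).2 h1, fun y hy => ?_⟩
    obtain ⟨y, rfl⟩ := QuotientGroup.mk_surjective y
    rw [mk_mem_projComp ρ q h2 hρ hcop hx] at hy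
    exact eq_inv_of_mul_eq_one_right ((QuotientGroup.eq_one_iff _).2 (h3 y hy))
  two x a b hx _ ha hb hac hbc := by
    obtain ⟨g, rfl⟩ := QuotientGroup.mk_surjective x
    obtain ⟨a, rfl⟩ := QuotientGroup.mk_surjective a
    obtain ⟨b, rfl⟩ := QuotientGroup.mk_surjective b
    rw [mk_ne_one_iff ρ q h2 hρ hcop] at hx
    rw [mk_mem_projComp ρ q h2 hρ hcop hx] at hac hbc
    rw [← QuotientGroup.mk_mul, mk_mem_projComp ρ q h2 hρ hcop hx]
    exact two_aux ρ q h2 hρ hcop hx (mem_normalizer_projComp ρ q h2 hρ hcop hx ha)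
      (mem_normalizer_projComp ρ q h2 hρ hcop hx hb) hac hbc
  borel x y hx _ hP := by
    obtain ⟨g, rfl⟩ := QuotientGroup.mk_surjective x
    exact absurd hP (not_isPGroup_projComp ρ q h2 hρ hcop ((mk_ne_one_iff ρ q h2 hρ hcop).1 hx))

/-- The projective image is trivial, cyclic, dihedral (with the cyclic part the centralizer of an
element), `A₄`, `S₄` or `A₅`. -/
theorem shape :
    (∀ g, g ∈ scalarSub ρ) ∨
    (∃ g, g ∉ scalarSub ρ ∧ ∀ x, x ∈ Subgroup.centralizer ({g} : Set G)) ∨
    (∃ g, g ∉ scalarSub ρ ∧ (Subgroup.centralizer ({g} : Set G)).Normal ∧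
      (Subgroup.centralizer ({g} : Set G)).index = 2) ∨
    Nonempty (G ⧸ scalarSub ρ ≃* alternatingGroup (Fin 4)) ∨
    Nonempty (G ⧸ scalarSub ρ ≃* Equiv.Perm (Fin 4)) ∨
    Nonempty (G ⧸ scalarSub ρ ≃* alternatingGroup (Fin 5)) := by
  have hnp : ∀ x, x ≠ 1 → ¬ IsPGroup q ((projPartition ρ q h2 hρ hcop).comp x) := fun x hx => by
    obtain ⟨g, rfl⟩ := QuotientGroup.mk_surjective x
    exact not_isPGroup_projComp ρ q h2 hρ hcop ((mk_ne_one_iff ρ q h2 hρ hcop).1 hx)
  rcases (projPartition ρ q h2 hρ hcop).classify with h | ⟨x, hx, -, h⟩ | ⟨x, hx, -, hN, hc⟩ |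
    ⟨x, hx, hP, -⟩ | h | h | h | ⟨x, y, hx, hP, -⟩
  · exact Or.inl fun g => (QuotientGroup.eq_one_iff g).1 (Subsingleton.elim _ _)
  · obtain ⟨g, rfl⟩ := QuotientGroup.mk_surjective x
    rw [mk_ne_one_iff ρ q h2 hρ hcop] at hx
    refine Or.inr (Or.inl ⟨g, hx, fun y => ?_⟩)
    rw [← mk_mem_projComp ρ q h2 hρ hcop hx]
    have h' : projComp ρ (g : G ⧸ scalarSub ρ) = ⊤ := h
    rw [h']
    exact Subgroup.mem_top _
  · obtain ⟨g, rfl⟩ := QuotientGroup.mk_surjective x
    rw [mk_ne_one_iff ρ q h2 hρ hcop] at hx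
    have hcm : (projPartition ρ q h2 hρ hcop).comp (g : G ⧸ scalarSub ρ) =
        projComp ρ (g : G ⧸ scalarSub ρ) := rfl
    rw [hcm] at hN hc
    have hcomap : (projComp ρ (g : G ⧸ scalarSub ρ)).comap (QuotientGroup.mk' (scalarSub ρ)) =
        Subgroup.centralizer ({g} : Set G) := by
      ext y
      exact mk_mem_projComp ρ q h2 hρ hcop hx
    haveI : (projComp ρ (g : G ⧸ scalarSub ρ)).Normal := Subgroup.normalizer_eq_top_iff.1 hN
    refine Or.inr (Or.inr (Or.inl ⟨g, hx, hcomap ▸ inferInstance, ?_⟩))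
    rw [← hcomap, Subgroup.index_comap_of_surjective _ (QuotientGroup.mk'_surjective _)]
    have hm := (projComp ρ (g : G ⧸ scalarSub ρ)).card_mul_index
    rw [hc, mul_comm 2] at hm
    exact Nat.eq_of_mul_eq_mul_left Nat.card_pos hm
  · exact absurd hP (hnp x hx)
  · exact Or.inr (Or.inr (Or.inr (Or.inl h)))
  · exact Or.inr (Or.inr (Or.inr (Or.inr (Or.inl h))))
  · exact Or.inr (Or.inr (Or.inr (Or.inr (Or.inr h))))
  · exact absurd hP (hnp x hx)

end Cfsg.Agent.TransCoprime
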