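import Cfsg.Agent.Lib.TransCoprime.Primitive
import Cfsg.Agent.Lib.TransCoprime.TwoDim
import Cfsg.Agent.Lib.SolvableTransitive.Main
import Mathlib

/-!
# Transitive `{2,5}`-groups on `81` points

* `good_eighty` : the class number bounds.
-/

set_option autoImplicit false
set_option linter.style.haveILetI false
set_option linter.unusedSectionVars false

namespace Cfsg.Agent.TransCoprime

open Module SolvableTransitive
open scoped commutatorElement

universe u v

/-- The centralizer count: a subgroup `N` of order 32 with quotient a Frobenius-like group `5 : e`. -/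
theorem sum_centralizer_le {G : Type u} [Group G] [Fintype G] {Γ : Type*} [Group Γ] [Finite Γ]
    (π : G →* Γ) (hπ : Function.Surjective π) (R : Subgroup Γ) (hR : Nat.card R = 5) (e : ℕ)
    (he : R.index = e) (hN : Nat.card π.ker = 32)
    (h5 : ∀ g, π g ∈ R → π g ≠ 1 → Nat.card ↥(π.ker ⊓ Subgroup.centralizer ({g} : Set G)) ≤ 2)
    (h16 : ∀ g, π g ∉ R → Nat.card ↥(π.ker ⊓ Subgroup.centralizer ({g} : Set G)) ≤ 16)
    (hcR : ∀ σ ∈ R, σ ≠ 1 → Subgroup.centralizer ({σ} : Set Γ) ≤ R) :
    Nat.card (ConjClasses G) ≤ 16 * e := by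
  classical
  have := Fintype.ofFinite Γ
  set D : G → ℕ := fun g => Nat.card ↥(π.ker ⊓ Subgroup.centralizer ({g} : Set G)) with hD
  have hDN : ∀ g, D g ≤ 32 := fun g => hN ▸ Subgroup.card_le_of_le inf_le_left
  set E : Γ → ℕ := fun σ => if σ = 1 then 32 else if σ ∈ R then 2 else 16 with hE
  have hDE : ∀ g, D g ≤ E (π g) := by
    intro g
    simp only [hE]
    split_ifs with h1 h2
    · exact hDN g
    · exact h5 g h2 h1
    · exact h16 g h2
  set F : Γ → ℕ := fun σ => if σ ∈ R then 5 else e with hF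
  have hCF : ∀ σ : Γ, σ ≠ 1 → Nat.card (Subgroup.centralizer ({σ} : Set Γ)) ≤ F σ := by
    intro σ h1
    simp only [hF]
    split_ifs with h
    · exact hR ▸ Subgroup.card_le_of_le (hcR σ h h1)
    · rw [← he, Subgroup.index]
      refine Nat.card_le_card_of_injective
        (fun c : Subgroup.centralizer ({σ} : Set Γ) => (QuotientGroup.mk (c : Γ) : Γ ⧸ R)) fun a b hab => ?_
      have hmem : (a : Γ)⁻¹ * b ∈ R := QuotientGroup.eq.1 hab
      by_contra hne
      have hd1 : (a : Γ)⁻¹ * b ≠ 1 := fun h' => hne (Subtype.ext (inv_mul_eq_one.1 h'))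
      have hcc : (a : Γ)⁻¹ * b ∈ Subgroup.centralizer ({σ} : Set Γ) :=
        (Subgroup.centralizer ({σ} : Set Γ)).mul_mem
          ((Subgroup.centralizer ({σ} : Set Γ)).inv_mem a.2) b.2
      exact h (hcR _ hmem hd1
        (Subgroup.mem_centralizer_singleton_iff.2 (Subgroup.mem_centralizer_singleton_iff.1 hcc).symm))
  have hkerc : ∀ g, Nat.card (Subgroup.centralizer ({g} : Set G)) ≤
      D g * Nat.card (Subgroup.centralizer ({π g} : Set Γ)) := by
    intro g
    set C := Subgroup.centralizer ({g} : Set G)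
    have h1 := (π.ker.subgroupOf C).card_mul_index
    have h2 : Nat.card (π.ker.subgroupOf C) = D g := Nat.card_congr
      { toFun := fun x => ⟨x.1.1, x.2, x.1.2⟩
        invFun := fun x => ⟨⟨x.1, x.2.2⟩, x.2.1⟩
        left_inv := fun x => rfl
        right_inv := fun x => rfl }
    rw [← h1, h2]
    refine Nat.mul_le_mul_left _ ?_
    rw [show π.ker.subgroupOf C = (π.comp C.subtype).ker from rfl, Subgroup.index_ker]
    refine Subgroup.card_le_of_le ?_
    rintro _ ⟨c, rfl⟩
    exact Subgroup.mem_centralizer_singleton_iff.2 (by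
      show π c * π g = π g * π c
      rw [← map_mul, ← map_mul, Subgroup.mem_centralizer_singleton_iff.1 c.2])
  have hswap : ∑ g ∈ Finset.univ.filter (fun g => π g = 1),
      Nat.card (Subgroup.centralizer ({g} : Set G)) = ∑ g : G, D g := by
    calc _ = ∑ a ∈ Finset.univ.filter (fun g => π g = 1),
          (Finset.univ.filter (fun g : G => g * a = a * g)).card := by
          refine Finset.sum_congr rfl fun a _ => ?_
          rw [← Nat.card_eq_finsetCard]
          exact Nat.card_congr (Equiv.subtypeEquivRight fun g => by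
            simp [Subgroup.mem_centralizer_singleton_iff])
      _ = ∑ g : G, ((Finset.univ.filter (fun g => π g = 1)).filter (fun a : G => g * a = a * g)).card := by
          simp only [Finset.card_filter]
          exact Finset.sum_comm
      _ = ∑ g : G, D g := by
          refine Finset.sum_congr rfl fun g _ => ?_
          rw [← Nat.card_eq_finsetCard]
          exact Nat.card_congr (Equiv.subtypeEquivRight fun a => by
            simp [Subgroup.mem_inf, Subgroup.mem_centralizer_singleton_iff, MonoidHom.mem_ker, eq_comm])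
  have hfib : ∀ f : Γ → ℕ, ∑ g : G, f (π g) = 32 * ∑ σ : Γ, f σ := by
    intro f
    rw [← Finset.sum_fiberwise_of_maps_to (g := π) (t := Finset.univ) (fun g _ => Finset.mem_univ (π g)),
      Finset.mul_sum]
    refine Finset.sum_congr rfl fun σ _ => ?_
    rw [Finset.sum_congr rfl (fun g hg => congrArg f (Finset.mem_filter.1 hg).2), Finset.sum_const,
      smul_eq_mul]
    congr 1
    obtain ⟨g₀, rfl⟩ := hπ σ
    rw [← hN, ← Nat.card_eq_finsetCard]
    exact Nat.card_congr
      { toFun := fun g => ⟨g₀⁻¹ * g.1, by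
          rw [MonoidHom.mem_ker, map_mul, (Finset.mem_filter.1 g.2).2, map_inv, inv_mul_cancel]⟩
        invFun := fun y => ⟨g₀ * y.1, Finset.mem_filter.2 ⟨Finset.mem_univ _, by
          rw [map_mul, MonoidHom.mem_ker.1 y.2, mul_one]⟩⟩
        left_inv := fun g => Subtype.ext (mul_inv_cancel_left _ _)
        right_inv := fun y => Subtype.ext (inv_mul_cancel_left _ _) }
  have hmain : Nat.card (ConjClasses G) * Nat.card G ≤
      32 * ∑ σ : Γ, (E σ + if σ = 1 then 0 else E σ * F σ) := by
    rw [card_conjClasses_mul_card, ← Finset.sum_filter_add_sum_filter_not Finset.univ (fun g => π g = 1),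
      hswap, Finset.sum_add_distrib, mul_add, ← hfib, ← hfib, Finset.sum_filter]
    refine Nat.add_le_add (Finset.sum_le_sum fun g _ => hDE g) (Finset.sum_le_sum fun g _ => ?_)
    by_cases h : π g = 1
    · simp [h]
    · simp only [h, not_false_eq_true, if_true, if_false]
      exact (hkerc g).trans (Nat.mul_le_mul (hDE g) (hCF _ h))
  have hΓ : Nat.card Γ = 5 * e := by rw [← hR, ← he, R.card_mul_index]
  have hG : Nat.card G = 32 * (5 * e) := by
    rw [← hN, ← hΓ, ← Nat.card_congr (QuotientGroup.quotientKerEquivOfSurjective π hπ).toEquiv,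
      Subgroup.card_eq_card_quotient_mul_card_subgroup π.ker, mul_comm]
  have hsum : ∑ σ : Γ, (E σ + if σ = 1 then 0 else E σ * F σ) = 80 * e ^ 2 := by
    have h1 : (Finset.univ.filter (fun σ : Γ => σ ∈ R)).card = 5 := by
      rw [← hR, ← Nat.card_eq_finsetCard]
      exact Nat.card_congr (Equiv.subtypeEquivRight fun x => by simp)
    have h2 : (Finset.univ.filter (fun σ : Γ => σ ∉ R)).card = 5 * e - 5 := by
      have := Finset.card_filter_add_card_filter_not (s := (Finset.univ : Finset Γ)) (fun σ => σ ∈ R)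
      rw [h1, Finset.card_univ, ← Nat.card_eq_fintype_card, hΓ] at this
      omega
    rw [← Finset.sum_filter_add_sum_filter_not Finset.univ (fun σ : Γ => σ ∈ R),
      Finset.sum_congr rfl (g := fun _ => 16 + 16 * e) (s₁ := Finset.univ.filter fun σ : Γ => σ ∉ R)
        (fun σ hσ => by
          have hσ' := (Finset.mem_filter.1 hσ).2
          have h0 : σ ≠ 1 := fun h => hσ' (h ▸ R.one_mem)
          simp [hE, hF, hσ', h0]),
      ← Finset.add_sum_erase _ _ (Finset.mem_filter.2 ⟨Finset.mem_univ (1 : Γ), R.one_mem⟩),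
      Finset.sum_congr rfl (g := fun _ => 12) (s₁ := (Finset.univ.filter fun σ : Γ => σ ∈ R).erase 1)
        (fun σ hσ => by
          obtain ⟨h0, hσ'⟩ := Finset.mem_erase.1 hσ
          simp [hE, hF, (Finset.mem_filter.1 hσ').2, h0]),
      Finset.sum_const, Finset.sum_const,
      Finset.card_erase_of_mem (Finset.mem_filter.2 ⟨Finset.mem_univ (1 : Γ), R.one_mem⟩), h1, h2,
      smul_eq_mul, smul_eq_mul]
    simp only [hE, if_true]
    have he0 : 1 ≤ e := he ▸ Nat.pos_of_ne_zero R.index_ne_zero_of_finite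
    obtain ⟨e', rfl⟩ : ∃ e', e = e' + 1 := ⟨e - 1, by omega⟩
    rw [show 5 * (e' + 1) - 5 = 5 * e' by omega]
    ring
  rw [hG, hsum] at hmain
  have he0 : 0 < e := he ▸ Nat.pos_of_ne_zero R.index_ne_zero_of_finite
  refine Nat.le_of_mul_le_mul_left ?_ (by omega : 0 < 32 * (5 * e))
  calc 32 * (5 * e) * Nat.card (ConjClasses G) ≤ 32 * (80 * e ^ 2) := by rw [mul_comm]; exact hmain
    _ = 32 * (5 * e) * (16 * e) := by ring

/-- On a group of order 16 an automorphism `x` of order 5 without fixed points leaves no proper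
subgroup invariant. -/
theorem invariant_eq {W : Type*} [Group W] [Finite W] (hW : Nat.card W = 16) (x : MulAut W)
    (hx5 : x ^ 5 = 1) (hx : ∀ w : W, x w = w → w = 1) (S : Subgroup W)
    (hS : ∀ w ∈ S, x w ∈ S) : S = ⊥ ∨ S = ⊤ := by
  classical
  have hiter : ∀ (k : ℕ), ∀ w ∈ S, (x ^ k) w ∈ S := by
    intro k
    induction k with
    | zero => intro w hw; exact hw
    | succ k ih => intro w hw; rw [pow_succ', MulAut.mul_apply]; exact hS _ (ih w hw)
  let τ : Equiv.Perm ↥S :=
    { toFun := fun w => ⟨x w.1, hS _ w.2⟩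
      invFun := fun w => ⟨(x ^ 4) w.1, hiter 4 _ w.2⟩
      left_inv := fun w => Subtype.ext (by
        show (x ^ 4) (x w.1) = w.1
        rw [← MulAut.mul_apply, ← pow_succ, hx5]; rfl)
      right_inv := fun w => Subtype.ext (by
        show x ((x ^ 4) w.1) = w.1
        rw [← MulAut.mul_apply, ← pow_succ', hx5]; rfl) }
  have hτ : ∀ (k : ℕ) (w : ↥S), (((τ ^ k) w : ↥S) : W) = (x ^ k) w.1 := by
    intro k
    induction k with
    | zero => intro w; rfl
    | succ k ih =>
      intro w
      rw [pow_succ', pow_succ', MulAut.mul_apply, ← ih w]; rfl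
  haveI : Fact (Nat.Prime 5) := ⟨Nat.prime_five⟩
  have := Fintype.ofFinite ↥S
  have hfix : Function.fixedPoints τ = {1} := by
    ext w
    simp only [Function.mem_fixedPoints, Function.IsFixedPt, Set.mem_singleton_iff]
    exact ⟨fun h => Subtype.ext (hx w.1 (congrArg Subtype.val h)),
      fun h => h ▸ Subtype.ext (map_one x)⟩
  have hmod := Equiv.Perm.card_compl_support_modEq (p := 5) (n := 1) (σ := τ) (by
    refine Equiv.ext fun w => Subtype.ext ?_
    rw [pow_one, hτ, hx5]; rfl)
  have hc : τ.supportᶜ = {1} := by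
    ext w
    rw [Finset.mem_compl, Equiv.Perm.mem_support, not_not, Finset.mem_singleton]
    exact (Set.ext_iff.1 hfix w).trans Set.mem_singleton_iff
  rw [hc, Finset.card_singleton, ← Nat.card_eq_fintype_card] at hmod
  have hd : Nat.card ↥S ∣ 2 ^ 4 := by rw [show (2:ℕ)^4 = 16 from rfl, ← hW]; exact Subgroup.card_subgroup_dvd_card S
  obtain ⟨i, hi, hic⟩ := (Nat.dvd_prime_pow Nat.prime_two).1 hd
  rw [hic] at hmod
  interval_cases i
  · exact Or.inl (Subgroup.card_eq_one.1 hic)
  all_goals first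
    | (exfalso; revert hmod; decide)
    | exact Or.inr (Subgroup.eq_top_of_card_eq _ (by rw [hic, hW]; rfl))

/-- A `2`-group of automorphisms invariant under such an `x` is trivial. -/
theorem two_group_trivial {W : Type*} [Group W] [Finite W] (hW : Nat.card W = 16) (x : MulAut W)
    (hx5 : x ^ 5 = 1) (hx : ∀ w : W, x w = w → w = 1) (T : Subgroup (MulAut W)) (hT : IsPGroup 2 T)
    (hinv : ∀ t ∈ T, x⁻¹ * t * x ∈ T) : T = ⊥ := by
  let S : Subgroup W :=
    { carrier := {w | ∀ t ∈ T, t w = w}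
      one_mem' := fun t _ => map_one t
      mul_mem' := fun ha hb t ht => by rw [map_mul, ha t ht, hb t ht]
      inv_mem' := fun ha t ht => by rw [map_inv, ha t ht] }
  have hinvS : ∀ w ∈ S, x w ∈ S := fun w hw t ht => by
    have h := hw _ (hinv t ht)
    rw [MulAut.mul_apply, MulAut.mul_apply, MulAut.inv_apply] at h
    conv_rhs => rw [← h]
    rw [MulEquiv.apply_symm_apply]
  rcases invariant_eq hW x hx5 hx S hinvS with h | h
  · -- the fixed points of a `2`-group on 16 points are even in number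
    exfalso
    haveI : Fact (Nat.Prime 2) := ⟨Nat.prime_two⟩
    letI : MulAction ↥T W := MulAction.compHom W ((MulAut.toPerm W).comp T.subtype)
    have hfp : MulAction.fixedPoints ↥T W = (S : Set W) := by
      ext w
      exact ⟨fun hw t ht => hw ⟨t, ht⟩, fun hw t => hw t t.2⟩
    have hmod := hT.card_modEq_card_fixedPoints W
    rw [hfp, hW, show Nat.card ↥(S : Set W) = Nat.card ↥S from rfl, Subgroup.card_eq_one.2 h] at hmod
    exact absurd hmod (by decide)
  · refine (Subgroup.eq_bot_iff_forall _).2 fun t ht => MulEquiv.ext fun w => ?_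
    exact (h.ge (Subgroup.mem_top w) : w ∈ S) t ht

theorem exists_normal_five {Γ : Type*} [Group Γ] [Finite Γ] [Nontrivial Γ] (hsol : Group.IsSolvable Γ)
    {c : ℕ} (hΓ : Nat.card Γ ∣ 2 ^ c * 5)
    (hno : ∀ T : Subgroup Γ, T.Normal → IsPGroup 2 T → T = ⊥) :
    ∃ R : Subgroup Γ, R.Normal ∧ Nat.card R = 5 := by
  classical
  obtain ⟨k, hk⟩ := hsol.solvable
  obtain ⟨j, hj, hj'⟩ : ∃ j, derivedSeries Γ j ≠ ⊥ ∧ derivedSeries Γ (j + 1) = ⊥ := by
    induction k with
    | zero => exact absurd hk (by rw [derivedSeries_zero]; exact top_ne_bot)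
    | succ k ih =>
      by_cases h : derivedSeries Γ k = ⊥
      · exact ih h
      · exact ⟨k, h, hk⟩
  set B := derivedSeries Γ j
  have hBn : B.Normal := derivedSeries_normal Γ j
  have hBab : ∀ a ∈ B, ∀ b ∈ B, a * b = b * a := fun a ha b hb =>
    commutatorElement_eq_one_iff_mul_comm.1 (Subgroup.mem_bot.1
      (hj' ▸ Subgroup.commutator_mem_commutator ha hb))
  let T : Subgroup Γ :=
    { carrier := {x | x ∈ B ∧ ∃ i : ℕ, x ^ 2 ^ i = 1}
      one_mem' := ⟨B.one_mem, 0, one_pow _⟩
      mul_mem' := fun {a b} ha hb => ⟨B.mul_mem ha.1 hb.1, by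
        obtain ⟨i, hi⟩ := ha.2; obtain ⟨i', hi'⟩ := hb.2
        refine ⟨i + i', ?_⟩
        rw [(show Commute a b from hBab a ha.1 b hb.1).mul_pow, pow_add, pow_mul, hi, one_pow, one_mul,
          mul_comm, pow_mul, hi', one_pow]⟩
      inv_mem' := fun {a} ha => ⟨B.inv_mem ha.1, by
        obtain ⟨i, hi⟩ := ha.2
        exact ⟨i, by rw [inv_pow, hi, inv_one]⟩⟩ }
  have hTn : T.Normal := ⟨fun x hx g => ⟨hBn.conj_mem x hx.1 g, by
    obtain ⟨i, hi⟩ := hx.2
    exact ⟨i, by rw [conj_pow, hi, mul_one, mul_inv_cancel]⟩⟩⟩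
  have hT := hno T hTn fun x => by
    obtain ⟨i, hi⟩ := x.2.2
    exact ⟨i, Subtype.ext hi⟩
  have hodd : ¬ 2 ∣ Nat.card B := fun h => by
    haveI : Fact (Nat.Prime 2) := ⟨Nat.prime_two⟩
    obtain ⟨x, hx⟩ := exists_prime_orderOf_dvd_card' (G := B) 2 h
    have hxT : (x : Γ) ∈ T := ⟨x.2, 1, by
      rw [pow_one, ← hx, ← Subgroup.orderOf_coe, pow_orderOf_eq_one]⟩
    rw [hT, Subgroup.mem_bot] at hxT
    rw [← Subgroup.orderOf_coe, hxT, orderOf_one] at hx
    norm_num at hx
  refine ⟨B, hBn, ?_⟩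
  have h5 : Nat.card B ∣ 5 := (Nat.Coprime.dvd_of_dvd_mul_left
    (Nat.Coprime.pow_right c ((Nat.prime_two.coprime_iff_not_dvd.2 hodd).symm))
    ((Subgroup.card_subgroup_dvd_card B).trans hΓ))
  exact ((Nat.dvd_prime Nat.prime_five).1 h5).resolve_left fun h => hj (Subgroup.card_eq_one.1 h)

/-- A kernel of order at most 32. -/
theorem card_ker_conj_le {G : Type u} [Group G] [Finite G] {K : Type*} [Field K] [Finite K]
    {V : Type v} [AddCommGroup V] [Module K V] [Finite V] [Nontrivial V] [DistribMulAction G V]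
    [FaithfulSMul G V] (S : ScalarSection G K V 2) (hC : Subgroup.centralizer (S.A : Set G) = ⊤)
    (hK : Nat.card K = 3) (hV : Module.finrank K V = 4) (hW : Nat.card S.W = 16) :
    Nat.card S.conj.ker ≤ 32 := by
  classical
  haveI : Fact (Nat.Prime 2) := ⟨Nat.prime_two⟩
  have := Fintype.ofFinite S.W
  letI : CommGroup S.W :=
    { (inferInstance : Group S.W) with
      mul_comm := by
        intro a b
        obtain ⟨a, rfl⟩ := QuotientGroup.mk_surjective a
        obtain ⟨b, rfl⟩ := QuotientGroup.mk_surjective b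
        rw [← commutatorElement_eq_one_iff_mul_comm]
        exact (QuotientGroup.eq_one_iff (⁅a, b⁆)).2 (S.comm a a.2 b b.2) }
  -- a character of `Kˣ`
  have hKu : Nat.card Kˣ = 2 := by rw [Nat.card_units, hK]
  obtain ⟨ψ, hψ⟩ : ∃ ψ : Kˣ →* ℂˣ, Function.Injective ψ := by
    let e : Kˣ ≃* rootsOfUnity 2 ℂ := mulEquivOfCyclicCardEq (by
      rw [hKu, Complex.card_rootsOfUnity])
    exact ⟨(rootsOfUnity 2 ℂ).subtype.comp e.toMonoidHom, Subtype.val_injective.comp e.injective⟩
  have hmemA : ∀ (g : S.conj.ker) (m : ↥S.M), ⁅(g : G), (m : G)⁆ ∈ S.A := fun g m =>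
    S.commutator_mem_of_conj (MonoidHom.mem_ker.mp g.2) m.2
  have hlinA : ∀ (g : G), g ∈ Subgroup.centralizer (S.A : Set G) := fun g => hC ▸ Subgroup.mem_top g
  let f : S.conj.ker → ↥S.M → ℂˣ := fun g m => ψ (S.χ ⟨⁅(g : G), (m : G)⁆, hmemA g m⟩)
  have hfm : ∀ g (m m' : ↥S.M), f g (m * m') = f g m * f g m' := by
    intro g m m'
    show ψ _ = ψ _ * ψ _
    rw [← map_mul ψ, ← map_mul S.χ]
    refine congrArg ψ (congrArg S.χ (Subtype.ext ?_))
    show ⁅(g : G), (m : G) * m'⁆ = ⁅(g : G), (m : G)⁆ * ⁅(g : G), (m' : G)⁆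
    have h1 := S.commute_of_mem (hmemA g m') (hlinA (m : G))
    rw [show ⁅(g : G), (m : G) * m'⁆ = ⁅(g : G), (m : G)⁆ * ((m : G) * ⁅(g : G), (m' : G)⁆ * (m : G)⁻¹) by
      simp only [commutatorElement_def]; group, h1, mul_inv_cancel_right]
  let F : S.conj.ker → (S.W →* ℂˣ) := fun g => QuotientGroup.lift _
    { toFun := f g
      map_one' := by
        show ψ _ = 1
        rw [show (⟨⁅(g : G), ((1 : ↥S.M) : G)⁆, hmemA g 1⟩ : ↥S.A) = 1 from
          Subtype.ext (commutatorElement_one_right _), map_one, map_one]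
      map_mul' := hfm g }
    fun m hm => by
      show ψ _ = 1
      rw [show (⟨⁅(g : G), (m : G)⁆, hmemA g m⟩ : ↥S.A) = 1 from
        Subtype.ext (commutatorElement_eq_one_iff_mul_comm.2 (S.commute_of_mem hm (hlinA g))),
        map_one, map_one]
  haveI : Finite (S.W →* ℂˣ) := Nat.finite_of_card_ne_zero (by
    rw [CommGroup.card_monoidHom_of_hasEnoughRootsOfUnity]; exact Nat.card_pos.ne')
  -- fibres are cosets of scalar elements
  have hspan : Submodule.span K (Set.range S.repOp) = ⊤ :=
    S.linearIndependent_repOp.span_eq_top_of_card_eq_finrank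
      (by rw [← Nat.card_eq_fintype_card, hW, Module.finrank_linearMap, hV])
  obtain ⟨v₀, hv₀⟩ := exists_ne (0 : V)
  obtain ⟨φ₀, hφ₀⟩ : ∃ φ : V →ₗ[K] K, φ v₀ ≠ 0 := by
    by_contra! hall
    exact hv₀ ((Module.forall_dual_apply_eq_zero_iff K v₀).mp hall)
  have hscal : ∀ c : G, (∀ m ∈ S.M, c * m = m * c) → ∃ a : K, a ≠ 0 ∧ ∀ x : V, c • x = a • x := by
    intro c hc
    have hall : ∀ (T : Module.End K V) (x : V), c • T x = T (c • x) := by
      intro T
      have hT : T ∈ Submodule.span K (Set.range S.repOp) := hspan.symm ▸ Submodule.mem_top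
      induction hT using Submodule.span_induction with
      | mem T hT =>
        obtain ⟨w, rfl⟩ := hT
        intro x
        show c • ((QuotientGroup.mk_surjective w).choose : G) • x =
          ((QuotientGroup.mk_surjective w).choose : G) • c • x
        rw [← mul_smul, hc _ (QuotientGroup.mk_surjective w).choose.2, mul_smul]
      | zero => intro x; rw [LinearMap.zero_apply, smul_zero, LinearMap.zero_apply]
      | add T T' _ _ hT hT' => intro x; rw [LinearMap.add_apply, smul_add, hT, hT', LinearMap.add_apply]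
      | smul a T _ hT =>
        intro x; rw [LinearMap.smul_apply, S.linear c (hlinA c), hT, LinearMap.smul_apply]
    have h1 : ∀ x : V, c • x = ((φ₀ v₀)⁻¹ * φ₀ (c • v₀)) • x := fun x => by
      have h := hall (LinearMap.smulRight φ₀ x) v₀
      simp only [LinearMap.smulRight_apply, S.linear c (hlinA c)] at h
      rw [mul_smul, ← h, smul_smul, inv_mul_cancel₀ hφ₀, one_smul]
    refine ⟨_, fun h0 => hv₀ ?_, h1⟩
    have h2 := h1 v₀
    rw [h0, zero_smul] at h2
    exact (smul_eq_zero_iff_eq c).1 h2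
  have hfib : ∀ g g' : S.conj.ker, F g = F g' → ∀ m ∈ S.M, ((g : G)⁻¹ * g') * m = m * ((g : G)⁻¹ * g') := by
    intro g g' he m hm
    have hfe : f g ⟨m, hm⟩ = f g' ⟨m, hm⟩ := DFunLike.congr_fun he (QuotientGroup.mk (⟨m, hm⟩ : ↥S.M) : S.W)
    have h := congrArg Subtype.val (S.χ_injective (hψ hfe))
    change ⁅(g : G), m⁆ = ⁅(g' : G), m⁆ at h
    rw [commutatorElement_def, commutatorElement_def, mul_left_inj] at h
    calc (g : G)⁻¹ * g' * m = (g : G)⁻¹ * ((g' : G) * m * (g' : G)⁻¹) * g' := by group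
      _ = (g : G)⁻¹ * ((g : G) * m * (g : G)⁻¹) * g' := by rw [h]
      _ = m * ((g : G)⁻¹ * g') := by group
  -- assemble
  have hinj : ∃ Φ : S.conj.ker → (S.W →* ℂˣ) × Kˣ, Function.Injective Φ := by
    have hsec : ∀ g : S.conj.ker, ∃ g₀ : S.conj.ker, F g₀ = F g ∧
        ∀ g', F g' = F g → Function.invFun F (F g') = g₀ := fun g =>
      ⟨Function.invFun F (F g), Function.invFun_eq ⟨g, rfl⟩, fun g' h => by rw [h]⟩
    have hex : ∀ g : S.conj.ker, ∃ a : Kˣ, ∀ x : V,
        (((Function.invFun F (F g) : S.conj.ker) : G)⁻¹ * g) • x = (a : K) • x := by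
      intro g
      obtain ⟨a, ha, h⟩ := hscal _ (hfib (Function.invFun F (F g)) g (Function.invFun_eq ⟨g, rfl⟩))
      exact ⟨Units.mk0 a ha, h⟩
    choose a ha using hex
    refine ⟨fun g => (F g, a g), fun g g' h => Subtype.ext ?_⟩
    obtain ⟨h1, h2⟩ := Prod.ext_iff.1 h
    refine mul_left_cancel (a := ((Function.invFun F (F g) : S.conj.ker) : G)⁻¹) (eq_of_smul_eq_smul fun x : V => ?_)
    conv_rhs => rw [show F g = F g' from h1]
    rw [ha g, ha g', show a g = a g' from h2]
  obtain ⟨Φ, hΦ⟩ := hinj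
  refine (Nat.card_le_card_of_injective Φ hΦ).trans ?_
  rw [Nat.card_prod, CommGroup.card_monoidHom_of_hasEnoughRootsOfUnity, hW, hKu]

/-- The class number when the section is `2^{1+4}`. -/
theorem section_bound {G : Type u} [Group G] [Finite G] {K : Type*} [Field K] [Finite K]
    {V : Type v} [AddCommGroup V] [Module K V] [Finite V] [Nontrivial V] [DistribMulAction G V]
    [FaithfulSMul G V] (S : ScalarSection G K V 2) (hSC : Subgroup.centralizer (S.A : Set G) = ⊤)
    (hK : Nat.card K = 3) (hV : Module.finrank K V = 4) {b : ℕ} (hG : Nat.card G ∣ 2 ^ b * 5)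
    (hsol : Group.IsSolvable G) {x : G} (hx : orderOf x = 5) (hW : Nat.card S.W = 16)
    (hrK : ((5 : ℕ) : K) ≠ 0)
    (hrk : ∀ k, 0 < k → k < Module.finrank K V → ¬ 5 ∣ Nat.card K ^ k - 1) :
    ∃ e, 0 < e ∧ e ≤ 4 ∧ Nat.card G = 160 * e ∧ Nat.card (ConjClasses G) ≤ 16 * e := by
  classical
  haveI : Fact (Nat.Prime 5) := ⟨Nat.prime_five⟩
  haveI : Fact (Nat.Prime 2) := ⟨Nat.prime_two⟩
  have hmemC : ∀ g : G, g ∈ Subgroup.centralizer (S.A : Set G) := fun g => hSC ▸ Subgroup.mem_top g
  have hxr : x ^ 5 = 1 := hx ▸ pow_orderOf_eq_one x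
  have hA2 : Nat.card S.A ≤ 2 := by
    refine (Nat.card_le_card_of_injective S.χ S.χ_injective).trans ?_
    rw [Nat.card_units, hK]
  have hA2' : 2 ≤ Nat.card S.A := by
    refine (Subgroup.one_lt_card_iff_ne_bot _).2 fun hbot => ?_
    obtain ⟨w, hw⟩ : ∃ w : S.W, w ≠ 1 := by
      have : Nontrivial S.W := Finite.one_lt_card_iff_nontrivial.mp (by omega)
      exact exists_ne 1
    obtain ⟨u, -, hwu⟩ :=
      SolvableTransitive.exists_pair (W := S.W) S.form S.halt S.hexp S.hnd (Subgroup.mem_top w) hw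
    obtain ⟨a, rfl⟩ := QuotientGroup.mk_surjective w
    obtain ⟨c, rfl⟩ := QuotientGroup.mk_surjective u
    refine hwu ?_
    rw [S.form_mk]
    have he : ∀ z : ↥S.A, z = 1 := fun z => Subtype.ext (Subgroup.mem_bot.1 (hbot ▸ z.2))
    rw [he ⟨⁅(a : G), (c : G)⁆, S.comm _ a.2 _ c.2⟩, map_one]
  have hMcard : Nat.card S.M = 32 := by
    have h1 := (S.A.subgroupOf S.M).card_mul_index
    rw [Subgroup.index, hW, Nat.card_congr (Subgroup.subgroupOfEquivOfLe S.le).toEquiv] at h1
    omega
  have hMk : S.M ≤ S.conj.ker := fun y hy => by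
    rw [MonoidHom.mem_ker]
    refine MulEquiv.ext fun w => ?_
    obtain ⟨z, rfl⟩ := QuotientGroup.mk_surjective w
    rw [S.conj_mk, MulAut.one_apply, eq_comm, QuotientGroup.eq, Subgroup.mem_subgroupOf]
    have h := S.comm _ (S.M.inv_mem z.2) _ hy
    simp only [Subgroup.coe_mul, Subgroup.coe_inv, MulAut.conjNormal_apply]
    rwa [show ((z : G))⁻¹ * (y * z * y⁻¹) = ⁅((z : G))⁻¹, y⁆ by rw [commutatorElement_def]; group]
  have hker : Nat.card S.conj.ker = 32 := le_antisymm (card_ker_conj_le S hSC hK hV hW)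
    (hMcard ▸ Subgroup.card_le_of_le hMk)
  set Γ := S.conj.range
  let π : G →* Γ := S.conj.rangeRestrict
  have hπ : Function.Surjective π := S.conj.rangeRestrict_surjective
  have hkπ : π.ker = S.conj.ker := S.conj.ker_rangeRestrict
  have hfix : ∀ y : G, orderOf y = 5 → ∀ w : S.W, S.conj y w = w → w = 1 := by
    intro y hy w hw
    by_contra hw1
    refine S.not_fixed_of_orderOf (r := 5) (by norm_num) (hmemC y) (hy ▸ pow_orderOf_eq_one y)
      (fun h => by rw [h, orderOf_one] at hy; norm_num at hy) hrK hrk (fun i hi hlt => ?_) hw1 hw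
    rw [hW] at hlt
    have : i < 2 := by
      by_contra h
      have := Nat.pow_le_pow_right two_pos (show 4 ≤ 2 * i by omega)
      omega
    interval_cases i; norm_num
  set σx : MulAut S.W := S.conj x
  have hσ5 : σx ^ 5 = 1 := by rw [← map_pow, hxr, map_one]
  have hΓcard : Nat.card Γ ∣ 2 ^ b * 5 :=
    (Subgroup.card_dvd_of_surjective π hπ).trans hG
  have hno : ∀ T : Subgroup Γ, T.Normal → IsPGroup 2 T → T = ⊥ := by
    intro T hT hTp
    have h := two_group_trivial hW σx hσ5 (hfix x hx) (T.map Γ.subtype) (hTp.map _) (by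
      rintro _ ⟨t, ht, rfl⟩
      refine ⟨(π x)⁻¹ * t * π x, by simpa using hT.conj_mem t ht (π x)⁻¹, rfl⟩)
    rwa [Subgroup.map_eq_bot_iff_of_injective _ Γ.subtype_injective] at h
  have hΓsol : Group.IsSolvable Γ := Group.isSolvable_of_surjective (f := π) hπ
  haveI : Nontrivial Γ := ⟨⟨π x, 1, fun h => by
    obtain ⟨w, hw⟩ : ∃ w : S.W, w ≠ 1 := by
      have : Nontrivial S.W := Finite.one_lt_card_iff_nontrivial.mp (by omega)
      exact exists_ne 1
    refine hw (hfix x hx w ?_)
    rw [show S.conj x = 1 from congrArg Subtype.val h]; rfl⟩⟩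
  obtain ⟨R, hRn, hR5⟩ := exists_normal_five hΓsol hΓcard hno
  haveI := hRn
  have hfixR : ∀ σ ∈ R, σ ≠ 1 → ∀ w : S.W, (σ : MulAut S.W) w = w → w = 1 := by
    intro σ hσ hσ1 w hw
    obtain ⟨g, rfl⟩ := hπ σ
    have ho : orderOf (π g) = 5 := orderOf_eq_prime (by
      have h : (⟨π g, hσ⟩ : R) ^ 5 = 1 := by rw [← hR5]; exact pow_card_eq_one'
      exact congrArg Subtype.val h) hσ1
    have hpos := orderOf_pos g
    obtain ⟨c, hc⟩ : 5 ∣ orderOf g := ho ▸ orderOf_map_dvd π g
    -- a power of `g` of order five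
    have hgo : orderOf (g ^ c) = 5 := by
      rw [orderOf_pow' g (by rintro rfl; rw [mul_zero] at hc; omega), hc,
        Nat.gcd_eq_right (dvd_mul_left c 5), Nat.mul_div_cancel _ (by
          rcases Nat.eq_zero_or_pos c with rfl | h
          · rw [mul_zero] at hc; omega
          · exact h)]
    refine hfix _ hgo w ?_
    have hall : ∀ k : ℕ, (S.conj g ^ k) w = w := by
      intro k
      induction k with
      | zero => rfl
      | succ k ih =>
        rw [pow_succ, MulAut.mul_apply, show S.conj g w = w from hw, ih]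
    rw [map_pow]; exact hall c
  have hcR : ∀ σ ∈ R, σ ≠ 1 → Subgroup.centralizer ({σ} : Set Γ) ≤ R := by
    intro σ hσ hσ1
    have hσ5' : (σ : MulAut S.W) ^ 5 = 1 := by
      have h : (⟨σ, hσ⟩ : R) ^ 5 = 1 := by rw [← hR5]; exact pow_card_eq_one'
      exact congrArg Subtype.val (congrArg Subtype.val h)
    set Cσ := Subgroup.centralizer ({σ} : Set Γ)
    have hodd : ¬ 2 ∣ Nat.card Cσ := fun h => by
      obtain ⟨c, hc⟩ := exists_prime_orderOf_dvd_card' (G := Cσ) 2 h
      have hcσ := Subgroup.mem_centralizer_singleton_iff.1 c.2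
      have := two_group_trivial hW (σ : MulAut S.W) hσ5' (hfixR σ hσ hσ1)
        (Subgroup.zpowers (((c : Γ)) : MulAut S.W))
        (IsPGroup.of_card (n := 1) (by
          rw [Nat.card_zpowers, pow_one, Subgroup.orderOf_coe, Subgroup.orderOf_coe, hc]))
        (fun t ht => by
          obtain ⟨i, rfl⟩ := ht
          have hcomm' : Commute (((c : Γ)) : MulAut S.W) (σ : MulAut S.W) := congrArg Subtype.val hcσ
          exact ⟨i, by rw [mul_assoc, (hcomm'.zpow_left i).eq, inv_mul_cancel_left]⟩)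
      rw [Subgroup.zpowers_eq_bot] at this
      rw [← Subgroup.orderOf_coe, ← Subgroup.orderOf_coe, this, orderOf_one] at hc
      norm_num at hc
    have h5 : Nat.card Cσ ∣ 5 := Nat.Coprime.dvd_of_dvd_mul_left
      (Nat.Coprime.pow_right b ((Nat.prime_two.coprime_iff_not_dvd.2 hodd).symm))
      ((Subgroup.card_subgroup_dvd_card Cσ).trans hΓcard)
    have hRC : R ≤ Cσ := fun s hs => by
      haveI : IsCyclic R := isCyclic_of_prime_card (p := 5) hR5
      letI : CommGroup R := IsCyclic.commGroup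
      exact Subgroup.mem_centralizer_singleton_iff.2
        (congrArg Subtype.val (mul_comm (⟨s, hs⟩ : R) ⟨σ, hσ⟩))
    exact (Subgroup.eq_of_le_of_card_ge hRC (hR5.symm ▸ Nat.le_of_dvd (by norm_num) h5)).ge
  set e := R.index with hedef
  -- the kernel meets a centralizer in few elements
  have hkerM : π.ker = S.M := by
    rw [hkπ]
    exact (Subgroup.eq_of_le_of_card_ge hMk (by rw [hker, hMcard])).symm
  have hDbound : ∀ (g : G) (m : ℕ), Nat.card {w : S.W // S.conj g w = w} ≤ m →
      Nat.card ↥(π.ker ⊓ Subgroup.centralizer ({g} : Set G)) ≤ 2 * m := by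
    intro g m hm
    set D := π.ker ⊓ Subgroup.centralizer ({g} : Set G)
    have hDM : D ≤ S.M := hkerM ▸ inf_le_left
    let φ : D →* S.W := (QuotientGroup.mk' _).comp (Subgroup.inclusion hDM)
    have h1 := φ.ker.card_mul_index
    rw [Subgroup.index_ker] at h1
    have hk2 : Nat.card φ.ker ≤ 2 := by
      refine le_trans (Nat.card_le_card_of_injective (fun y => (⟨(y : D), ?_⟩ : ↥S.A)) ?_) hA2
      · exact Subgroup.mem_subgroupOf.1 ((QuotientGroup.eq_one_iff (Subgroup.inclusion hDM (y : D))).1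
          (MonoidHom.mem_ker.1 y.2))
      · exact fun y y' h => Subtype.ext (Subtype.ext (congrArg (fun z : ↥S.A => (z : G)) h))
    have hr : Nat.card φ.range ≤ m := by
      refine le_trans (Nat.card_le_card_of_injective (fun w => (⟨w.1, ?_⟩ : {w : S.W // S.conj g w = w}))
        fun a c h => Subtype.ext (congrArg (fun z : {w : S.W // S.conj g w = w} => z.1) h)) hm
      obtain ⟨y, hy⟩ := w.2
      rw [← hy]
      show S.conj g (QuotientGroup.mk _) = _
      rw [S.conj_mk]
      refine congrArg QuotientGroup.mk (Subtype.ext ?_)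
      rw [MulAut.conjNormal_apply]
      show g * (y : G) * g⁻¹ = (y : G)
      rw [← Subgroup.mem_centralizer_singleton_iff.1 y.2.2, mul_inv_cancel_right]
    calc Nat.card D = Nat.card φ.ker * Nat.card φ.range := h1.symm
      _ ≤ 2 * m := Nat.mul_le_mul hk2 hr
  have hk : Nat.card (ConjClasses G) ≤ 16 * e := by
    have := Fintype.ofFinite G
    refine sum_centralizer_le π hπ R hR5 e rfl (hkπ ▸ hker) (fun g hg hg1 => ?_) (fun g hg => ?_) hcR
    · refine (hDbound g 1 ?_).trans (le_of_eq (mul_one 2))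
      haveI : Subsingleton {w : S.W // S.conj g w = w} := ⟨fun a c => Subtype.ext (by
        rw [hfixR (π g) hg hg1 a.1 a.2, hfixR (π g) hg hg1 c.1 c.2])⟩
      exact Finite.card_le_one_iff_subsingleton.2 inferInstance
    · refine hDbound g 8 ?_
      let F : Subgroup S.W :=
        { carrier := {w | S.conj g w = w}
          one_mem' := map_one _
          mul_mem' := fun {a c} ha hc => by
            show S.conj g (a * c) = a * c
            rw [map_mul, ha, hc]
          inv_mem' := fun {a} ha => by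
            show S.conj g a⁻¹ = a⁻¹
            rw [map_inv, ha] }
      have hne : F ≠ ⊤ := fun h => hg (by
        rw [show π g = 1 from Subtype.ext (MulEquiv.ext fun w => (h.ge (Subgroup.mem_top w) : w ∈ F))]
        exact R.one_mem)
      have hd16 : Nat.card F ∣ 16 := hW ▸ Subgroup.card_subgroup_dvd_card F
      have hlt : Nat.card F < 16 := hW ▸ lt_of_le_of_ne (Nat.le_of_dvd Nat.card_pos
        (Subgroup.card_subgroup_dvd_card F)) fun h => hne (Subgroup.eq_top_of_card_eq _ h)
      show Nat.card F ≤ 8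
      obtain ⟨c, hc⟩ := hd16
      rcases (show c ≤ 1 ∨ 2 ≤ c by omega) with h | h
      · have := Nat.mul_le_mul_left (Nat.card F) h; omega
      · have := Nat.mul_le_mul_left (Nat.card F) h; omega
  have he4 : e ≤ 4 := by
    have hRC : (MulAut.conjNormal : Γ →* MulAut R).ker = R := by
      ext σ
      rw [MonoidHom.mem_ker]
      constructor
      · intro h
        obtain ⟨s, hs⟩ : ∃ s : R, s ≠ 1 := by
          have : Nontrivial R := Finite.one_lt_card_iff_nontrivial.mp (by omega)
          exact exists_ne 1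
        refine hcR s s.2 (fun h' => hs (Subtype.ext h')) (Subgroup.mem_centralizer_singleton_iff.2 ?_)
        have h2 : σ * (s : Γ) * σ⁻¹ = s := congrArg Subtype.val (DFunLike.congr_fun h s)
        exact mul_inv_eq_iff_eq_mul.1 h2
      · intro hσ
        haveI : IsCyclic R := isCyclic_of_prime_card (p := 5) hR5
        letI : CommGroup R := IsCyclic.commGroup
        refine MulEquiv.ext fun s => Subtype.ext ?_
        rw [MulAut.conjNormal_apply, MulAut.one_apply,
          show σ * (s : Γ) = (s : Γ) * σ from congrArg Subtype.val (mul_comm (⟨σ, hσ⟩ : R) s),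
          mul_inv_cancel_right]
    have h := Subgroup.index_ker (MulAut.conjNormal : Γ →* MulAut R)
    rw [hRC, ← hedef] at h
    haveI : IsCyclic R := isCyclic_of_prime_card (p := 5) hR5
    rw [h]
    refine (Subgroup.card_le_card_group _).trans (le_of_eq ?_)
    rw [IsCyclic.card_mulAut, hR5, Nat.totient_prime Nat.prime_five]
  have hGcard : Nat.card G = 160 * e := by
    rw [π.ker.card_eq_card_quotient_mul_card_subgroup,
      Nat.card_congr (QuotientGroup.quotientKerEquivOfSurjective π hπ).toEquiv, hkπ, hker,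
      ← R.card_mul_index, hR5]
    ring
  exact ⟨e, Nat.pos_of_ne_zero R.index_ne_zero_of_finite, he4, hGcard, hk⟩

variable {G : Type u} [Group G] [Finite G] {V : Type v} [AddCommGroup V] [DistribMulAction G V]
  [Finite V] [Nontrivial V] [FaithfulSMul G V]

/-- The bounds for a transitive `{2, 5}`-group on 81 vectors. -/
theorem good_eighty (hV : ∀ v : V, 3 • v = 0) (hcard : Nat.card V = 3 ^ 4) {b : ℕ}
    (hG : Nat.card G ∣ 2 ^ b * 5) (hsol : Group.IsSolvable G)
    (htrans : ∀ a b : V, a ≠ 0 → b ≠ 0 → ∃ g : G, g • a = b) : Good G V 3 := by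
  classical
  haveI : Fact (Nat.Prime 3) := ⟨Nat.prime_three⟩
  haveI : Fact (Nat.Prime 5) := ⟨Nat.prime_five⟩
  haveI : Fact (Nat.Prime 2) := ⟨Nat.prime_two⟩
  have hcop : ¬ 3 ∣ Nat.card G := fun h => by
    rcases (Nat.prime_three.dvd_mul).1 (h.trans hG) with h | h
    · exact absurd (Nat.le_of_dvd two_pos (Nat.prime_three.dvd_of_dvd_pow h)) (by norm_num)
    · norm_num at h
  have hprim : ∀ i, 0 < i → i < 4 → ¬ 5 ∣ 3 ^ i - 1 := by
    intro i hi hi4; interval_cases i <;> decide
  obtain ⟨v₀, hv₀⟩ := exists_ne (0 : V)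
  have h80 : 80 ∣ Nat.card G := ⟨_, by
    rw [card_eq_stabilizer_mul htrans (G := G) hv₀, hcard]; rfl⟩
  have h5G : 5 ∣ Nat.card G := Nat.dvd_trans (by norm_num) h80
  -- all elements of order five commute: then the Sylow 5-subgroup is normal
  have hgood5 : (∀ a c : G, orderOf a = 5 → orderOf c = 5 → a * c = c * a) → Good G V 3 := by
    intro hab
    obtain ⟨x, hx⟩ := exists_prime_orderOf_dvd_card' (G := G) 5 h5G
    haveI : (Subgroup.normalClosure {x}).Normal := Subgroup.normalClosure_normal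
    refine good_of_normal Nat.prime_three hV hcop htrans hcard (r := 5) (by norm_num) hprim
      (Subgroup.normalClosure {x}) hx (Subgroup.subset_normalClosure rfl) fun y hy => ?_
    have hle : Subgroup.normalClosure {x} ≤ Subgroup.centralizer ({x} : Set G) := by
      refine (Subgroup.closure_le _).2 fun c hc => ?_
      obtain ⟨x', rfl, hxc⟩ := Group.mem_conjugatesOfSet_iff.1 hc
      refine Subgroup.mem_centralizer_singleton_iff.2 (hab c x' ?_ hx)
      obtain ⟨g, rfl⟩ := isConj_iff.1 hxc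
      rw [← hx]
      exact orderOf_injective (MulAut.conj g).toMonoidHom (MulAut.conj g).injective x'
    exact Subgroup.mem_centralizer_singleton_iff.1 (hle hy)
  obtain ⟨A, hAn, hA, hmax⟩ := exists_maximal_abelian_normal (G := G)
  by_cases hCA : Subgroup.centralizer (A : Set G) = A
  · exact good_of_selfCentralizing Nat.prime_three hV hcop htrans A hA hCA
  have hF := isField_spanRing htrans hA (V := V)
  letI : Field ↥(spanRing V A) := hF.toField
  haveI : Finite (AddMonoid.End V) :=
    Finite.of_injective (fun f => (f : V → V)) DFunLike.coe_injective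
  have hq0 : ((3 : ℕ) : ↥(spanRing V A)) = 0 := Subtype.ext (AddMonoidHom.ext fun v => by
    rw [show ((((3 : ℕ) : ↥(spanRing V A))) : AddMonoid.End V) = ((3 : ℕ) : AddMonoid.End V) from rfl]
    exact hV v)
  haveI : CharP ↥(spanRing V A) 3 := (CharP.charP_iff_prime_eq_zero Nat.prime_three).mpr hq0
  obtain ⟨d, hd⟩ : ∃ d, Nat.card ↥(spanRing V A) = 3 ^ d := by
    letI := ZMod.algebra ↥(spanRing V A) 3
    exact ⟨_, by rw [Module.natCard_eq_pow_finrank (K := ZMod 3), Nat.card_zmod]⟩
  set C := Subgroup.centralizer (A : Set G) with hCdef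
  have hlin : ∀ g ∈ C, ∀ (c : ↥(spanRing V A)) (x : V), g • c • x = c • g • x :=
    fun g hg c x => DFunLike.congr_fun (spanRing_commute hg c.2) x
  set j := Module.finrank ↥(spanRing V A) V with hjdef
  have hdj : 4 = d * j := by
    refine Nat.pow_right_injective (by norm_num : 2 ≤ 3) ?_
    show 3 ^ 4 = 3 ^ (d * j)
    rw [← hcard, Module.natCard_eq_pow_finrank (K := ↥(spanRing V A)), hd, pow_mul]
  have hidx : C.index ∣ d := by rw [hCdef, ← ker_galois (V := V) A]; exact index_dvd_of_ker 3 hd (galois V A)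
  have hAC : A ≤ C := fun a ha b hb => congrArg Subtype.val (hA.is_comm.comm (⟨b, hb⟩ : ↥A) ⟨a, ha⟩)
  have hCab : ¬ ∀ a ∈ C, ∀ c ∈ C, a * c = c * a := fun h => hCA (hmax C inferInstance h hAC)
  have hd4 : d = 1 ∨ d = 2 ∨ d = 4 := by
    have h4 : d ∣ 4 := ⟨j, hdj⟩
    have := Nat.le_of_dvd (by norm_num) h4
    interval_cases d <;> omega
  rcases hd4 with rfl | rfl | rfl
  swap
  · -- `V` is a plane over the field of nine elements
    have hj : j = 2 := by omega
    let ρR : C →* Module.End ↥(spanRing V A) V :=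
      { toFun := fun g =>
          { toFun := fun x => (g : G) • x
            map_add' := fun x y => smul_add _ _ _
            map_smul' := fun c x => hlin g g.2 c x }
        map_one' := LinearMap.ext fun x => one_smul G x
        map_mul' := fun a c => LinearMap.ext fun x => mul_smul (a : G) (c : G) x }
    have hρR : Function.Injective ρR := fun a c h =>
      Subtype.ext (eq_of_smul_eq_smul fun x : V => LinearMap.congr_fun h x)
    have hcopC : ¬ 3 ∣ Nat.card C := fun h => hcop (h.trans (Subgroup.card_subgroup_dvd_card C))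
    rcases shape ρR 3 hj hρR hcopC with h | ⟨t, ht, h⟩ | ⟨t, ht, hn, hi2⟩ | h
    · exact absurd (fun a ha c hc => congrArg Subtype.val
        (commute_of_mem_scalarSub ρR (h ⟨c, hc⟩) hρR ⟨a, ha⟩)) hCab
    · exact absurd (fun a ha c hc => congrArg Subtype.val
        (centralizer_comm ρR hj hρR ht (h ⟨a, ha⟩) (h ⟨c, hc⟩))) hCab
    · haveI := hn
      refine hgood5 fun a c ha hc => ?_
      have hmem : ∀ z : G, orderOf z = 5 → ∃ hz : z ∈ C,
          (⟨z, hz⟩ : C) ∈ Subgroup.centralizer ({t} : Set C) := by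
        intro z hz
        obtain ⟨m, hm⟩ := exists_pow_eq_self_of_coprime (x := z) (n := C.index)
          ((Nat.Coprime.coprime_dvd_left hidx) (by rw [hz]; norm_num))
        have hzC : z ∈ C := hm ▸ pow_mem (Subgroup.pow_index_mem C z) m
        refine ⟨hzC, ?_⟩
        obtain ⟨m', hm'⟩ := exists_pow_eq_self_of_coprime (x := (⟨z, hzC⟩ : C)) (n := 2)
          (by rw [← Subgroup.orderOf_coe]; show Nat.Coprime 2 (orderOf z); rw [hz]; norm_num)
        exact hm' ▸ pow_mem (hi2 ▸ Subgroup.pow_index_mem _ _) m'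
      obtain ⟨ha', ha''⟩ := hmem a ha
      obtain ⟨hc', hc''⟩ := hmem c hc
      exact congrArg Subtype.val (centralizer_comm ρR hj hρR ht ha'' hc'')
    · exfalso
      have h3 : 3 ∣ Nat.card (C ⧸ scalarSub ρR) := by
        rcases h with ⟨⟨e'⟩⟩ | ⟨⟨e'⟩⟩ | ⟨⟨e'⟩⟩ <;> rw [Nat.card_congr e'.toEquiv]
        · rw [nat_card_alternatingGroup, Nat.card_eq_fintype_card, Fintype.card_fin]; decide
        · rw [Nat.card_perm, Nat.card_eq_fintype_card, Fintype.card_fin]; decide
        · rw [nat_card_alternatingGroup, Nat.card_eq_fintype_card, Fintype.card_fin]; decide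
      exact hcopC (h3.trans (Subgroup.card_quotient_dvd_card _))
  swap
  · -- one-dimensional: `C` would be abelian
    have hj : j = 1 := by omega
    refine absurd (fun a ha c hc => eq_of_smul_eq_smul fun x : V => ?_) hCab
    obtain ⟨ca, hca⟩ := (finrank_eq_one_iff_of_nonzero' v₀ hv₀).mp hj (a • v₀)
    obtain ⟨cc, hcc⟩ := (finrank_eq_one_iff_of_nonzero' v₀ hv₀).mp hj (c • v₀)
    obtain ⟨cx, hcx⟩ := (finrank_eq_one_iff_of_nonzero' v₀ hv₀).mp hj x
    rw [← hcx, mul_smul, mul_smul, hlin c hc, ← hcc, hlin a ha, hlin a ha, ← hca, hlin a ha, hlin c hc,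
      ← hca, hlin c hc, ← hcc]
    simp only [← mul_smul, mul_comm, mul_left_comm]
  -- the scalars are `±1`
  have hj : j = 4 := by omega
  have hCtop : C = ⊤ := Subgroup.index_eq_one.mp (Nat.dvd_one.mp hidx)
  obtain ⟨p, M, hp, hMn, hAM, hMA, hMC, hexp, hcomm, hcenter⟩ := exists_section hsol hA hmax hCA
  haveI := Fact.mk hp
  let χ : ↥A →* (↥(spanRing V A))ˣ :=
    MonoidHom.toHomUnits (((toEnd V).comp A.subtype).codRestrict (spanRing V A)
      fun a => toEnd_mem_spanRing a.2)
  obtain ⟨S, hSA⟩ : ∃ S : ScalarSection G ↥(spanRing V A) V p, S.A = A :=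
    ⟨⟨A, M, χ, hAn, hMn, fun a x => rfl, hlin, hMC, hAM, hMA, hexp, hcomm, hcenter⟩, rfl⟩
  have hK : Nat.card ↥(spanRing V A) = 3 := by rw [hd]; rfl
  have hp2 : p = 2 := by
    obtain ⟨w, hw⟩ : ∃ w : S.W, w ≠ 1 := by
      obtain ⟨i, hi1, hicard, -⟩ := S.card_section
      have : Nontrivial S.W := Finite.one_lt_card_iff_nontrivial.mp
        (hicard ▸ Nat.one_lt_pow (by omega) hp.one_lt)
      exact exists_ne 1
    obtain ⟨u, -, hwu⟩ :=
      SolvableTransitive.exists_pair (W := S.W) S.form S.halt S.hexp S.hnd (Subgroup.mem_top w) hw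
    have ho : orderOf (S.form w u) = p :=
      orderOf_eq_prime (pow_eq_one_apply S.form S.halt S.hexp w u) hwu
    have hd2 : orderOf (S.form w u) ∣ Nat.card (↥(spanRing V A))ˣ := orderOf_dvd_natCard _
    rw [Nat.card_units, hK, ho] at hd2
    exact (Nat.prime_dvd_prime_iff_eq hp Nat.prime_two).1 hd2
  subst hp2
  have hSC : Subgroup.centralizer (S.A : Set G) = ⊤ := by rw [hSA]; exact hCtop
  have hmemC : ∀ g : G, g ∈ Subgroup.centralizer (S.A : Set G) := fun g => hSC ▸ Subgroup.mem_top g
  obtain ⟨x, hx⟩ := exists_prime_orderOf_dvd_card' (G := G) 5 h5G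
  have hxr : x ^ 5 = 1 := hx ▸ pow_orderOf_eq_one x
  have hx1 : x ≠ 1 := fun h => by rw [h, orderOf_one] at hx; norm_num at hx
  have hrK : ((5 : ℕ) : ↥(spanRing V A)) ≠ 0 := by
    rw [Ne, CharP.cast_eq_zero_iff _ 3]; norm_num
  have hrk : ∀ k, 0 < k → k < Module.finrank ↥(spanRing V A) V →
      ¬ 5 ∣ Nat.card ↥(spanRing V A) ^ k - 1 := by
    rw [hK, ← hjdef, hj]; exact hprim
  have hW : Nat.card S.W = 16 := by
    obtain ⟨i, hi1, hicard, hij⟩ := S.card_section
    obtain ⟨i', hi', hle, hdvd⟩ :=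
      S.exists_dvd_of_orderOf (r := 5) (by norm_num) (hmemC x) hxr hx1 hrK hrk
    rw [← hjdef, hj] at hij
    have hi2 : i ≤ 2 := by
      by_contra h
      have := Nat.pow_le_pow_right (two_pos) (show 3 ≤ i by omega)
      omega
    rw [hicard] at hle ⊢
    have : 2 * i' ≤ 2 * i := (Nat.pow_le_pow_iff_right (by norm_num : 1 < 2)).1 hle
    have : i' ≠ 1 := fun h => by subst h; norm_num at hdvd
    obtain rfl : i = 2 := by omega
    rfl
  obtain ⟨e, he0, he4, hGcard, hk⟩ :=
    section_bound S hSC hK (by rw [← hjdef, hj]) hG hsol hx hW hrK hrk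
  refine ⟨fun v hv => ?_, Or.inl ?_⟩
  · have h := card_eq_stabilizer_mul htrans (G := G) hv
    rw [hcard, hGcard] at h
    have hlt : Nat.card (ConjClasses G) + Nat.card (MulAction.stabilizer G v) < Nat.card V := by
      rw [hcard]
      norm_num at h ⊢
      omega
    exact ⟨hlt.le, fun h' => absurd h' hlt.ne⟩
  · have := Fintype.ofFinite G
    have hsum : Nat.card G * 2 + (Nat.card G - 2) ≤ Nat.card (ConjClasses G) * Nat.card G := by
      rw [card_conjClasses_mul_card, ← Finset.add_sum_erase _ _ (Finset.mem_univ (1 : G))]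
      have h1 : Nat.card (Subgroup.centralizer ({(1 : G)} : Set G)) = Nat.card G := by
        rw [show Subgroup.centralizer ({(1 : G)} : Set G) = ⊤ from eq_top_iff.2 fun g _ =>
          Subgroup.mem_centralizer_singleton_iff.2 (by rw [mul_one, one_mul]), Subgroup.card_top]
      have h2 : (Nat.card G - 1) * 2 ≤
          ∑ y ∈ Finset.univ.erase (1 : G), Nat.card (Subgroup.centralizer ({y} : Set G)) := by
        rw [Nat.card_eq_fintype_card, ← Finset.card_univ, ← Finset.card_erase_of_mem (Finset.mem_univ (1 : G)),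
          ← smul_eq_mul, ← Finset.sum_const]
        refine Finset.sum_le_sum fun y hy => (Subgroup.one_lt_card_iff_ne_bot _).2 fun hb => ?_
        have : y ∈ Subgroup.centralizer ({y} : Set G) := Subgroup.mem_centralizer_singleton_iff.2 rfl
        rw [hb, Subgroup.mem_bot] at this
        exact (Finset.mem_erase.1 hy).1 this
      omega
    by_contra hlt
    have := Nat.mul_le_mul_right (Nat.card G) (show Nat.card (ConjClasses G) ≤ 2 by omega)
    omega

end Cfsg.Agent.TransCoprime
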