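import Cfsg.Agent.Lib.Coprime.LiftModPow
import Cfsg.Agent.Lib.DefectOne.GenRep
import Cfsg.Agent.Lib.DefectOne.PadicRep
import Cfsg.Agent.Lib.CharInt.Basic
import Cfsg.Agent.Lib.CharInt.Central
import Mathlib

/-!
# Lifting a coprime linear group over a prime field to the complex numbers

* `exists_faithful_character` : a faithful character of the same degree.
-/

set_option autoImplicit false
set_option linter.style.haveILetI false
set_option linter.unusedSectionVars false

namespace Cfsg.Agent.TransCoprime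

open Cfsg CategoryTheory
open scoped Classical

universe u v

variable {p : ℕ}

/-- All homomorphisms from the `p`-adic integers to `ZMod p` agree. -/
theorem hom_eq_toZMod [Fact (Nat.Prime p)] (ψ : ℤ_[p] →+* ZMod p) (x : ℤ_[p]) :
    ψ x = PadicInt.toZMod x := by
  obtain ⟨t, ht⟩ := Ideal.mem_span_singleton'.1
    (PadicInt.maximalIdeal_eq_span_p (p := p) ▸ PadicInt.toZMod_spec x)
  have hx : x = ((PadicInt.toZMod x).val : ℤ_[p]) + t * (p : ℕ) := by
    rw [← ZMod.cast_eq_val, ht, add_sub_cancel]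
  rw [hx, map_add, map_add, map_mul, map_mul, map_natCast, map_natCast, map_natCast, map_natCast,
    ZMod.natCast_self, mul_zero, mul_zero]

variable {A : Type u} [Group A] [Finite A] {n : ℕ}

/-- A compatible system of lifts gives a lift to the `p`-adic integers. -/
theorem exists_padic_lift [Fact p.Prime] (hA : (Nat.card A).Coprime p)
    (ρ : A →* Matrix (Fin n) (Fin n) (ZMod p)) :
    ∃ ρ' : A →* Matrix (Fin n) (Fin n) ℤ_[p],
      ∀ a, (PadicInt.toZMod (p := p)).mapMatrix (ρ' a) = ρ a := by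
  haveI : Fact (Nat.Prime 2) := ⟨Nat.prime_two⟩
  let S : ℕ → Type u := fun k =>
    {r : A →* Matrix (Fin n) (Fin n) (ZMod (p ^ (k + 1))) //
      ∀ a, Coprime.redMat p (k + 1) k.succ_ne_zero n (r a) = ρ a}
  have hcast : ∀ {k m : ℕ}, k ≤ m → (p ^ (k + 1) ∣ p ^ (m + 1)) := fun h => pow_dvd_pow p (by omega)
  let tr : ∀ {k m : ℕ}, k ≤ m → S m → S k := fun {k m} h r =>
    ⟨((ZMod.castHom (hcast h) (ZMod (p ^ (k + 1)))).mapMatrix.toMonoidHom).comp r.1, fun a => by
      rw [← r.2 a]
      ext i j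
      simp only [Coprime.redMat, Coprime.redHom, MonoidHom.comp_apply, RingHom.toMonoidHom_eq_coe,
        MonoidHom.coe_coe, RingHom.mapMatrix_apply, Matrix.map_apply]
      exact RingHom.congr_fun (RingHom.ext_zmod ((ZMod.castHom (dvd_pow_self p k.succ_ne_zero) (ZMod p)).comp
        (ZMod.castHom (hcast h) (ZMod (p ^ (k + 1)))))
        (ZMod.castHom (dvd_pow_self p m.succ_ne_zero) (ZMod p))) _⟩
  let F : ℕᵒᵖ ⥤ Type u :=
    { obj := fun k => S k.unop
      map := fun {k m} f => TypeCat.ofHom (tr (CategoryTheory.leOfHom f.unop))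
      map_id := fun k => by
        ext r a i j
        exact RingHom.congr_fun (RingHom.ext_zmod (ZMod.castHom (hcast le_rfl) (ZMod (p ^ (k.unop + 1)))) (RingHom.id _)) _
      map_comp := fun {a b c} f g => by
        ext r a' i j
        exact RingHom.congr_fun (RingHom.ext_zmod
          (ZMod.castHom (hcast ((leOfHom g.unop).trans (leOfHom f.unop))) (ZMod (p ^ (c.unop + 1))))
          ((ZMod.castHom (hcast (leOfHom g.unop)) (ZMod (p ^ (c.unop + 1)))).comp
            (ZMod.castHom (hcast (leOfHom f.unop)) (ZMod (p ^ (b.unop + 1)))))) _ }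
  haveI : ∀ k : ℕᵒᵖ, Nonempty (F.obj k) := fun k => by
    obtain ⟨r, hr⟩ := Coprime.exists_lift (p := p) (k := k.unop + 1) k.unop.succ_ne_zero hA ρ
    exact ⟨⟨r, hr⟩⟩
  haveI : ∀ k : ℕᵒᵖ, Finite (F.obj k) := fun k => by
    haveI : NeZero (p ^ (k.unop + 1)) := ⟨pow_ne_zero _ (Fact.out (p := p.Prime)).ne_zero⟩
    exact Finite.of_injective (β := A → Matrix (Fin n) (Fin n) (ZMod (p ^ (k.unop + 1))))
      (fun r => ((r : S k.unop).1 : A → _)) fun a b e => Subtype.ext (DFunLike.coe_injective e)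
  obtain ⟨s, hs⟩ := nonempty_sections_of_finite_inverse_system F
  have hcomp : ∀ {k m : ℕ} (h : k ≤ m), tr h (s (Opposite.op m)) = s (Opposite.op k) := fun h =>
    hs (CategoryTheory.homOfLE h).op
  -- the value at one point
  let R := MvPolynomial (A × Fin n × Fin n) ℤ
  let f : ∀ k : ℕ, R →+* ZMod (p ^ k) := fun k =>
    MvPolynomial.eval₂Hom (Int.castRingHom _) fun z =>
      ZMod.castHom (pow_dvd_pow p k.le_succ) (ZMod (p ^ k))
        ((s (Opposite.op k) : S k).1 z.1 z.2.1 z.2.2)
  have hf : ∀ (k₁ k₂ : ℕ) (hk : k₁ ≤ k₂),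
      (ZMod.castHom (pow_dvd_pow p hk) (ZMod (p ^ k₁))).comp (f k₂) = f k₁ := by
    intro k₁ k₂ hk
    refine MvPolynomial.ringHom_ext (fun r => by simp) fun z => ?_
    simp only [f, RingHom.comp_apply, MvPolynomial.eval₂Hom_X']
    have e := congrArg (fun r : S k₁ => r.1 z.1 z.2.1 z.2.2) (hcomp hk)
    rw [← e]
    simp only [tr, MonoidHom.comp_apply, RingHom.toMonoidHom_eq_coe, MonoidHom.coe_coe,
      RingHom.mapMatrix_apply, Matrix.map_apply]
    exact RingHom.congr_fun (RingHom.ext_zmod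
      ((ZMod.castHom (pow_dvd_pow p hk) (ZMod (p ^ k₁))).comp
        (ZMod.castHom (pow_dvd_pow p k₂.le_succ) (ZMod (p ^ k₂))))
      ((ZMod.castHom (pow_dvd_pow p k₁.le_succ) (ZMod (p ^ k₁))).comp
        (ZMod.castHom (hcast hk) (ZMod (p ^ (k₁ + 1)))))) _
  let L : R →+* ℤ_[p] := PadicInt.lift hf
  have hL : ∀ (k : ℕ) (a : A) (i j : Fin n), PadicInt.toZModPow k (L (MvPolynomial.X (a, i, j))) =
      ZMod.castHom (pow_dvd_pow p k.le_succ) (ZMod (p ^ k)) ((s (Opposite.op k) : S k).1 a i j) :=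
    fun k a i j => by
      have e := RingHom.congr_fun (PadicInt.lift_spec hf k) (MvPolynomial.X (a, i, j))
      rw [RingHom.comp_apply] at e
      exact e.trans (MvPolynomial.eval₂Hom_X' _ _ _)
  let ρ₀ : A → Matrix (Fin n) (Fin n) ℤ_[p] := fun a => Matrix.of fun i j => L (MvPolynomial.X (a, i, j))
  have hρ₀ : ∀ (k : ℕ) (a : A), (PadicInt.toZModPow k).mapMatrix (ρ₀ a) =
      (ZMod.castHom (pow_dvd_pow p k.le_succ) (ZMod (p ^ k))).mapMatrix
        ((s (Opposite.op k) : S k).1 a) :=
    fun k a => Matrix.ext fun i j => hL k a i j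
  have hext : ∀ M M' : Matrix (Fin n) (Fin n) ℤ_[p],
      (∀ k, (PadicInt.toZModPow k).mapMatrix M = (PadicInt.toZModPow k).mapMatrix M') → M = M' :=
    fun M M' h => Matrix.ext fun i j => PadicInt.ext_of_toZModPow.1 fun k =>
      congrFun (congrFun (h k) i) j
  refine ⟨{ toFun := ρ₀
            map_one' := hext _ _ fun k => by simp only [hρ₀, map_one]
            map_mul' := fun a b => hext _ _ fun k => by simp only [hρ₀, map_mul] }, fun a => ?_⟩
  have e := (s (Opposite.op 1) : S 1).2 a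
  rw [← e]
  ext i j
  show PadicInt.toZMod (L (MvPolynomial.X (a, i, j))) = _
  have e1 := hL 1 a i j
  have e2 := hom_eq_toZMod ((ZMod.castHom (dvd_pow_self p one_ne_zero) (ZMod p)).comp
    (PadicInt.toZModPow 1)) (L (MvPolynomial.X (a, i, j)))
  rw [← e2, RingHom.comp_apply, e1]
  simp only [Coprime.redMat, Coprime.redHom, RingHom.mapMatrix_apply, Matrix.map_apply]
  exact RingHom.congr_fun (RingHom.ext_zmod ((ZMod.castHom (dvd_pow_self p one_ne_zero) (ZMod p)).comp
    (ZMod.castHom (pow_dvd_pow p (Nat.le_succ 1)) (ZMod (p ^ 1))))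
    (ZMod.castHom (dvd_pow_self p (Nat.succ_ne_zero 1)) (ZMod p))) _

/-- A coprime faithful representation over `ZMod p` gives a faithful complex character of the same
degree. -/
theorem exists_faithful_character [Fact p.Prime] {G : Type u} [Group G] [Finite G] {V : Type v}
    [AddCommGroup V] [Module (ZMod p) V] [Finite V] (hcop : ¬ p ∣ Nat.card G)
    (ρ : G →* Module.End (ZMod p) V) (hρ : Function.Injective ρ) :
    ∃ χ : G → ℂ, IsCharacter G χ ∧ (∀ g, χ g = χ 1 → g = 1) ∧
      Cfsg.charDegree χ = Module.finrank (ZMod p) V := by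
  set n := Module.finrank (ZMod p) V
  set B := Module.finBasis (ZMod p) V
  let ρm : G →* Matrix (Fin n) (Fin n) (ZMod p) :=
    ((LinearMap.toMatrixAlgEquiv B).toMonoidHom).comp ρ
  have hρm : Function.Injective ρm := (LinearMap.toMatrixAlgEquiv B).injective.comp hρ
  obtain ⟨ρ', hρ'⟩ := exists_padic_lift
    ((Nat.Prime.coprime_iff_not_dvd Fact.out).2 hcop).symm ρm
  obtain ⟨j⟩ := DefectOne.exists_ringEquiv_complex p
  set ι : ℤ_[p] →+* ℂ := (j.toRingHom.comp (algebraMap ℚ_[p] (AlgebraicClosure ℚ_[p]))).comp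
    PadicInt.Coe.ringHom with hι
  have hιinj : Function.Injective ι := fun a b e => by
    simp only [hι, RingHom.comp_apply] at e
    exact Subtype.val_injective ((algebraMap ℚ_[p] (AlgebraicClosure ℚ_[p])).injective
      (j.injective e))
  set σ : G →* Matrix (Fin n) (Fin n) ℂ := (ι.mapMatrix.toMonoidHom).comp ρ'
  set R : Representation ℂ G (Fin n → ℂ) := (Matrix.toLinAlgEquiv'.toMonoidHom).comp σ
  have hchar : IsCharacter G R.character := ⟨n, R, rfl⟩
  have hσinj : Function.Injective σ := fun a b e => hρm (by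
    have e' : ρ' a = ρ' b := Matrix.ext fun i k => hιinj (congrFun (congrFun e i) k)
    rw [← hρ' a, ← hρ' b, e'])
  refine ⟨R.character, hchar, fun g hg => ?_, ?_⟩
  · have hker : g ∈ CharInt.charKernel hchar := hg
    rw [CharInt.charKernel_eq_ker R hchar] at hker
    refine hσinj ?_
    rw [map_one]
    exact Matrix.toLinAlgEquiv'.injective
      ((MonoidHom.mem_ker.1 hker).trans (map_one Matrix.toLinAlgEquiv').symm)
  · rw [Cfsg.charDegree, R.char_one, Module.finrank_fintype_fun_eq_card, Fintype.card_fin]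
    simp [n]

end Cfsg.Agent.TransCoprime
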