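import Cfsg.Agent.Lib.TransCoprime.Semilinear
import Cfsg.Agent.Lib.TransCoprime.Lift
import Cfsg.Agent.Lib.SolvableTransitive.Linear
import Cfsg.Agent.S4485
import Cfsg.Agent.S4503
import Cfsg.Agent.S4504
import Cfsg.Agent.Lib.PSL2.Basic

/-!
# Transitive coprime groups with a large primitive prime divisor

* `centralizer_comm` : the centralizer of an element of primitive prime order is abelian.
* `good_of_normal` : a normal subgroup of primitive prime power order gives the bounds.
* `good_of_large_prime` : so does a large primitive prime divisor.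
-/

set_option autoImplicit false
set_option linter.style.haveILetI false
set_option linter.unusedSectionVars false

namespace Cfsg.Agent.TransCoprime

open Module
open scoped MatrixGroups

universe u v

/-- `p ^ n - 1` does not divide the order bound, up to two exceptions. -/
def pslOk (n d p : ℕ) : Bool :=
  decide ((3 ≤ p ∧ p ≠ 4 ∧ 3 ≤ n ∧ 0 < d ∧ d < n ∧ n % d = 0 ∧
      (p ^ d - 1) * ((2 * n + 1) * ((2 * n + 1) ^ 2 - 1) / 2) % (p ^ n - 1) = 0) →
    p = 3 ∧ (n = 4 ∨ n = 6))

/-- The finite check for `G/Z ≅ PSL(2, 2n+1)`. -/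
theorem psl_check : ∀ n < 20, ∀ d < 10, ∀ p < 61, pslOk n d p = true := by
  decide +kernel

/-- The finitely many possibilities. -/
theorem psl_arith {p n d : ℕ} (hp : 3 ≤ p) (hp4 : p ≠ 4) (hn : 3 ≤ n) (hd : 0 < d) (hdn : d < n)
    (hdvd : d ∣ n)
    (h : p ^ n - 1 ∣ (p ^ d - 1) * ((2 * n + 1) * ((2 * n + 1) ^ 2 - 1) / 2)) :
    p = 3 ∧ (n = 4 ∨ n = 6) := by
  set B := (2 * n + 1) * ((2 * n + 1) ^ 2 - 1) / 2 with hB
  have hd2 : 2 * d ≤ n := by
    obtain ⟨c, hc⟩ := hdvd
    rcases (show c ≤ 1 ∨ 2 ≤ c by omega) with hc1 | hc2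
    · have := Nat.mul_le_mul_left d hc1; omega
    · have := Nat.mul_le_mul_left d hc2; rw [← hc] at this; omega
  have hBeq : B = n * (2 * n + 1) * (2 * n + 2) := by
    rw [hB, show (2 * n + 1) ^ 2 - 1 = 2 * (n * (2 * n + 2)) by
      rw [Nat.sub_eq_iff_eq_add (Nat.one_le_pow _ _ (by omega))]; ring, ← mul_assoc,
      mul_comm (2 * n + 1) 2, mul_assoc, Nat.mul_div_cancel_left _ two_pos]
    ring
  have hB0 : 0 < B := by rw [hBeq]; positivity
  have hsize : p ^ (n - d) ≤ B := by
    have h1 : 0 < p ^ d - 1 := by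
      have := Nat.le_self_pow hd.ne' p
      omega
    have h2 := Nat.le_of_dvd (Nat.mul_pos h1 hB0) h
    by_contra hlt
    obtain ⟨s, hs⟩ : ∃ s, p ^ d = s + 2 := ⟨p ^ d - 2, by omega⟩
    have h3 : p ^ (n - d) * p ^ d = p ^ n := by rw [← pow_add, Nat.sub_add_cancel hdn.le]
    rw [hs] at h2 h3
    have h4 : (s + 2 - 1) * (B + 1) ≤ (s + 1) * p ^ (n - d) := Nat.mul_le_mul (by omega) (by omega)
    have h5 : 1 ≤ p ^ (n - d) := Nat.one_le_pow _ _ (by omega)
    rw [show s + 2 - 1 = s + 1 by omega] at h2 h4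
    have e1 : p ^ (n - d) * (s + 2) = (s + 1) * p ^ (n - d) + p ^ (n - d) := by ring
    have e2 : (s + 1) * (B + 1) = (s + 1) * B + (s + 1) := by ring
    omega
  have hn20 : n < 20 := by
    by_contra h20
    have key : ∀ m, 20 ≤ m → m * (2 * m + 1) * (2 * m + 2) < 3 ^ (m - m / 2) := by
      intro m hm
      induction m using Nat.strong_induction_on with
      | _ m ih =>
        rcases (show m = 20 ∨ m = 21 ∨ 22 ≤ m by omega) with rfl | rfl | h22
        · norm_num
        · norm_num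
        · obtain ⟨j, rfl⟩ : ∃ j, m = j + 2 := ⟨m - 2, by omega⟩
          have := ih j (by omega) (by omega)
          rw [show j + 2 - (j + 2) / 2 = j - j / 2 + 1 by omega, pow_succ]
          have e : (4 * (j + 2)) * (5 * (2 * (j + 2) + 1)) * (2 * (j + 2) + 2) ≤
              (5 * j) * (6 * (2 * j + 1)) * (2 * (2 * j + 2)) :=
            Nat.mul_le_mul (Nat.mul_le_mul (by omega) (by omega)) (by omega)
          have e1 : (4 * (j + 2)) * (5 * (2 * (j + 2) + 1)) * (2 * (j + 2) + 2) =
              20 * ((j + 2) * (2 * (j + 2) + 1) * (2 * (j + 2) + 2)) := by ring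
          have e2 : (5 * j) * (6 * (2 * j + 1)) * (2 * (2 * j + 2)) =
              60 * (j * (2 * j + 1) * (2 * j + 2)) := by ring
          omega
    have h6 := key n (by omega)
    have h7 : 3 ^ (n - n / 2) ≤ p ^ (n - d) :=
      le_trans (Nat.pow_le_pow_left hp _) (Nat.pow_le_pow_right (by omega) (by omega))
    omega
  have hp61 : p < 61 := by
    by_contra h61
    have h8 : 61 ^ (n - n / 2) ≤ B :=
      le_trans (le_trans (Nat.pow_le_pow_left (not_lt.1 h61) _)
        (Nat.pow_le_pow_right (by omega) (by omega))) hsize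
    rw [hBeq] at h8
    interval_cases n <;> norm_num at h8
  exact (of_decide_eq_true (psl_check n hn20 d (by omega) p hp61))
    ⟨hp, hp4, hn, hd, hdn, Nat.mod_eq_zero_of_dvd hdvd, Nat.mod_eq_zero_of_dvd h⟩

theorem dvd_of_primitive {q n r k : ℕ} [Fact r.Prime] (hq : 0 < q) (hn : 0 < n)
    (hd : r ∣ q ^ n - 1) (hr : ∀ i, 0 < i → i < n → ¬ r ∣ q ^ i - 1) (hk : r ∣ q ^ k - 1) :
    n ∣ k := by
  have hone : ∀ i, r ∣ q ^ i - 1 ↔ (q : ZMod r) ^ i = 1 := fun i => by
    rw [← CharP.cast_eq_zero_iff (ZMod r) r, Nat.cast_sub (Nat.one_le_pow _ _ hq), Nat.cast_pow,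
      Nat.cast_one, sub_eq_zero]
  by_contra hnk
  refine hr (k % n) (Nat.pos_of_ne_zero fun h => hnk (Nat.dvd_of_mod_eq_zero h)) (Nat.mod_lt _ hn)
    ((hone _).2 ?_)
  have h := (hone k).1 hk
  rw [← Nat.div_add_mod k n, pow_add, pow_mul, (hone n).1 hd, one_pow, one_mul] at h
  exact h

theorem dvd_pred_of_primitive {q n r : ℕ} [Fact r.Prime] (hq : 0 < q) (hd : r ∣ q ^ n - 1)
    (hr : ∀ i, 0 < i → i < n → ¬ r ∣ q ^ i - 1) (hn : 0 < n) : n ∣ r - 1 := by
  refine dvd_of_primitive hq hn hd hr ?_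
  rw [← CharP.cast_eq_zero_iff (ZMod r) r, Nat.cast_sub (Nat.one_le_pow _ _ hq), Nat.cast_pow,
    Nat.cast_one, sub_eq_zero]
  refine ZMod.pow_card_sub_one_eq_one fun h0 => ?_
  rw [CharP.cast_eq_zero_iff (ZMod r) r] at h0
  have h1 := Nat.dvd_sub (dvd_pow h0 hn.ne') hd
  rw [Nat.sub_sub_self (Nat.one_le_pow _ _ hq)] at h1
  exact (Fact.out (p := r.Prime)).ne_one (Nat.dvd_one.mp h1)

variable {G : Type u} [Group G] [Finite G] {V : Type v} [AddCommGroup V] [DistribMulAction G V]
  [Finite V] [Nontrivial V] [FaithfulSMul G V] {q : ℕ}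

/-- An element of primitive prime order has abelian centralizer. -/
theorem centralizer_comm_of_primitive (hq : q.Prime) (hV : ∀ v : V, q • v = 0) {n : ℕ}
    (hcard : Nat.card V = q ^ n) {r : ℕ} [Fact r.Prime] (hrq : r ≠ q)
    (hr : ∀ i, 0 < i → i < n → ¬ r ∣ q ^ i - 1) {x : G} (hx : orderOf x = r) {a b : G}
    (ha : a * x = x * a) (hb : b * x = x * b) : a * b = b * a := by
  haveI := Fact.mk hq
  letI : Module (ZMod q) V := AddCommGroup.zmodModule (n := q) (G := V) hV
  let ρ : G →* Module.End (ZMod q) V :=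
    { toFun := fun g => (DistribSMul.toAddMonoidHom V g).toZModLinearMap q
      map_one' := LinearMap.ext fun v => one_smul G v
      map_mul' := fun g h => LinearMap.ext fun v => mul_smul g h v }
  have hρ : Function.Injective ρ := fun g h hgh =>
    eq_of_smul_eq_smul fun v : V => LinearMap.congr_fun hgh v
  have hfr : finrank (ZMod q) V = n := by
    have h := Module.natCard_eq_pow_finrank (K := ZMod q) (V := V)
    rw [hcard, Nat.card_zmod] at h
    exact (Nat.pow_right_injective hq.two_le h).symm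
  apply hρ
  rw [map_mul, map_mul]
  refine SolvableTransitive.mul_comm_of_commute (r := r) (ρ x) ?_ ?_ ?_ ?_ ?_ ?_
  · rw [← map_pow, ← hx, pow_orderOf_eq_one, map_one]
  · intro h
    have : x = 1 := hρ (h.trans (map_one ρ).symm)
    rw [this, orderOf_one] at hx
    exact (Fact.out (p := r.Prime)).ne_one hx.symm
  · rw [Ne, CharP.cast_eq_zero_iff (ZMod q) q, Nat.prime_dvd_prime_iff_eq hq Fact.out]
    exact Ne.symm hrq
  · rw [hfr, Nat.card_zmod]; exact hr
  · exact show ρ a * ρ x = ρ x * ρ a by rw [← map_mul, ← map_mul, ha]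
  · exact show ρ b * ρ x = ρ x * ρ b by rw [← map_mul, ← map_mul, hb]

/-- A normal subgroup containing an element of primitive prime order and centralizing it gives the
bounds. -/
theorem good_of_normal (hq : q.Prime) (hV : ∀ v : V, q • v = 0) (hcop : ¬ q ∣ Nat.card G)
    (htrans : ∀ a b : V, a ≠ 0 → b ≠ 0 → ∃ g : G, g • a = b) {n : ℕ} (hcard : Nat.card V = q ^ n)
    {r : ℕ} [Fact r.Prime] (hrq : r ≠ q) (hr : ∀ i, 0 < i → i < n → ¬ r ∣ q ^ i - 1)
    (R : Subgroup G) [R.Normal] {x : G} (hx : orderOf x = r) (hxR : x ∈ R)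
    (hR : ∀ y ∈ R, y * x = x * y) : Good G V q := by
  have hab : ∀ {a b : G}, a ∈ Subgroup.centralizer (R : Set G) →
      b ∈ Subgroup.centralizer (R : Set G) → a * b = b * a := fun {a b} ha hb =>
    centralizer_comm_of_primitive hq hV hcard hrq hr hx (ha x hxR).symm (hb x hxR).symm
  refine good_of_selfCentralizing hq hV hcop htrans (Subgroup.centralizer (R : Set G))
    ⟨⟨fun a b => Subtype.ext (hab a.2 b.2)⟩⟩ (le_antisymm ?_ fun a ha b hb => hab hb ha)
  intro a ha y hy
  exact ha y fun z hz => centralizer_comm_of_primitive hq hV hcard hrq hr hx (hR z hz) (hR y hy)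

/-- The centralizers of the nontrivial elements of a primitive Sylow subgroup. -/
theorem sylow_centralizers (hq : q.Prime) (hV : ∀ v : V, q • v = 0) {n : ℕ}
    (hcard : Nat.card V = q ^ n) {r : ℕ} [Fact r.Prime] (hrq : r ≠ q)
    (hr : ∀ i, 0 < i → i < n → ¬ r ∣ q ^ i - 1) (P : Sylow r G) :
    (∀ a ∈ (P : Subgroup G), ∀ b ∈ (P : Subgroup G), a * b = b * a) ∧
      ∀ x ∈ (P : Subgroup G), x ≠ 1 →
        Subgroup.centralizer ({x} : Set G) = Subgroup.centralizer ((P : Subgroup G) : Set G) := by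
  have hrp := (Fact.out (p := r.Prime))
  have hroot : ∀ x ∈ (P : Subgroup G), x ≠ 1 → ∃ m, orderOf (x ^ m) = r := by
    intro x hx hx1
    obtain ⟨k, hk⟩ := (IsPGroup.iff_orderOf.1 P.isPGroup') ⟨x, hx⟩
    rw [Subgroup.orderOf_mk] at hk
    obtain ⟨j, rfl⟩ : ∃ j, k = j + 1 := ⟨k - 1, by
      have : k ≠ 0 := fun h => hx1 (orderOf_eq_one_iff.1 (by rw [hk, h, pow_zero]))
      omega⟩
    refine ⟨r ^ j, ?_⟩
    rw [orderOf_pow' x (pow_ne_zero _ hrp.ne_zero), hk,
      Nat.gcd_eq_right (pow_dvd_pow r j.le_succ), pow_succ,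
      Nat.mul_div_cancel_left _ (pow_pos hrp.pos j)]
  have hPab : ∀ a ∈ (P : Subgroup G), ∀ b ∈ (P : Subgroup G), a * b = b * a := by
    intro a ha b hb
    rcases subsingleton_or_nontrivial ↥(P : Subgroup G) with hs | hn
    · exact congrArg Subtype.val (Subsingleton.elim (⟨a, ha⟩ * ⟨b, hb⟩ : ↥(P : Subgroup G))
        (⟨b, hb⟩ * ⟨a, ha⟩))
    · obtain ⟨z, hz⟩ := @exists_ne _ P.isPGroup'.center_nontrivial (1 : Subgroup.center ↥(P : Subgroup G))
      obtain ⟨m, hm⟩ := hroot z.1.1 z.1.2 fun h => hz (Subtype.ext (Subtype.ext h))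
      have hzc : ∀ c ∈ (P : Subgroup G), c * (z.1.1 ^ m) = z.1.1 ^ m * c := fun c hc =>
        (Commute.pow_right (show Commute c z.1.1 from
          congrArg Subtype.val (Subgroup.mem_center_iff.1 z.2 ⟨c, hc⟩)) m).eq
      exact centralizer_comm_of_primitive hq hV hcard hrq hr hm (hzc a ha) (hzc b hb)
  refine ⟨hPab, fun x hx hx1 => le_antisymm (fun c hc y hy => ?_) fun c hc => ?_⟩
  · obtain ⟨m, hm⟩ := hroot x hx hx1
    have hcx : Commute c x := Subgroup.mem_centralizer_singleton_iff.1 hc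
    exact (centralizer_comm_of_primitive hq hV hcard hrq hr hm (hcx.pow_right m).eq
      (Commute.pow_right (show Commute y x from hPab y hy x hx) m).eq).symm
  · exact Subgroup.mem_centralizer_singleton_iff.2 (hc x hx).symm

/-- The bounds when a Sylow subgroup for a primitive prime is normal. -/
theorem good_of_normal_sylow (hq : q.Prime) (hV : ∀ v : V, q • v = 0) (hcop : ¬ q ∣ Nat.card G)
    (htrans : ∀ a b : V, a ≠ 0 → b ≠ 0 → ∃ g : G, g • a = b) {n : ℕ} (hcard : Nat.card V = q ^ n)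
    {r : ℕ} [Fact r.Prime] (hrq : r ≠ q) (hr : ∀ i, 0 < i → i < n → ¬ r ∣ q ^ i - 1)
    (P : Sylow r G) (hrG : r ∣ Nat.card G) (hP : (P : Subgroup G).Normal) : Good G V q := by
  obtain ⟨hab, -⟩ := sylow_centralizers hq hV hcard hrq hr P
  obtain ⟨x, hx⟩ := exists_prime_orderOf_dvd_card' (G := ↥(P : Subgroup G)) r
    (P.dvd_card_of_dvd_card hrG)
  haveI := hP
  exact good_of_normal hq hV hcop htrans hcard hrq hr (P : Subgroup G)
    (Subgroup.orderOf_coe x ▸ hx) x.2 fun y hy => hab y hy x x.2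

/-- A large primitive prime divisor. -/
theorem good_of_large_prime (hq : q.Prime) (hq3 : 3 ≤ q) (hV : ∀ v : V, q • v = 0)
    (hcop : ¬ q ∣ Nat.card G) (htrans : ∀ a b : V, a ≠ 0 → b ≠ 0 → ∃ g : G, g • a = b) {n : ℕ}
    (hn : 3 ≤ n) (hcard : Nat.card V = q ^ n) {r : ℕ} [Fact r.Prime] (hrd : r ∣ q ^ n - 1)
    (hr : ∀ i, 0 < i → i < n → ¬ r ∣ q ^ i - 1) (hbig : n + 1 < r ∨ r ^ 2 ∣ q ^ n - 1)
    (hexc : ¬ (q = 3 ∧ (n = 4 ∨ n = 6))) : Good G V q := by
  haveI := Fact.mk hq
  have hrp := (Fact.out (p := r.Prime))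
  obtain ⟨v, hv⟩ := exists_ne (0 : V)
  have hGh := card_eq_stabilizer_mul htrans (G := G) hv
  rw [hcard] at hGh
  have hdvdG : q ^ n - 1 ∣ Nat.card G := ⟨_, hGh⟩
  have hrG : r ∣ Nat.card G := hrd.trans hdvdG
  have hrq : r ≠ q := fun h => hcop (h ▸ hrG)
  have hnr : n ∣ r - 1 := dvd_pred_of_primitive hq.pos hrd hr (by omega)
  obtain ⟨c, hc⟩ := hnr
  have hr2 := hrp.two_le
  obtain ⟨χ, hχ, hfaith, hdeg⟩ : ∃ χ : G → ℂ, Cfsg.IsCharacter G χ ∧
      (∀ g, χ g = χ 1 → g = 1) ∧ Cfsg.charDegree χ = n := by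
    letI : Module (ZMod q) V := AddCommGroup.zmodModule (n := q) (G := V) hV
    let ρ : G →* Module.End (ZMod q) V :=
      { toFun := fun g => (DistribSMul.toAddMonoidHom V g).toZModLinearMap q
        map_one' := LinearMap.ext fun v => one_smul G v
        map_mul' := fun g h => LinearMap.ext fun v => mul_smul g h v }
    have hρ : Function.Injective ρ := fun g h hgh =>
      eq_of_smul_eq_smul fun v : V => LinearMap.congr_fun hgh v
    obtain ⟨χ, h1, h2, h3⟩ := exists_faithful_character hcop ρ hρ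
    refine ⟨χ, h1, h2, h3.trans ?_⟩
    have h := Module.natCard_eq_pow_finrank (K := ZMod q) (V := V)
    rw [hcard, Nat.card_zmod] at h
    exact (Nat.pow_right_injective hq.two_le h).symm
  obtain ⟨P⟩ := (inferInstance : Nonempty (Sylow r G))
  obtain ⟨a, ha⟩ := IsPGroup.iff_card.1 P.isPGroup'
  by_cases hsq : r ^ 2 ∣ Nat.card G
  · refine good_of_normal_sylow hq hV hcop htrans hcard hrq hr P hrG
      (Cfsg.Agent.S4485.result r hrp hrG P (sylow_centralizers hq hV hcard hrq hr P).2 a ha χ hχ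
        hfaith ?_)
    rw [hdeg]
    have h2 : 2 ≤ a := by
      have hle : r ^ 2 ∣ Nat.card ↥(P : Subgroup G) := P.pow_dvd_card_of_pow_dvd_card hsq
      rw [ha] at hle
      exact (Nat.pow_dvd_pow_iff_le_right hrp.one_lt).1 hle
    have h3 : r ^ 2 ≤ r ^ a := Nat.pow_le_pow_right hrp.pos h2
    have h4 : (n + 1) ^ 2 ≤ r ^ 2 := Nat.pow_le_pow_left (by
      rcases Nat.eq_zero_or_pos c with rfl | hc0
      · omega
      · have := Nat.le_mul_of_pos_right n hc0
        omega) 2
    nlinarith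
  · have hrn : n + 1 < r := hbig.resolve_right fun h => hsq (h.trans hdvdG)
    have hc2 : 2 ≤ c := by
      by_contra h
      have := Nat.mul_le_mul_left n (show c ≤ 1 by omega)
      omega
    have h2n : 2 * n + 1 ≤ r := by
      have := Nat.mul_le_mul_left n hc2
      omega
    by_cases hnn : ∀ H : Subgroup G, H.Normal → Nat.card H ≠ r
    swap
    · push Not at hnn
      obtain ⟨H, hH, hHr⟩ := hnn
      haveI := hH
      obtain ⟨x, hx⟩ := exists_prime_orderOf_dvd_card' (G := H) r (dvd_of_eq hHr.symm)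
      haveI : IsCyclic H := isCyclic_of_prime_card (p := r) hHr
      letI : CommGroup H := IsCyclic.commGroup
      exact good_of_normal hq hV hcop htrans hcard hrq hr H (Subgroup.orderOf_coe x ▸ hx) x.2
        fun y hy => congrArg Subtype.val (mul_comm (⟨y, hy⟩ : H) x)
    have hle := Cfsg.Agent.S4503.result r hrp hrG hsq hnn χ hχ hfaith
    rw [hdeg] at hle
    have hreq : 2 * n + 1 = r := le_antisymm h2n hle
    obtain ⟨e⟩ := Cfsg.Agent.S4504.result r hrp hrG hsq hnn χ hχ hfaith (by rw [hdeg]; exact hreq)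
    set Z := Subgroup.center G
    have hZA : IsMulCommutative Z := ⟨⟨fun a b => Subtype.ext (Subgroup.mem_center_iff.1 b.2 a)⟩⟩
    have hF := SolvableTransitive.isField_spanRing htrans hZA (V := V)
    letI : Field ↥(SolvableTransitive.spanRing V Z) := hF.toField
    haveI : Finite (AddMonoid.End V) :=
      Finite.of_injective (fun f => (f : V → V)) DFunLike.coe_injective
    have hq0 : (q : ↥(SolvableTransitive.spanRing V Z)) = 0 := Subtype.ext (AddMonoidHom.ext fun v => by
      rw [show ((q : ↥(SolvableTransitive.spanRing V Z)) : AddMonoid.End V) = (q : AddMonoid.End V) from rfl]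
      exact hV v)
    haveI : CharP ↥(SolvableTransitive.spanRing V Z) q := (CharP.charP_iff_prime_eq_zero hq).mpr hq0
    obtain ⟨d, hd⟩ : ∃ d, Nat.card ↥(SolvableTransitive.spanRing V Z) = q ^ d := by
      letI := ZMod.algebra ↥(SolvableTransitive.spanRing V Z) q
      exact ⟨_, by rw [Module.natCard_eq_pow_finrank (K := ZMod q), Nat.card_zmod]⟩
    have hd0 : 0 < d := by
      refine Nat.pos_of_ne_zero fun h => ?_
      rw [h, pow_zero] at hd
      exact absurd hd Finite.one_lt_card.ne'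
    set j := finrank ↥(SolvableTransitive.spanRing V Z) V with hj
    have hdj : n = d * j := by
      refine Nat.pow_right_injective hq.two_le ?_
      show q ^ n = q ^ (d * j)
      rw [← hcard, Module.natCard_eq_pow_finrank (K := ↥(SolvableTransitive.spanRing V Z)), hd, pow_mul]
    have hlin : ∀ (g : G) (c : ↥(SolvableTransitive.spanRing V Z)) (w : V), g • c • w = c • g • w :=
      fun g c w => DFunLike.congr_fun (SolvableTransitive.spanRing_commute
        (fun z hz => (Subgroup.mem_center_iff.1 hz g).symm) c.2) w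
    rcases (show j = 1 ∨ 2 ≤ j by
      rcases Nat.eq_zero_or_pos j with h | h
      · rw [h, mul_zero] at hdj; omega
      · omega) with hj1 | hj2
    · have hcomm : ∀ g h : G, g * h = h * g := fun g h => eq_of_smul_eq_smul fun w : V => by
        obtain ⟨a, ha⟩ := (finrank_eq_one_iff_of_nonzero' v hv).mp hj1 (g • v)
        obtain ⟨b, hb⟩ := (finrank_eq_one_iff_of_nonzero' v hv).mp hj1 (h • v)
        obtain ⟨c, hc⟩ := (finrank_eq_one_iff_of_nonzero' v hv).mp hj1 w
        rw [← hc, mul_smul, mul_smul, hlin h, ← hb, hlin g, hlin g, ← ha, hlin g, hlin h,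
          ← ha, hlin h, ← hb]
        simp only [← mul_smul, mul_comm, mul_left_comm]
      exact good_of_selfCentralizing hq hV hcop htrans ⊤ ⟨⟨fun a b => Subtype.ext (hcomm a b)⟩⟩
        (eq_top_iff.2 fun x _ => fun y _ => hcomm y x)
    exfalso
    have hdn : d < n := by
      have := Nat.mul_le_mul_left d hj2
      omega
    have hz : Nat.card Z ∣ q ^ d - 1 := by
      let φ : Z →* (↥(SolvableTransitive.spanRing V Z))ˣ :=
        MonoidHom.toHomUnits (((SolvableTransitive.toEnd V).comp Z.subtype).codRestrict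
          (SolvableTransitive.spanRing V Z) fun a => SolvableTransitive.toEnd_mem_spanRing a.2)
      refine hd ▸ Nat.card_units (α := ↥(SolvableTransitive.spanRing V Z)) ▸
        Subgroup.card_dvd_of_injective φ fun a b h => Subtype.ext
          (SolvableTransitive.toEnd_injective (V := V)
            (congrArg (fun u : (↥(SolvableTransitive.spanRing V Z))ˣ =>
              ((u : ↥(SolvableTransitive.spanRing V Z)) : AddMonoid.End V)) h))
    haveI : Fact r.Prime := ⟨hrp⟩
    have hQ : Nat.card (G ⧸ Z) = r * (r ^ 2 - 1) / 2 := by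
      rw [Nat.card_congr e.toEquiv]
      have h := PSL2.two_mul_card_PSL (F := ZMod r) (by
        intro h
        have h' : ((2 : ℕ) : ZMod r) = 0 := by exact_mod_cast h
        rw [ZMod.natCast_eq_zero_iff, Nat.prime_dvd_prime_iff_eq hrp Nat.prime_two] at h'
        omega)
      rw [ZMod.card] at h
      omega
    have hG : Nat.card G = r * (r ^ 2 - 1) / 2 * Nat.card Z := by
      rw [← hQ, Z.card_eq_card_quotient_mul_card_subgroup]
    have hdiv : q ^ n - 1 ∣ (q ^ d - 1) * ((2 * n + 1) * ((2 * n + 1) ^ 2 - 1) / 2) := by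
      rw [hreq]
      refine hdvdG.trans ?_
      rw [hG, mul_comm]
      exact Nat.mul_dvd_mul_right hz _
    exact hexc (psl_arith hq3 (fun h => by subst h; norm_num at hq) hn hd0 hdn (hdj ▸ dvd_mul_right d j) hdiv)

end Cfsg.Agent.TransCoprime
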