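import Cfsg.Agent.Lib.TransCoprime.SixCases
import Cfsg.Agent.Lib.TransCoprime.Eighty
import Cfsg.Agent.Lib.TransCoprime.Primitive
import Cfsg.Agent.Lib.Zsigmondy.Feit
import Cfsg.Agent.S0205

/-!
# Coprime linear groups transitive on nonzero vectors

* `good_of_transitive` : the class number bounds for every coprime transitive linear group.
-/

set_option autoImplicit false
set_option linter.style.haveILetI false
set_option linter.unusedSectionVars false

namespace Cfsg.Agent.TransCoprime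

open Module

universe u v

variable {G : Type u} [Group G] [Finite G] {V : Type v} [AddCommGroup V] [DistribMulAction G V]
  [Finite V] [Nontrivial V] [FaithfulSMul G V] {q : ℕ}

/-- The case of `81` points. -/
theorem good_three_four (hV : ∀ v : V, 3 • v = 0) (hcard : Nat.card V = 3 ^ 4)
    (hcop : ¬ 3 ∣ Nat.card G) (htrans : ∀ a b : V, a ≠ 0 → b ≠ 0 → ∃ g : G, g • a = b) :
    Good G V 3 := by
  classical
  haveI : Fact (Nat.Prime 3) := ⟨Nat.prime_three⟩
  haveI : Fact (Nat.Prime 13) := ⟨by norm_num⟩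
  letI : Module (ZMod 3) V := AddCommGroup.zmodModule (n := 3) (G := V) hV
  obtain ⟨ρ, h4, hρ, hρV⟩ := exists_rep (G := G) (V := V) (q := 3) hcard
  have hprod := card_dvd_prod ρ hρ h4
  have hfac : (∏ i : Fin 4, (3 ^ 4 - 3 ^ (i : ℕ))) = 3 ^ 6 * (2 ^ 9 * 5 * 13) := by
    rw [Fin.prod_univ_four]
    rfl
  rw [hfac] at hprod
  have hd : Nat.card G ∣ 2 ^ 9 * 5 * 13 :=
    (((Nat.prime_three.coprime_iff_not_dvd).2 hcop).symm.pow_right 6).dvd_of_dvd_mul_left hprod
  have h13 : ¬ 13 ∣ Nat.card G := fun h13 => by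
    have hsq : ¬ 13 ^ 2 ∣ Nat.card G := fun h => absurd (h.trans hd) (by norm_num)
    obtain ⟨χ, hχ, hfaith, hdeg⟩ := exists_faithful_character hcop ρ hρ
    rw [h4] at hdeg
    obtain ⟨H, hH, hH13⟩ : ∃ H : Subgroup G, H.Normal ∧ Nat.card H = 13 := by
      by_contra! hnn
      have hle := Cfsg.Agent.S4503.result 13 (by norm_num) h13 hsq hnn χ hχ hfaith
      omega
    haveI := hH
    have hmod := (IsPGroup.of_card (p := 13) (n := 1) (G := H) (by rw [hH13, pow_one])).card_modEq_card_fixedPoints V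
    obtain ⟨v, hvH, hv⟩ : ∃ v : V, v ∈ MulAction.fixedPoints H V ∧ v ≠ 0 := by
      by_contra! hall
      have h1 : Nat.card (MulAction.fixedPoints H V) = 1 :=
        Nat.card_eq_one_iff_exists.2 ⟨⟨0, fun h => smul_zero (h : G)⟩,
          fun x => Subtype.ext (hall x.1 x.2)⟩
      rw [h1, hcard, Nat.ModEq] at hmod
      norm_num at hmod
    have hbot : H = ⊥ := (Subgroup.eq_bot_iff_forall H).2 fun x hx => eq_of_smul_eq_smul fun w : V => by
      rw [one_smul]
      rcases eq_or_ne w 0 with rfl | hw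
      · exact smul_zero x
      obtain ⟨g, rfl⟩ := htrans v w hv hw
      have h := hvH ⟨g⁻¹ * x * g, by simpa using hH.conj_mem x hx g⁻¹⟩
      rw [Subgroup.mk_smul] at h
      conv_rhs => rw [← h]
      rw [← mul_smul, ← mul_smul, ← mul_assoc, ← mul_assoc, mul_inv_cancel, one_mul]
    rw [hbot, Subgroup.card_bot] at hH13
    norm_num at hH13
  have hd' : Nat.card G ∣ 2 ^ 9 * 5 :=
    (((by norm_num : Nat.Prime 13).coprime_iff_not_dvd).2 h13).symm.dvd_of_dvd_mul_right hd
  obtain ⟨d₁, d₂, h1, h2, h12⟩ := (Nat.dvd_mul).1 hd'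
  obtain ⟨i, -, rfl⟩ := (Nat.dvd_prime_pow Nat.prime_two).1 h1
  obtain ⟨j, -, rfl⟩ := (Nat.dvd_prime_pow Nat.prime_five).1 (show d₂ ∣ 5 ^ 1 by simpa using h2)
  exact good_eighty hV hcard hd'
    (CharInt.isSolvable_of_card_eq Nat.prime_two Nat.prime_five h12.symm) htrans

/-- The class number bounds for every coprime linear group transitive on nonzero vectors. -/
theorem good_of_transitive (hq : q.Prime) (hV : ∀ v : V, q • v = 0) (hcop : ¬ q ∣ Nat.card G)
    (htrans : ∀ a b : V, a ≠ 0 → b ≠ 0 → ∃ g : G, g • a = b) : Good G V q := by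
  classical
  haveI := Fact.mk hq
  letI : Module (ZMod q) V := AddCommGroup.zmodModule (n := q) (G := V) hV
  obtain ⟨n, hcard⟩ : ∃ n, Nat.card V = q ^ n :=
    ⟨_, by rw [Module.natCard_eq_pow_finrank (K := ZMod q), Nat.card_zmod]⟩
  have hn0 : n ≠ 0 := by
    rintro rfl
    rw [pow_zero] at hcard
    exact absurd hcard (Finite.one_lt_card (α := V)).ne'
  rcases Nat.lt_or_ge n 3 with hlt | hn
  · obtain rfl | rfl : n = 1 ∨ n = 2 := by omega
    · obtain ⟨v, hv⟩ := exists_ne (0 : V)
      rw [pow_one] at hcard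
      haveI : IsAddCyclic V := isAddCyclic_of_prime_card (p := q) hcard
      have hcomm : ∀ a b : G, a * b = b * a := fun a b => eq_of_smul_eq_smul fun w : V => by
        obtain ⟨c, hc⟩ := IsAddCyclic.exists_generator (α := V)
        obtain ⟨i, rfl⟩ := AddSubgroup.mem_zmultiples_iff.1 (hc w)
        obtain ⟨j, hj⟩ := AddSubgroup.mem_zmultiples_iff.1 (hc (a • c))
        obtain ⟨k, hk⟩ := AddSubgroup.mem_zmultiples_iff.1 (hc (b • c))
        simp only [smul_comm _ i, mul_smul, ← hk, ← hj, smul_comm a k, smul_comm b j]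
        rw [← mul_zsmul, ← mul_zsmul, ← mul_zsmul, ← mul_zsmul]; ring_nf
      refine good_of_selfCentralizing hq hV hcop htrans ⊤ ⟨⟨fun a b => Subtype.ext (hcomm a b)⟩⟩ ?_
      exact eq_top_iff.2 fun x _ y _ => hcomm y x
    · exact good_dim_two hq hV hcop htrans hcard
  by_cases hq2 : q = 2
  · subst hq2
    have hodd : Odd (Nat.card G) := Nat.odd_iff.2 (by omega)
    exact good_of_solvable (S0205.result hodd) hq hV hcop htrans hn hcard (by omega)
  by_cases h36 : (q = 3 ∨ q = 5) ∧ n = 6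
  · obtain ⟨h | h, rfl⟩ := h36
    · exact good_six hq hV hcop htrans hcard _ (Or.inl ⟨h, rfl, rfl⟩)
    · exact good_six hq hV hcop htrans hcard _ (Or.inr ⟨h, rfl, rfl⟩)
  by_cases h34 : q = 3 ∧ n = 4
  · obtain ⟨rfl, rfl⟩ := h34
    exact good_three_four hV hcard hcop htrans
  obtain ⟨r, hr, hrd, hprim, hbig⟩ := Zsigmondy.exists_large_primitive_prime_divisor q n hq.two_le
    (by omega) (by omega) (by omega) (by omega) (by omega)
  haveI := Fact.mk hr
  exact good_of_large_prime hq (by have := hq.two_le; omega) hV hcop htrans hn hcard hrd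
    (fun i hi hin => hprim i hi hin) hbig (by omega)

end Cfsg.Agent.TransCoprime
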