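import Cfsg.Agent.Lib.TransCoprime.Classify
import Cfsg.Agent.S4956

/-!
# Transitive complements of a coprime normal subgroup

* `semidirect_bounds` : class number bounds for `X = V ⋊ G` with `G` transitive on `V \ {1}`.
-/

set_option autoImplicit false
set_option linter.style.haveILetI false
set_option linter.unusedSectionVars false

namespace Cfsg.Agent.TransCoprime

open scoped MatrixGroups

universe u

variable {X : Type u} [Group X]

/-- The conjugation action on a commutative normal subgroup, written additively. -/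
@[reducible] def conjAction (V : Subgroup X) [V.Normal] (G : Subgroup X) :
    DistribMulAction G (Additive V) where
  smul g w := Additive.ofMul ⟨(g : X) * ((w.toMul : V) : X) * (g : X)⁻¹,
    Subgroup.Normal.conj_mem inferInstance _ (w.toMul : V).2 _⟩
  one_smul w := by
    apply Additive.toMul.injective
    apply Subtype.ext
    show ((1 : G) : X) * _ * ((1 : G) : X)⁻¹ = _
    simp
  mul_smul g h w := by
    apply Additive.toMul.injective
    apply Subtype.ext
    show ((g * h : G) : X) * _ * ((g * h : G) : X)⁻¹ = (g : X) * ((h : X) * _ * (h : X)⁻¹) * (g : X)⁻¹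
    simp [mul_assoc]
  smul_zero g := by
    apply Additive.toMul.injective
    apply Subtype.ext
    show (g : X) * ((1 : V) : X) * (g : X)⁻¹ = ((1 : V) : X)
    simp
  smul_add g a b := by
    apply Additive.toMul.injective
    apply Subtype.ext
    show (g : X) * ((a.toMul * b.toMul : V) : X) * (g : X)⁻¹ =
      ((g : X) * ((a.toMul : V) : X) * (g : X)⁻¹) * ((g : X) * ((b.toMul : V) : X) * (g : X)⁻¹)
    simp [mul_assoc]

variable [Finite X]

/-- Class number bounds for a coprime semidirect product with transitive complement. -/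
theorem semidirect_bounds (p : ℕ) [Fact p.Prime] (V : Subgroup X) [V.Normal]
    (hVexp : ∀ v ∈ V, v ^ p = 1) (hidx : ¬ p ∣ V.index)
    (hself : Subgroup.centralizer (V : Set X) = V) (G : Subgroup X) (hGV : Subgroup.IsComplement' V G)
    (htrans : ∀ v ∈ V, ∀ w ∈ V, v ≠ 1 → w ≠ 1 → ∃ g ∈ G, g * v * g⁻¹ = w) (hV : V ≠ ⊥) :
    (Nat.card (ConjClasses X) ≤ Nat.card V ∧ (Nat.card (ConjClasses X) = Nat.card V →
      (IsCyclic G ∨ (Nat.card V = 8 ∧ Nat.card G = 21) ∨ (Nat.card V = 9 ∧ Nat.card G = 16)))) ∧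
    (p ≤ Nat.card (ConjClasses G) ∨ (Nat.card V = p ∧ Nat.card (ConjClasses G) = p - 1) ∨
      (p = 11 ∧ Nat.card V = 121 ∧ Nat.card G = 120 ∧ Nat.card (ConjClasses G) = 9 ∧
        Nonempty (G ≃* Matrix.SpecialLinearGroup (Fin 2) (ZMod 5)))) := by
  classical
  have hab : ∀ a ∈ V, ∀ b ∈ V, a * b = b * a := fun a ha b hb => by
    rw [← hself] at hb
    exact hb a ha
  letI : CommGroup V := { (inferInstance : Group V) with
    mul_comm := fun a b => Subtype.ext (hab a a.2 b b.2) }
  letI := conjAction V G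
  have hsmul : ∀ (g : G) (w : Additive V),
      (((g • w).toMul : V) : X) = (g : X) * ((w.toMul : V) : X) * (g : X)⁻¹ := fun g w => rfl
  haveI : Nontrivial (Additive V) := by
    haveI : Nontrivial V := (Subgroup.nontrivial_iff_ne_bot V).2 hV
    exact Additive.ofMul.symm.nontrivial
  haveI : FaithfulSMul G (Additive V) := by
    refine ⟨fun {a b} h => ?_⟩
    have hc : (b : X)⁻¹ * a ∈ V := by
      rw [← hself]
      intro x hx
      have h1 := congrArg (fun w : Additive V => ((w.toMul : V) : X)) (h (Additive.ofMul ⟨x, hx⟩))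
      simp only [hsmul, toMul_ofMul] at h1
      calc x * ((b : X)⁻¹ * a) = (b : X)⁻¹ * ((b : X) * x * (b : X)⁻¹) * a := by group
        _ = (b : X)⁻¹ * ((a : X) * x * (a : X)⁻¹) * a := by rw [h1]
        _ = (b : X)⁻¹ * a * x := by group
    have h1 : (b : X)⁻¹ * a ∈ (⊥ : Subgroup X) := by
      rw [← hGV.disjoint.eq_bot]
      exact ⟨hc, G.mul_mem (G.inv_mem b.2) a.2⟩
    exact Subtype.ext (inv_mul_eq_one.1 (Subgroup.mem_bot.1 h1)).symm
  have hexp : ∀ w : Additive V, p • w = 0 := fun w => by
    apply Additive.toMul.injective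
    apply Subtype.ext
    show (((w.toMul : V) ^ p : V) : X) = 1
    rw [Subgroup.coe_pow]
    exact hVexp _ (w.toMul : V).2
  have hcop : ¬ p ∣ Nat.card G := by rwa [← hGV.symm.index_eq_card]
  have htr : ∀ a b : Additive V, a ≠ 0 → b ≠ 0 → ∃ g : G, g • a = b := fun a b ha hb => by
    have h1 : ∀ w : Additive V, w ≠ 0 → ((w.toMul : V) : X) ≠ 1 := fun w hw h => hw (by
      apply Additive.toMul.injective
      exact Subtype.ext h)
    obtain ⟨g, hg, h⟩ := htrans _ (a.toMul : V).2 _ (b.toMul : V).2 (h1 a ha) (h1 b hb)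
    exact ⟨⟨g, hg⟩, Additive.toMul.injective (Subtype.ext h)⟩
  have hcardW : Nat.card (Additive V) = Nat.card V := Nat.card_congr Additive.toMul
  have hgood := good_of_transitive (G := G) (V := Additive V) (Fact.out : p.Prime) hexp hcop htr
  obtain ⟨v, hvV, hv1⟩ := (Subgroup.bot_or_exists_ne_one V).resolve_left hV
  have hcopVG : (Nat.card V).Coprime (Nat.card G) := by
    obtain ⟨m, hm⟩ := IsPGroup.iff_card.1 (show IsPGroup p V from fun x =>
      ⟨1, by rw [pow_one]; exact Subtype.ext (hVexp x x.2)⟩)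
    rw [hm]
    exact ((Fact.out : p.Prime).coprime_iff_not_dvd.2 hcop).pow_left m
  have hsum := Cfsg.Agent.S4956.result V hab G hGV hcopVG ({1, v} : Finset X)
    (fun s hs => by
      rcases Finset.mem_insert.1 hs with rfl | hs
      · exact V.one_mem
      · rw [Finset.mem_singleton.1 hs]; exact hvV)
    (fun w hw => by
      rcases eq_or_ne w 1 with rfl | hw1
      · refine ⟨1, ⟨by simp, 1, G.one_mem, by simp⟩, ?_⟩
        rintro s ⟨-, g, -, hg⟩
        rw [← hg]; simp
      · obtain ⟨g, hg, hgw⟩ := htrans w hw v hvV hw1 hv1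
        refine ⟨v, ⟨by simp, g, hg, hgw⟩, ?_⟩
        rintro s ⟨hs, g', -, hg'⟩
        rcases Finset.mem_insert.1 hs with rfl | hs
        · exact absurd (conj_eq_one_iff.1 hg') hw1
        · exact Finset.mem_singleton.1 hs)
  have hne : (1 : X) ∉ ({v} : Finset X) := by simpa using hv1.symm
  rw [Finset.sum_insert hne, Finset.sum_singleton] at hsum
  have hG1 : G ⊓ Subgroup.centralizer ({1} : Set X) = G := by
    refine inf_eq_left.2 fun x _ => Subgroup.mem_centralizer_singleton_iff.2 (by simp)
  rw [card_conjClasses_congr (MulEquiv.subgroupCongr hG1)] at hsum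
  have hw0 : Additive.ofMul (⟨v, hvV⟩ : V) ≠ 0 := fun h =>
    hv1 (congrArg (fun w : Additive V => ((w.toMul : V) : X)) h)
  have hstab : Nat.card (↥(G ⊓ Subgroup.centralizer ({v} : Set X))) =
      Nat.card (MulAction.stabilizer G (Additive.ofMul (⟨v, hvV⟩ : V))) := by
    refine Nat.card_congr
      { toFun := fun x => ⟨⟨x, x.2.1⟩, Additive.toMul.injective (Subtype.ext ?_)⟩
        invFun := fun x => ⟨(x.1 : X), x.1.2, ?_⟩
        left_inv := fun x => rfl
        right_inv := fun x => rfl }
    · show (x : X) * v * (x : X)⁻¹ = v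
      rw [Subgroup.mem_centralizer_singleton_iff.1 x.2.2, mul_inv_cancel_right]
    · have h := congrArg (fun w : Additive V => ((w.toMul : V) : X)) x.2
      exact Subgroup.mem_centralizer_singleton_iff.2 (mul_inv_eq_iff_eq_mul.1 h)
  have hk : Nat.card (ConjClasses ↥(G ⊓ Subgroup.centralizer ({v} : Set X))) ≤
      Nat.card (MulAction.stabilizer G (Additive.ofMul (⟨v, hvV⟩ : V))) :=
    hstab ▸ Nat.card_le_card_of_surjective _ ConjClasses.mk_surjective
  obtain ⟨hup, hlow⟩ := hgood
  have h := hup _ hw0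
  rw [hcardW] at h hlow
  refine ⟨⟨by omega, fun heq => ?_⟩, ?_⟩
  · exact h.2 (by omega)
  · exact hlow

end Cfsg.Agent.TransCoprime
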