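import Cfsg.Agent.Lib.TransCoprime.PElements
import Cfsg.Agent.Lib.Coprime.Generation

/-!
# The exceptional case `p = 11` over a nontrivial `p'`-kernel

* `exists_fused_pair` : two nonconjugate regular elements with the same nontrivial image.
-/

set_option autoImplicit false
set_option linter.style.haveILetI false
set_option linter.unusedSectionVars false

namespace Cfsg.Agent.TransCoprime

universe u v

/-- The candidate orders of a kernel minus one: the divisors of `14520`. -/
def kerDivisors : List ℕ :=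
  (List.range 4).flatMap fun a => (List.range 2).flatMap fun b => (List.range 2).flatMap fun c =>
    (List.range 3).map fun e => 2 ^ a * 3 ^ b * 5 ^ c * 11 ^ e

theorem mem_kerDivisors {d : ℕ} (h : d ∣ 14520) : d ∈ kerDivisors := by
  rw [show 14520 = 2 ^ 3 * 3 * 5 * 11 ^ 2 from rfl, Nat.dvd_mul] at h
  obtain ⟨x, y, hx, hy, rfl⟩ := h
  obtain ⟨x', z, hx', hz, rfl⟩ := Nat.dvd_mul.1 hx
  obtain ⟨x'', w, hx'', hw, rfl⟩ := Nat.dvd_mul.1 hx'
  obtain ⟨a, ha, rfl⟩ := (Nat.dvd_prime_pow Nat.prime_two).1 hx''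
  obtain ⟨b, hb, rfl⟩ := (Nat.dvd_prime_pow Nat.prime_three).1 (show w ∣ 3 ^ 1 by simpa using hw)
  obtain ⟨c, hc, rfl⟩ := (Nat.dvd_prime_pow Nat.prime_five).1 (show z ∣ 5 ^ 1 by simpa using hz)
  obtain ⟨e, he, rfl⟩ := (Nat.dvd_prime_pow (by norm_num : Nat.Prime 11)).1 hy
  simp only [kerDivisors, List.mem_flatMap, List.mem_map, List.mem_range]
  exact ⟨a, by omega, b, by omega, c, by omega, e, by omega, rfl⟩

/-- No proper divisor of a candidate order is congruent to it. -/
def kerOk : Bool :=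
  kerDivisors.all fun d => (d + 1) % 11 == 0 || (List.range ((d + 1) / 2 + 1)).all fun c =>
    decide (c ≤ 1) || (d + 1) % c != 0 || c % 11 != (d + 1) % 11

theorem kerOk_eq : kerOk = true := by decide +kernel

theorem fixed_count_impossible {q c : ℕ} (hq : q - 1 ∣ 14520) (h11 : ¬ 11 ∣ q) (hc : c ∣ q)
    (h1 : 1 < c) (hlt : c < q) (hmod : c % 11 = q % 11) : False := by
  obtain ⟨d, rfl⟩ : ∃ d, q = d + 1 := ⟨q - 1, by omega⟩
  rw [Nat.add_sub_cancel] at hq
  have h := List.all_eq_true.1 kerOk_eq d (mem_kerDivisors hq)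
  obtain ⟨e, he⟩ := hc
  have he2 : 2 ≤ e := by
    by_contra hlt'
    interval_cases e <;> omega
  have hle : c < (d + 1) / 2 + 1 := Nat.lt_succ_of_le ((Nat.le_div_iff_mul_le two_pos).2 (by
    rw [he]; exact Nat.mul_le_mul_left c he2))
  simp only [Bool.or_eq_true, beq_iff_eq, List.all_eq_true, List.mem_range, decide_eq_true_eq,
    bne_iff_ne, ne_eq] at h
  rcases h with h | h
  · exact h11 (Nat.dvd_of_mod_eq_zero h)
  · rcases h c hle with (h' | h') | h'
    · omega
    · exact h' (Nat.mod_eq_zero_of_dvd (he ▸ dvd_mul_right c e))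
    · exact h' hmod

variable {G : Type u} [Group G] [Finite G]

/-- The conjugates of an element are in bijection with the cosets of its centraliser. -/
theorem card_conjugates (t : G) :
    Nat.card {x : G // IsConj t x} = (Subgroup.centralizer ({t} : Set G)).index := by
  rw [Subgroup.index]
  refine (Nat.card_congr (Equiv.ofBijective
    (fun y : G ⧸ Subgroup.centralizer ({t} : Set G) => Quotient.liftOn' y
      (fun g => (⟨g * t * g⁻¹, isConj_iff.2 ⟨g, rfl⟩⟩ : {x : G // IsConj t x})) fun a b hab =>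
        Subtype.ext ?_) ⟨?_, ?_⟩)).symm
  · have h : a⁻¹ * b ∈ Subgroup.centralizer ({t} : Set G) := QuotientGroup.leftRel_apply.1 hab
    have h' := Subgroup.mem_centralizer_singleton_iff.1 h
    calc a * t * a⁻¹ = a * (t * (a⁻¹ * b)) * b⁻¹ := by group
      _ = a * ((a⁻¹ * b) * t) * b⁻¹ := by rw [h']
      _ = b * t * b⁻¹ := by group
  · intro y z
    induction y using QuotientGroup.induction_on with
    | H a =>
      induction z using QuotientGroup.induction_on with
      | H b =>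
        intro h
        have h1 : a * t * a⁻¹ = b * t * b⁻¹ := congrArg Subtype.val h
        refine QuotientGroup.eq.2 (Subgroup.mem_centralizer_singleton_iff.2 ?_)
        calc a⁻¹ * b * t = a⁻¹ * (b * t * b⁻¹) * b := by group
          _ = a⁻¹ * (a * t * a⁻¹) * b := by rw [h1]
          _ = t * (a⁻¹ * b) := by group
  · rintro ⟨x, hx⟩
    obtain ⟨g, rfl⟩ := isConj_iff.1 hx
    exact ⟨(g : G ⧸ Subgroup.centralizer ({t} : Set G)), rfl⟩

/-- A coset inside one class forces the order of the kernel to divide the class size. -/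
theorem exists_not_isConj_in_coset (K : Subgroup G) [K.Normal] (t : G)
    (h : ¬ Nat.card K ∣ (Subgroup.centralizer ({t} : Set G)).index) :
    ∃ κ ∈ K, ¬ IsConj t (t * κ) := by
  by_contra! hall
  refine h ?_
  set S : Set G := {x | IsConj t x}
  have hS : ((QuotientGroup.mk : G → G ⧸ K) ⁻¹' ((QuotientGroup.mk : G → G ⧸ K) '' S)) = S := by
    refine Set.Subset.antisymm ?_ (Set.subset_preimage_image _ _)
    rintro x ⟨y, hy, hyx⟩
    obtain ⟨g, hg⟩ := isConj_iff.1 (show IsConj t y from hy)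
    have hmem : g⁻¹ * (y⁻¹ * x) * g ∈ K := by
      simpa using (inferInstance : K.Normal).conj_mem _ (QuotientGroup.eq.1 hyx) g⁻¹
    refine (hall _ hmem).trans (isConj_iff.2 ⟨g, ?_⟩)
    rw [← hg]
    group
  have h1 := Nat.card_congr (QuotientGroup.preimageMkEquivSubgroupProdSet K
    ((QuotientGroup.mk : G → G ⧸ K) '' S))
  rw [hS, Nat.card_prod, show Nat.card S = Nat.card {x : G // IsConj t x} from rfl,
    card_conjugates] at h1
  exact Dvd.intro _ h1.symm

theorem card_eq_inf_mul_map {H : Type v} [Group H] (π : G →* H) (C : Subgroup G) :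
    Nat.card C = Nat.card ↥(C ⊓ π.ker) * Nat.card ↥(C.map π) := by
  have h := (π.comp C.subtype).ker.card_mul_index
  rw [← h]
  congr 1
  · exact Nat.card_congr
      { toFun := fun x => ⟨((x : C) : G), (x : C).2, x.2⟩
        invFun := fun x => ⟨⟨x, x.2.1⟩, x.2.2⟩
        left_inv := fun x => rfl
        right_inv := fun x => rfl }
  · rw [Subgroup.index_ker, MonoidHom.range_comp, Subgroup.range_subtype]

variable {H : Type v} [Group H] [Finite H]

/-- Two nonconjugate regular elements with the same nontrivial image. -/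
theorem exists_fused_pair (π : G →* H) (hπ : Function.Surjective π) (hH : Nat.card H = 120)
    {z : H} (hz : orderOf z = 2) (hzc : ∀ y : H, y * z = z * y) (K : Subgroup G) [K.Normal]
    (hKπ : K ≤ π.ker) (hK11 : ¬ 11 ∣ Nat.card K) (hcard : Nat.card G = 14520 * Nat.card K)
    {k : G} (hk : k ∈ K) (hk1 : k ≠ 1) (hKone : ∀ x ∈ K, x ≠ 1 → IsConj k x)
    (hone : OneClass 11 G) :
    ∃ u₁ u₂ : G, π u₁ = π u₂ ∧ π u₁ ≠ 1 ∧ ¬ IsConj u₁ u₂ ∧
      ¬ 11 ∣ orderOf u₁ ∧ ¬ 11 ∣ orderOf u₂ := by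
  classical
  haveI h11 : Fact (Nat.Prime 11) := ⟨by norm_num⟩
  set q := Nat.card K with hq
  haveI : Nontrivial K := ⟨⟨k, hk⟩, 1, fun e => hk1 (congrArg Subtype.val e)⟩
  have hq1 : 1 < q := Finite.one_lt_card
  -- the kernel has order `121 q`
  have hM : Nat.card π.ker = 121 * q := by
    have h := π.ker.card_mul_index
    rw [Subgroup.index_ker, π.range_eq_top.2 hπ, Subgroup.card_top, hH, hcard] at h
    omega
  -- the class of `k`
  have hclass : (Subgroup.centralizer ({k} : Set G)).index = q - 1 := by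
    rw [← card_conjugates]
    have hiff : ∀ x, IsConj k x ↔ x ∈ (K : Set G) \ {1} := fun x => by
      refine ⟨fun hx => ?_, fun hx => hKone x hx.1 hx.2⟩
      obtain ⟨g, rfl⟩ := isConj_iff.1 hx
      exact ⟨(inferInstance : K.Normal).conj_mem k hk g, fun e => hk1 (conj_eq_one_iff.1 e)⟩
    rw [Nat.card_congr (Equiv.subtypeEquivRight hiff), ← Set.coe_setOf, Set.setOf_mem_eq,
      Nat.card_coe_set_eq, Set.ncard_sdiff_singleton_of_mem K.one_mem, ← Nat.card_coe_set_eq]
    rfl
  have hC := (Subgroup.centralizer ({k} : Set G)).card_mul_index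
  rw [hclass, hcard] at hC
  have hqd : q - 1 ∣ 14520 := by
    have h : q - 1 ∣ 14520 * q := ⟨_, by rw [← hC, mul_comm]⟩
    have hco : (q - 1).Coprime q := by
      have := Nat.coprime_self_add_right (m := q - 1) (n := 1)
      rw [Nat.sub_add_cancel hq1.le] at this
      exact this.2 (Nat.coprime_one_right _)
    exact hco.dvd_of_dvd_mul_right h
  -- a Sylow `11`-subgroup
  obtain ⟨P⟩ : Nonempty (Sylow 11 G) := inferInstance
  have hPker : (P : Subgroup G) ≤ π.ker := fun x hx => by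
    obtain ⟨i, hi⟩ := IsPGroup.iff_orderOf.1 P.2 ⟨x, hx⟩
    rw [← Subgroup.orderOf_coe] at hi
    have h1 := (orderOf_map_dvd π x).trans (dvd_of_eq hi)
    have h2 := orderOf_dvd_natCard (π x)
    rw [hH] at h2
    exact MonoidHom.mem_ker.2 (orderOf_eq_one_iff.1 (Nat.eq_one_of_dvd_coprimes
      (((Nat.Coprime.pow_left i (by norm_num : Nat.Coprime 11 120)))) h1 h2))
  have hPcard : Nat.card (P : Subgroup G) = 11 ^ 2 := by
    obtain ⟨i, hi⟩ := IsPGroup.iff_card.1 P.2
    refine Nat.dvd_antisymm ?_ (P.pow_dvd_card_of_pow_dvd_card (hcard ▸ ⟨120 * q, by ring⟩))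
    have h := Subgroup.card_dvd_of_le hPker
    rw [hM, hi] at h
    rw [hi]
    exact ((((by norm_num : Nat.Prime 11).coprime_iff_not_dvd).2 hK11).pow_left i).dvd_of_dvd_mul_right h
  have hord : ∀ x : G, (∃ j, orderOf x = 11 ^ j) → x ^ 11 = 1 := fun x hx => by
    obtain ⟨u, hu⟩ := exists_prime_orderOf_dvd_card' (G := G) 11 (hcard ▸ ⟨1320 * q, by ring⟩)
    rcases eq_or_ne x 1 with rfl | hx1
    · exact one_pow _
    have hu1 : u ≠ 1 := fun h => by rw [h, orderOf_one] at hu; norm_num at hu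
    obtain ⟨g, rfl⟩ := isConj_iff.1 (hone u x hu1 hx1 ⟨1, by rw [hu, pow_one]⟩ hx)
    rw [conj_pow, orderOf_dvd_iff_pow_eq_one.1 hu.dvd, mul_one, mul_inv_cancel]
  have hPexp : ∀ x ∈ (P : Subgroup G), x ^ 11 = 1 := fun x hx => hord x (by
    obtain ⟨i, hi⟩ := IsPGroup.iff_orderOf.1 P.2 ⟨x, hx⟩
    exact ⟨i, by rw [← Subgroup.orderOf_coe] at hi; exact hi⟩)
  have hPnc : ¬ IsCyclic (P : Subgroup G) := fun hc => by
    obtain ⟨g, hg⟩ := isCyclic_iff_exists_orderOf_eq_natCard.1 hc
    have h2 : orderOf g ∣ 11 := orderOf_dvd_of_pow_eq_one (Subtype.ext (by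
      rw [Subgroup.coe_pow, Subgroup.coe_one]; exact hPexp _ g.2))
    rw [hg, hPcard] at h2
    norm_num at h2
  haveI hPc : IsMulCommutative (P : Subgroup G) :=
    ⟨⟨IsPGroup.commutative_of_card_eq_prime_sq hPcard⟩⟩
  have hcopP : (Nat.card (P : Subgroup G)).Coprime (Nat.card K) := by
    rw [hPcard]
    exact (((by norm_num : Nat.Prime 11).coprime_iff_not_dvd).2 hK11).pow_left 2
  -- `P` centralises `K`
  have hPK : (P : Subgroup G) ≤ Subgroup.centralizer (K : Set G) := by
    by_contra hle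
    obtain ⟨x₀, hx₀P, hx₀⟩ := SetLike.not_le_iff_exists.1 hle
    have hmove : ∀ x ∈ (P : Subgroup G), x ≠ 1 → ¬ K ≤ Subgroup.centralizer ({x} : Set G) := by
      intro x hx hx1 hKx
      have hx₀1 : x₀ ≠ 1 := fun h => hx₀ (h ▸ Subgroup.one_mem _)
      obtain ⟨g, rfl⟩ := isConj_iff.1 (hone x x₀ hx1 hx₀1
        (by obtain ⟨i, hi⟩ := IsPGroup.iff_orderOf.1 P.2 ⟨x, hx⟩
            exact ⟨i, by rw [← Subgroup.orderOf_coe] at hi; exact hi⟩)
        (by obtain ⟨i, hi⟩ := IsPGroup.iff_orderOf.1 P.2 ⟨_, hx₀P⟩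
            exact ⟨i, by rw [← Subgroup.orderOf_coe] at hi; exact hi⟩))
      refine hx₀ fun y hy => ?_
      have h := Subgroup.mem_centralizer_singleton_iff.1
        (hKx (show g⁻¹ * y * g ∈ K by simpa using (inferInstance : K.Normal).conj_mem y hy g⁻¹))
      calc y * (g * x * g⁻¹) = g * (g⁻¹ * y * g * x) * g⁻¹ := by group
        _ = g * (x * (g⁻¹ * y * g)) * g⁻¹ := by rw [h]
        _ = g * x * g⁻¹ * y := by group
    obtain ⟨x, hx, hx1, hfix⟩ : ∃ x ∈ (P : Subgroup G), x ≠ 1 ∧
        K ⊓ Subgroup.centralizer ({x} : Set G) ≠ ⊥ := by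
      by_contra! hall
      have h := Coprime.iSup_centralizer_eq (K := K) hPnc
        (Subgroup.normalizer_eq_top (K : Subgroup G) ▸ le_top) hcopP
      have hbot : K = ⊥ := le_bot_iff.1 (h ▸ iSup₂_le fun x hx => (hall x hx.1 hx.2).le)
      exact hk1 (Subgroup.mem_bot.1 (hbot ▸ hk))
    set F := K ⊓ Subgroup.centralizer ({x} : Set G)
    haveI : Nontrivial F := (Subgroup.nontrivial_iff_ne_bot F).2 hfix
    have hlt : Nat.card F < q := by
      refine lt_of_le_of_ne (Subgroup.card_le_of_le inf_le_left) fun he => hmove x hx hx1 ?_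
      have := Subgroup.eq_of_le_of_card_ge (inf_le_left : F ≤ K) (le_of_eq he.symm)
      exact this ▸ inf_le_right
    have hmod : Nat.card F % 11 = q % 11 := by
      letI : MulAction (Subgroup.zpowers x) K :=
        MulAction.compHom K ((MulAut.conjNormal : G →* MulAut K).comp (Subgroup.zpowers x).subtype)
      have hpx : IsPGroup 11 (Subgroup.zpowers x) := P.2.to_le (Subgroup.zpowers_le.2 hx)
      have h := hpx.card_modEq_card_fixedPoints K
      rw [Nat.ModEq] at h
      rw [hq, h]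
      congr 1
      refine Nat.card_congr
        { toFun := fun w => ⟨⟨(w : G), w.2.1⟩, fun g => ?_⟩
          invFun := fun w => ⟨((w : K) : G), (w : K).2, Subgroup.mem_centralizer_singleton_iff.2 ?_⟩
          left_inv := fun w => rfl
          right_inv := fun w => rfl }
      · refine Subtype.ext ?_
        show ((MulAut.conjNormal (g : G) ⟨(w : G), w.2.1⟩ : K) : G) = w
        rw [MulAut.conjNormal_apply]
        obtain ⟨i, hi⟩ := Subgroup.mem_zpowers_iff.1 g.2
        have hc : Commute (w : G) x := Subgroup.mem_centralizer_singleton_iff.1 w.2.2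
        show (g : G) * w * (g : G)⁻¹ = w
        rw [← hi, ← (hc.zpow_right i).eq, mul_inv_cancel_right]
      · have h := congrArg Subtype.val (w.2 ⟨x, Subgroup.mem_zpowers x⟩)
        change ((MulAut.conjNormal x (w : K) : K) : G) = _ at h
        rw [MulAut.conjNormal_apply] at h
        exact (mul_inv_eq_iff_eq_mul.1 h).symm
    exact fixed_count_impossible hqd hK11 (Subgroup.card_dvd_of_le inf_le_left) Finite.one_lt_card
      hlt hmod
  -- `K` is an elementary abelian `r`-group
  obtain ⟨r, hr, hrq⟩ := Nat.exists_prime_and_dvd hq1.ne'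
  haveI := Fact.mk hr
  have hKexp : ∀ x ∈ K, x ≠ 1 → orderOf x = r := by
    obtain ⟨y, hy⟩ := exists_prime_orderOf_dvd_card' (G := K) r hrq
    intro x hx hx1
    have hy1 : (y : G) ≠ 1 := fun h => hr.ne_one (by
      rw [← hy, ← Subgroup.orderOf_coe, h, orderOf_one])
    have hc : IsConj (y : G) x := (hKone _ y.2 hy1).symm.trans (hKone x hx hx1)
    obtain ⟨g, hg⟩ := isConj_iff.1 hc
    rw [← hg, ← MulAut.conj_apply, MulEquiv.orderOf_eq, Subgroup.orderOf_coe, hy]
  have hKr : IsPGroup r K := fun x => ⟨1, by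
    rw [pow_one]
    refine Subtype.ext ?_
    rw [Subgroup.coe_pow, Subgroup.coe_one]
    rcases eq_or_ne (x : G) 1 with h | h
    · rw [h, one_pow]
    · rw [← hKexp x x.2 h, pow_orderOf_eq_one]⟩
  have hKab : ∀ a ∈ K, ∀ b ∈ K, a * b = b * a := fun a ha b hb => by
    obtain ⟨⟨⟨c, hcK⟩, hc⟩, hc1⟩ :=
      @exists_ne _ hKr.center_nontrivial (1 : Subgroup.center K)
    have hc1' : c ≠ 1 := fun h => hc1 (Subtype.ext (Subtype.ext h))
    rcases eq_or_ne a 1 with rfl | ha1
    · rw [one_mul, mul_one]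
    obtain ⟨g, rfl⟩ := isConj_iff.1 ((hKone c hcK hc1').symm.trans (hKone a ha ha1))
    have h : g⁻¹ * b * g * c = c * (g⁻¹ * b * g) := congrArg Subtype.val
      (Subgroup.mem_center_iff.1 hc
        ⟨g⁻¹ * b * g, by simpa using (inferInstance : K.Normal).conj_mem b hb g⁻¹⟩)
    calc g * c * g⁻¹ * b = g * (c * (g⁻¹ * b * g)) * g⁻¹ := by group
      _ = g * (g⁻¹ * b * g * c) * g⁻¹ := by rw [h]
      _ = b * (g * c * g⁻¹) := by group
  have hMK : π.ker ≤ Subgroup.centralizer (K : Set G) := by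
    have h1 : q ∣ Nat.card ↥(π.ker ⊓ Subgroup.centralizer (K : Set G)) :=
      Subgroup.card_dvd_of_le (le_inf hKπ fun a ha b hb => hKab b hb a ha)
    have h2 : 11 ^ 2 ∣ Nat.card ↥(π.ker ⊓ Subgroup.centralizer (K : Set G)) :=
      hPcard ▸ Subgroup.card_dvd_of_le (le_inf hPker hPK)
    have h3 := Nat.Coprime.mul_dvd_of_dvd_of_dvd (hPcard ▸ hcopP) h2 h1
    have h4 := Subgroup.eq_of_le_of_card_ge (inf_le_left : π.ker ⊓ _ ≤ π.ker)
      (hM ▸ Nat.le_of_dvd Nat.card_pos h3)
    exact h4 ▸ inf_le_right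
  -- the image of the centraliser of `k`
  set C := Subgroup.centralizer ({k} : Set G) with hCdef
  have hMC : π.ker ≤ C := hMK.trans (Subgroup.centralizer_le (by simpa using hk))
  set a := Nat.card ↥(C.map π) with ha
  have haq : a * (q - 1) = 120 := by
    rw [card_eq_inf_mul_map π C, inf_eq_right.2 hMC, hM, ← ha] at hC
    refine Nat.eq_of_mul_eq_mul_left (show 0 < 121 * q by omega) ?_
    rw [← mul_assoc, hC]; ring
  have hk_reg : orderOf k = r := hKexp k hk hk1
  have hr11 : r ≠ 11 := fun h => hK11 (h ▸ hrq)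
  have hrz : (11 : ℕ).Coprime r := (Nat.coprime_primes (by norm_num) hr).2 hr11.symm
  have hq121 : a ≠ 1 := fun h => by
    rw [h, one_mul] at haq
    exact hK11 ⟨11, by omega⟩
  have hreg : ∀ {x : G} {j : ℕ}, orderOf x = r ^ j → ¬ 11 ∣ orderOf x := fun {x j} hj h => by
    rw [hj] at h
    exact hr11 ((Nat.prime_dvd_prime_iff_eq (by norm_num) hr).1
      ((by norm_num : Nat.Prime 11).dvd_of_dvd_pow h)).symm
  have hπk : ∀ {t κ : G}, κ ∈ K → π (t * κ) = π t := fun {t κ} h => by
    rw [map_mul, MonoidHom.mem_ker.1 (hKπ h), mul_one]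
  -- a coset containing two classes of `r`-elements
  have hcoset : ∀ t : G, (∃ j, orderOf t = r ^ j) → π t ≠ 1 →
      ¬ q ∣ (Subgroup.centralizer ({t} : Set G)).index →
      ∃ u₁ u₂ : G, π u₁ = π u₂ ∧ π u₁ ≠ 1 ∧ ¬ IsConj u₁ u₂ ∧
        ¬ 11 ∣ orderOf u₁ ∧ ¬ 11 ∣ orderOf u₂ := by
    rintro t ⟨j, hj⟩ ht hnd
    obtain ⟨κ, hκ, hne⟩ := exists_not_isConj_in_coset K t hnd
    refine ⟨t, t * κ, (hπk hκ).symm, ht, hne, hreg hj, ?_⟩
    have hT : IsPGroup r (Subgroup.zpowers t) := IsPGroup.of_card (n := j) (by rw [Nat.card_zpowers, hj])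
    obtain ⟨i, hi⟩ := IsPGroup.iff_orderOf.1 (hT.to_sup_of_normal_right hKr)
      ⟨t * κ, Subgroup.mul_mem_sup (Subgroup.mem_zpowers t) hκ⟩
    rw [← Subgroup.orderOf_coe] at hi
    exact hreg hi
  by_cases hs : ∃ s : ℕ, s.Prime ∧ s ∣ a ∧ s ≠ r
  · obtain ⟨s, hs, hsa, hsr⟩ := hs
    haveI := Fact.mk hs
    have hs120 : s ∣ 120 := hsa.trans ⟨_, haq.symm⟩
    have hs11 : s ≠ 11 := fun h => by rw [h] at hs120; norm_num at hs120
    have hsC : s ∣ Nat.card C := by
      rw [card_eq_inf_mul_map π C, ← ha]; exact dvd_mul_of_dvd_right hsa _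
    obtain ⟨⟨t, htC⟩, ht⟩ := exists_prime_orderOf_dvd_card' (G := C) s hsC
    rw [← Subgroup.orderOf_coe] at ht
    change orderOf t = s at ht
    have hπt : π t ≠ 1 := fun h => by
      have h1 : orderOf t ∣ Nat.card π.ker := Subgroup.orderOf_dvd_natCard π.ker (MonoidHom.mem_ker.2 h)
      rw [ht, hM] at h1
      rcases hs.dvd_mul.1 h1 with h2 | h2
      · exact hs11 ((Nat.prime_dvd_prime_iff_eq hs (by norm_num)).1
          (hs.dvd_of_dvd_pow (show s ∣ 11 ^ 2 from h2)))
      · obtain ⟨m, hm⟩ := IsPGroup.iff_card.1 hKr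
        rw [hq, hm] at h2
        exact hsr ((Nat.prime_dvd_prime_iff_eq hs hr).1 (hs.dvd_of_dvd_pow h2))
    have hc : Commute t k := Subgroup.mem_centralizer_singleton_iff.1 htC
    have hord2 : orderOf (t * k) = s * r := by
      rw [hc.orderOf_mul_eq_mul_orderOf_of_coprime
        (by rw [ht, hk_reg]; exact (Nat.coprime_primes hs hr).2 hsr), ht, hk_reg]
    refine ⟨t, t * k, (hπk hk).symm, hπt, fun h => ?_, ?_, ?_⟩
    · obtain ⟨g, hg⟩ := isConj_iff.1 h
      have h' : orderOf t = orderOf (t * k) := by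
        rw [← hg, ← MulAut.conj_apply, MulEquiv.orderOf_eq]
      rw [ht, hord2] at h'
      have := hr.two_le; have := hs.pos
      nlinarith
    · rw [ht]
      exact fun h => hs11 ((Nat.prime_dvd_prime_iff_eq (by norm_num) hs).1 h).symm
    · rw [hord2]
      intro h
      rcases (Nat.Prime.dvd_mul (by norm_num)).1 h with h | h
      · exact hs11 ((Nat.prime_dvd_prime_iff_eq (by norm_num) hs).1 h).symm
      · exact hr11 ((Nat.prime_dvd_prime_iff_eq (by norm_num) hr).1 h).symm
  -- the image is an `r`-group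
  push Not at hs
  have hra : r ∣ a := by
    obtain ⟨s, hs', hsa⟩ := Nat.exists_prime_and_dvd hq121
    exact hs s hs' hsa ▸ hsa
  have hr120 : r ∣ 120 := hra.trans ⟨_, haq.symm⟩
  rcases eq_or_ne r 2 with hr2 | hr2
  · -- `q = 16`
    subst hr2
    obtain ⟨m, hm⟩ := IsPGroup.iff_card.1 hKr
    have ha2 : a = 2 ^ a.primeFactorsList.length :=
      Nat.eq_prime_pow_of_unique_prime_dvd (by rw [ha]; exact Nat.card_pos.ne')
        fun {d} hd hda => hs d hd hda
    set j := a.primeFactorsList.length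
    have hj3 : j ≤ 3 := by
      have h : 2 ^ j ∣ 2 ^ 3 * 15 := ⟨q - 1, by rw [← ha2, haq]; rfl⟩
      exact (Nat.pow_dvd_pow_iff_le_right (by norm_num : 1 < 2)).1
        ((Nat.Coprime.pow_left j (by norm_num : Nat.Coprime 2 15)).dvd_of_dvd_mul_right h)
    have hmle : m ≤ 7 := by
      by_contra hlt
      have : 2 ^ 8 ≤ q := hq ▸ hm ▸ Nat.pow_le_pow_right two_pos (by omega)
      have : 120 < a * (q - 1) := by
        have := Nat.mul_le_mul (show 1 ≤ a from ha ▸ Nat.card_pos) (show 255 ≤ q - 1 by omega)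
        omega
      omega
    rw [hq, hm, ha2] at haq
    have hmj : m = 4 ∧ j = 3 := by
      revert haq
      interval_cases m <;> interval_cases j <;> norm_num
    have hq16 : q = 16 := by rw [hq, hm, hmj.1]; norm_num
    -- `z` lies in the image
    haveI : (Subgroup.zpowers z).Normal := ⟨fun x hx g => by
      obtain ⟨i, rfl⟩ := Subgroup.mem_zpowers_iff.1 hx
      rw [(show Commute g z from hzc g).zpow_right i |>.eq, mul_inv_cancel_right]
      exact Subgroup.zpow_mem_zpowers z i⟩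
    have hZ2 : IsPGroup 2 (Subgroup.zpowers z) := IsPGroup.of_card (n := 1) (by rw [Nat.card_zpowers, hz, pow_one])
    have hA2 : IsPGroup 2 (C.map π) := IsPGroup.of_card (n := 3) (by rw [← ha, ha2, hmj.2])
    obtain ⟨i, hi⟩ := IsPGroup.iff_card.1 (hA2.to_sup_of_normal_right hZ2)
    have hi3 : i ≤ 3 := by
      have h := Subgroup.card_subgroup_dvd_card (C.map π ⊔ Subgroup.zpowers z)
      rw [hH, hi, show (120 : ℕ) = 2 ^ 3 * 15 from rfl] at h
      exact (Nat.pow_dvd_pow_iff_le_right (by norm_num : 1 < 2)).1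
        ((Nat.Coprime.pow_left i (by norm_num : Nat.Coprime 2 15)).dvd_of_dvd_mul_right h)
    have hzmem : z ∈ C.map π := by
      have he := Subgroup.eq_of_le_of_card_ge (le_sup_left : C.map π ≤ C.map π ⊔ Subgroup.zpowers z)
        (by rw [hi, ← ha, ha2, hmj.2]; exact Nat.pow_le_pow_right two_pos hi3)
      exact he ▸ Subgroup.mem_sup_right (Subgroup.mem_zpowers z)
    set Z := (Subgroup.zpowers z).comap π
    have hZC : Z ≤ C := fun y hy => by
      obtain ⟨c, hc, hcy⟩ : π y ∈ C.map π := (Subgroup.zpowers_le.2 hzmem) hy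
      have : c⁻¹ * y ∈ C := hMC (MonoidHom.mem_ker.2 (by rw [map_mul, map_inv, hcy, inv_mul_cancel]))
      simpa using C.mul_mem hc this
    obtain ⟨t, htz, htord⟩ := exists_primary_lift Nat.prime_two π hπ ⟨1, by rw [hz, pow_one]⟩
    have hz1 : π t ≠ 1 := by
      rw [htz]; intro h; rw [h, orderOf_one] at hz; omega
    have htZ : t ∈ Z := by rw [Subgroup.mem_comap, htz]; exact Subgroup.mem_zpowers z
    have hKt : K ≤ Subgroup.centralizer ({t} : Set G) := fun x hx => by
      rcases eq_or_ne x 1 with rfl | hx1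
      · exact Subgroup.one_mem _
      obtain ⟨g, rfl⟩ := isConj_iff.1 (hKone x hx hx1)
      have hg : g⁻¹ * t * g ∈ Z := by simpa using (inferInstance : Z.Normal).conj_mem t htZ g⁻¹
      have h := Subgroup.mem_centralizer_singleton_iff.1 (hZC hg)
      refine Subgroup.mem_centralizer_singleton_iff.2 ?_
      calc g * k * g⁻¹ * t = g * (k * (g⁻¹ * t * g)) * g⁻¹ := by group
        _ = g * ((g⁻¹ * t * g) * k) * g⁻¹ := by rw [h]
        _ = t * (g * k * g⁻¹) := by group
    refine hcoset t htord hz1 fun hdvd => ?_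
    have hmul := (Subgroup.centralizer ({t} : Set G)).card_mul_index
    rw [hcard] at hmul
    have h1 : q * 2 ∣ Nat.card ↥(Subgroup.centralizer ({t} : Set G)) := by
      rw [card_eq_inf_mul_map π]
      refine mul_dvd_mul (Subgroup.card_dvd_of_le (le_inf hKt hKπ)) ?_
      rw [← hz, ← htz]
      exact Subgroup.orderOf_dvd_natCard _ (Subgroup.mem_map_of_mem π
        (Subgroup.mem_centralizer_singleton_iff.2 rfl))
    have h2 := mul_dvd_mul h1 hdvd
    rw [hmul, hq16] at h2
    norm_num at h2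
  · -- `r = 3, 5`
    have hr35 : r = 3 ∨ r = 5 := by
      have hle := Nat.le_of_dvd (by norm_num) hr120
      have : r ∈ (Nat.divisors 120) := Nat.mem_divisors.2 ⟨hr120, by norm_num⟩
      have hdec : ∀ d ∈ Nat.divisors 120, Nat.Prime d → d = 2 ∨ d = 3 ∨ d = 5 := by decide +kernel
      exact (hdec r this hr).resolve_left hr2
    obtain ⟨⟨y, hy⟩, hyo⟩ := exists_prime_orderOf_dvd_card' (G := C.map π) r hra
    rw [← Subgroup.orderOf_coe] at hyo
    change orderOf y = r at hyo
    obtain ⟨⟨t, htC⟩, hty, htord⟩ := exists_primary_lift hr (π.subgroupMap C)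
      (π.subgroupMap_surjective C) (y := ⟨y, hy⟩) ⟨1, by rw [← Subgroup.orderOf_coe, pow_one]; exact hyo⟩
    have hty' : π t = y := congrArg Subtype.val hty
    have htord' : ∃ j, orderOf t = r ^ j := by
      obtain ⟨j, hj⟩ := htord
      exact ⟨j, by rw [← Subgroup.orderOf_coe] at hj; exact hj⟩
    have ht1 : π t ≠ 1 := by
      rw [hty']; intro h; rw [h, orderOf_one] at hyo; exact hr.ne_one hyo.symm
    refine hcoset t htord' ht1 fun hdvd => ?_
    have hmul := (Subgroup.centralizer ({t} : Set G)).card_mul_index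
    rw [hcard] at hmul
    have hkt : k ∈ Subgroup.centralizer ({t} : Set G) ⊓ π.ker :=
      ⟨Subgroup.mem_centralizer_singleton_iff.2 (Subgroup.mem_centralizer_singleton_iff.1 htC).symm,
        hKπ hk⟩
    have h1 : r * r ∣ Nat.card ↥(Subgroup.centralizer ({t} : Set G)) := by
      rw [card_eq_inf_mul_map π]
      refine mul_dvd_mul (hk_reg ▸ Subgroup.orderOf_dvd_natCard _ hkt) ?_
      have := Subgroup.orderOf_dvd_natCard _ (Subgroup.mem_map_of_mem π
        (Subgroup.mem_centralizer_singleton_iff.2 (rfl : t * t = t * t)))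
      rwa [hty', hyo] at this
    have h2 := mul_dvd_mul h1 hdvd
    rw [hmul] at h2
    have h3 := Nat.dvd_of_mul_dvd_mul_right (show 0 < q by omega) h2
    rcases hr35 with rfl | rfl <;> norm_num at h3

end Cfsg.Agent.TransCoprime
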