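import Cfsg.Agent.Lib.TransCoprime.Eleven

/-!
# Class numbers of `p`-solvable groups with one class of nontrivial `p`-elements

* `regular_bound` : the trichotomy for the number of `p`-regular classes.
-/

set_option autoImplicit false
set_option linter.style.haveILetI false
set_option linter.unusedSectionVars false

namespace Cfsg.Agent.TransCoprime

universe u

variable {G : Type u} [Group G] [Finite G] {p : ℕ} [Fact p.Prime]

/-- A complement is isomorphic to the quotient. -/
noncomputable def complementEquiv {V H : Subgroup G} [V.Normal] (h : Subgroup.IsComplement' V H) :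
    H ≃* G ⧸ V :=
  MulEquiv.ofBijective ((QuotientGroup.mk' V).comp H.subtype) (by
    refine ⟨(injective_iff_map_eq_one _).2 fun x hx => ?_, fun y => ?_⟩
    · have hmem : (x : G) ∈ (⊥ : Subgroup G) :=
        h.disjoint.eq_bot ▸ ⟨(QuotientGroup.eq_one_iff _).1 hx, x.2⟩
      exact Subtype.ext (Subgroup.mem_bot.1 hmem)
    · induction y using QuotientGroup.induction_on with
      | H g =>
        obtain ⟨⟨⟨a, ha⟩, ⟨b, hb⟩⟩, rfl⟩ := h.2 g
        refine ⟨⟨b, hb⟩, ?_⟩
        show (b : G ⧸ V) = ((a * b : G) : G ⧸ V)
        rw [QuotientGroup.mk_mul, (QuotientGroup.eq_one_iff a).2 ha, one_mul])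

/-- The central involution of `SL(2, 5)`. -/
theorem exists_central_involution :
    ∃ z : Matrix.SpecialLinearGroup (Fin 2) (ZMod 5), orderOf z = 2 ∧ ∀ y, y * z = z * y := by
  haveI : Fact (Even (Fintype.card (Fin 2))) := ⟨by decide⟩
  refine ⟨-1, ?_, fun y => by rw [mul_neg, neg_mul, mul_one, one_mul]⟩
  refine orderOf_eq_prime (by rw [pow_two, neg_mul_neg, one_mul]) fun h => ?_
  have h1 := congrArg (fun A : Matrix.SpecialLinearGroup (Fin 2) (ZMod 5) =>
    (A : Matrix (Fin 2) (Fin 2) (ZMod 5)) 0 0) h
  simp at h1
  exact absurd h1 (by decide)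

theorem regular_bound (hsolv : Cfsg.IsPSolvable p G) (hdiv : p ∣ Nat.card G) (hconj : OneClass p G) :
    p ≤ regCount p G ∨ (regCount p G = p - 1 ∧ Nonempty (G ≃* ↥(Cfsg.affineGroup (ZMod p)))) ∨
      (p = 11 ∧ regCount p G = 9 ∧ (Nat.card G = 121 * 120 ∧ ∃ H : Subgroup G,
        Cfsg.IsFrobeniusComplement H ∧
          Nonempty (↥H ≃* Matrix.SpecialLinearGroup (Fin 2) (ZMod 5)))) := by
  classical
  have hp : p.Prime := Fact.out
  set K := Cfsg.pPrimeCore p G with hK
  by_cases hK1 : K = ⊥
  · -- the core is trivial
    obtain ⟨V, H, hVn, hs⟩ := exists_structure hsolv hdiv hconj hK1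
    haveI := hVn
    have hHp := hs.card_complement
    have hge : Nat.card (ConjClasses H) ≤ regCount p G := by
      have h := card_quotient_add_le hp (QuotientGroup.mk' V) (QuotientGroup.mk'_surjective V)
        (by rw [← Subgroup.index]; exact hs.index) (∅ : Finset G) (by simp) (by simp) ∅ (by simp)
      rw [Finset.card_empty, Finset.card_empty, add_zero, add_zero,
        ← card_conjClasses_congr (complementEquiv hs.compl)] at h
      exact h
    rcases (semidirect_bounds p V hs.exp hs.index hs.self H hs.compl hs.trans hs.ne_bot).2 with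
      h | ⟨hV, hk⟩ | ⟨rfl, hV, hH, hk, ⟨e⟩⟩
    · exact Or.inl (h.trans hge)
    · refine Or.inr (Or.inl ⟨le_antisymm ?_ (hk ▸ hge), affine_iso hs hV⟩)
      exact hk ▸ card_regular_le_of_fpf hp V hs.exp H hHp hs.compl (hs.fpf_of_prime hV)
    · have hfpf := hs.fpf (by rw [hH, hV])
      refine Or.inr (Or.inr ⟨rfl, le_antisymm ?_ (hk ▸ hge), ?_, H, ?_, ⟨e⟩⟩)
      · exact hk ▸ card_regular_le_of_fpf hp V hs.exp H hHp hs.compl hfpf
      · rw [← hs.compl.card_mul, hV, hH]
      · refine hs.isFrobeniusComplement (fun h => ?_) hfpf
        rw [h, Subgroup.card_bot] at hH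
        norm_num at hH
  · -- the core is nontrivial
    left
    have hKc : ¬ p ∣ Nat.card K := PCore.not_dvd_card_pPrimeCore
    have hdivQ : p ∣ Nat.card (G ⧸ K) := by
      rw [← Subgroup.index]
      exact (hp.dvd_mul.1 (K.index_mul_card.symm ▸ hdiv)).resolve_right hKc
    have hconjQ : OneClass p (G ⧸ K) := fun x y hx hy hxo hyo => by
      obtain ⟨a, rfl, ha⟩ := exists_primary_lift hp (QuotientGroup.mk' K)
        (QuotientGroup.mk'_surjective K) hxo
      obtain ⟨b, rfl, hb⟩ := exists_primary_lift hp (QuotientGroup.mk' K)
        (QuotientGroup.mk'_surjective K) hyo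
      exact (QuotientGroup.mk' K).map_isConj (hconj a b (fun h => hx (by rw [h, map_one]))
        (fun h => hy (by rw [h, map_one])) ha hb)
    obtain ⟨V, H, hVn, hs⟩ := exists_structure (PCore.isPSolvable_quotient hsolv K) hdivQ hconjQ
      PCore.pPrimeCore_quotient_self_eq_bot
    haveI := hVn
    set π : G →* (G ⧸ K) ⧸ V := (QuotientGroup.mk' V).comp (QuotientGroup.mk' K)
    have hπ : Function.Surjective π :=
      (QuotientGroup.mk'_surjective V).comp (QuotientGroup.mk'_surjective K)
    have hKπ : K ≤ π.ker := fun x hx => by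
      rw [MonoidHom.mem_ker, MonoidHom.comp_apply, (QuotientGroup.eq_one_iff x).2 hx |>
        (show (x : G ⧸ K) = 1 → QuotientGroup.mk' K x = 1 from fun h => h), map_one]
    have hQ : ¬ p ∣ Nat.card ((G ⧸ K) ⧸ V) := hs.index
    have hkH : Nat.card (ConjClasses ((G ⧸ K) ⧸ V)) = Nat.card (ConjClasses H) :=
      (card_conjClasses_congr (complementEquiv hs.compl)).symm
    obtain ⟨k, hk, hk1⟩ := (Subgroup.bot_or_exists_ne_one K).resolve_left hK1
    have hregK : ∀ x ∈ K, ¬ p ∣ orderOf x := fun x hx h => hKc (h.trans (K.orderOf_dvd_natCard hx))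
    have hne1 : ¬ IsConj (1 : G) k := fun h => hk1 (isConj_one_right.1 h)
    have hone : ∀ x ∈ K, ConjClasses.mk (π x) = ConjClasses.mk 1 := fun x hx => by
      rw [MonoidHom.mem_ker.1 (hKπ hx)]
    rcases (semidirect_bounds p V hs.exp hs.index hs.self H hs.compl hs.trans hs.ne_bot).2 with
      h | ⟨-, hk'⟩ | ⟨rfl, hV, hH, hk', ⟨e⟩⟩
    · have h' := card_quotient_add_le hp π hπ hQ ({1} : Finset G)
        (by simp; exact hp.one_lt.ne') (by simp) {ConjClasses.mk 1} (by simp)
      rw [hkH, Finset.card_singleton, Finset.card_singleton] at h'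
      omega
    · have h' := card_quotient_add_le hp π hπ hQ ({1, k} : Finset G)
        (by
          intro a ha
          rcases Finset.mem_insert.1 ha with rfl | ha
          · exact hregK 1 K.one_mem
          · rw [Finset.mem_singleton.1 ha]; exact hregK k hk)
        (by
          intro a ha b hb hab
          simp only [Finset.mem_insert, Finset.mem_singleton] at ha hb
          rcases ha with rfl | rfl <;> rcases hb with rfl | rfl
          · rfl
          · exact absurd hab hne1
          · exact absurd hab.symm hne1
          · rfl)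
        {ConjClasses.mk 1} (by
          intro a ha
          rcases Finset.mem_insert.1 ha with rfl | ha
          · simp
          · rw [Finset.mem_singleton.1 ha, hone k hk]; simp)
      rw [hkH, Finset.card_singleton, Finset.card_pair (Ne.symm hk1)] at h'
      omega
    · by_cases hsingle : ∀ x ∈ K, x ≠ 1 → IsConj k x
      · obtain ⟨z₀, hz₀, hz₀c⟩ := exists_central_involution
        set ε := (complementEquiv hs.compl).symm.trans e
        have hQcard : Nat.card ((G ⧸ K) ⧸ V) = 120 := by
          rw [← Nat.card_congr (complementEquiv hs.compl).toEquiv, hH]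
        have hGcard : Nat.card G = 14520 * Nat.card K := by
          rw [← K.index_mul_card, Subgroup.index, ← hs.compl.card_mul, hV, hH]
        obtain ⟨u₁, u₂, heq, hu1, hne, hr1, hr2⟩ := exists_fused_pair π hπ hQcard
          (z := ε.symm z₀) (by rw [MulEquiv.orderOf_eq, hz₀])
          (fun y => ε.injective (by simp [hz₀c])) K hKπ hKc hGcard hk hk1 hsingle hconj
        have hu2 : π u₂ ≠ 1 := heq ▸ hu1
        have hfib : ∀ {u x : G}, π u ≠ 1 → x ∈ K → ¬ IsConj u x := fun {u x} hu hx h => hu (by
          have h' := π.map_isConj h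
          rw [MonoidHom.mem_ker.1 (hKπ hx)] at h'
          exact isConj_one_left.1 h')
        have h1u : u₁ ≠ u₂ := fun h => hne (h ▸ IsConj.refl u₁)
        have hk1u : k ≠ u₁ := fun h => hfib hu1 hk (h ▸ IsConj.refl u₁)
        have hk2u : k ≠ u₂ := fun h => hfib hu2 hk (h ▸ IsConj.refl u₂)
        have h11u : (1 : G) ≠ u₁ := fun h => hfib hu1 K.one_mem (h ▸ IsConj.refl u₁)
        have h12u : (1 : G) ≠ u₂ := fun h => hfib hu2 K.one_mem (h ▸ IsConj.refl u₂)
        have hcard4 : ({1, k, u₁, u₂} : Finset G).card = 4 := by
          rw [Finset.card_insert_of_notMem (by simp [Ne.symm hk1, h11u, h12u]),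
            Finset.card_insert_of_notMem (by simp [hk1u, hk2u]), Finset.card_pair h1u]
        have h' := card_quotient_add_le hp π hπ hQ ({1, k, u₁, u₂} : Finset G)
          (by
            intro a ha
            simp only [Finset.mem_insert, Finset.mem_singleton] at ha
            rcases ha with rfl | rfl | rfl | rfl
            exacts [hregK 1 K.one_mem, hregK _ hk, hr1, hr2])
          (by
            intro a ha b hb hab
            simp only [Finset.mem_insert, Finset.mem_singleton] at ha hb
            rcases ha with rfl | rfl | rfl | rfl <;> rcases hb with rfl | rfl | rfl | rfl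
            exacts [rfl, absurd hab hne1, absurd hab.symm (hfib hu1 K.one_mem),
              absurd hab.symm (hfib hu2 K.one_mem),
              absurd hab.symm hne1, rfl, absurd hab.symm (hfib hu1 hk), absurd hab.symm (hfib hu2 hk),
              absurd hab (hfib hu1 K.one_mem), absurd hab (hfib hu1 hk), rfl, absurd hab hne,
              absurd hab (hfib hu2 K.one_mem), absurd hab (hfib hu2 hk), absurd hab.symm hne, rfl])
          {ConjClasses.mk 1, ConjClasses.mk (π u₁)} (by
            intro a ha
            simp only [Finset.mem_insert, Finset.mem_singleton] at ha ⊢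
            rcases ha with rfl | rfl | rfl | rfl
            exacts [Or.inl (hone 1 K.one_mem), Or.inl (hone _ hk), Or.inr rfl, Or.inr (by rw [heq])])
        rw [hkH, hk', hcard4] at h'
        have hle := Finset.card_le_two (a := ConjClasses.mk (1 : (G ⧸ K) ⧸ V)) (b := ConjClasses.mk (π u₁))
        omega
      · push Not at hsingle
        obtain ⟨k', hk'K, hk'1, hne⟩ := hsingle
        have hne' : ¬ IsConj (1 : G) k' := fun h => hk'1 (isConj_one_right.1 h)
        have hkk : k ≠ k' := fun h => hne (h ▸ IsConj.refl k)
        have hcard3 : ({1, k, k'} : Finset G).card = 3 := by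
          rw [Finset.card_insert_of_notMem (by simp [Ne.symm hk1, Ne.symm hk'1]), Finset.card_pair hkk]
        have h' := card_quotient_add_le hp π hπ hQ ({1, k, k'} : Finset G)
          (by
            intro a ha
            simp only [Finset.mem_insert, Finset.mem_singleton] at ha
            rcases ha with rfl | rfl | rfl
            exacts [hregK 1 K.one_mem, hregK _ hk, hregK _ hk'K])
          (by
            intro a ha b hb hab
            simp only [Finset.mem_insert, Finset.mem_singleton] at ha hb
            rcases ha with rfl | rfl | rfl <;> rcases hb with rfl | rfl | rfl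
            exacts [rfl, absurd hab hne1, absurd hab hne', absurd hab.symm hne1, rfl, absurd hab hne,
              absurd hab.symm hne', absurd hab.symm hne, rfl])
          {ConjClasses.mk 1} (by
            intro a ha
            simp only [Finset.mem_insert, Finset.mem_singleton] at ha ⊢
            rcases ha with rfl | rfl | rfl
            exacts [hone 1 K.one_mem, hone _ hk, hone _ hk'K])
        rw [hkH, hk', hcard3, Finset.card_singleton] at h'
        omega

end Cfsg.Agent.TransCoprime
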