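import Mathlib

/-!
# Counting `p`-regular classes through a quotient

* `exists_regular_lift`, `exists_primary_lift` : lifts of elements through surjections.
* `le_card_regular` : pairwise nonconjugate `p`-regular elements bound the class number.
* `card_quotient_add_le` : classes of a `p'`-quotient plus nonconjugate elements in few fibres.
* `card_regular_le_of_fpf` : the upper bound for a Frobenius complement.
-/

set_option autoImplicit false
set_option linter.style.haveILetI false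

namespace Cfsg.Agent.TransCoprime

universe u v

variable {G : Type u} [Group G] [Finite G] {H : Type v} [Group H]

/-- The number of classes of `p`-regular elements. -/
noncomputable def regCount (p : ℕ) (G : Type u) [Group G] : ℕ :=
  Nat.card {c : ConjClasses G // ∃ g : G, ConjClasses.mk g = c ∧ ¬ p ∣ orderOf g}

omit [Finite G] in
theorem exists_lift_coprime (f : G →* H) (x : G) {n : ℕ} (hn : n ∣ orderOf x) (h0 : n ≠ 0)
    (hc : n.Coprime (orderOf (f x))) : ∃ y, f y = f x ∧ orderOf y ∣ orderOf x / n := by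
  obtain ⟨m, hm⟩ := exists_pow_eq_self_of_coprime hc
  refine ⟨(x ^ n) ^ m, by rw [map_pow, map_pow, hm], ?_⟩
  rw [← orderOf_pow_of_dvd h0 hn]
  exact orderOf_pow_dvd m

/-- Elements of order prime to `p` lift to such elements. -/
theorem exists_regular_lift {p : ℕ} (hp : p.Prime) (f : G →* H) (hf : Function.Surjective f) {y : H}
    (hy : ¬ p ∣ orderOf y) : ∃ x, f x = y ∧ ¬ p ∣ orderOf x := by
  obtain ⟨x, rfl⟩ := hf y
  have hx0 : orderOf x ≠ 0 := (orderOf_pos x).ne'
  obtain ⟨z, hz, hzd⟩ := exists_lift_coprime f x (Nat.ordProj_dvd (orderOf x) p)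
    (pow_ne_zero _ hp.ne_zero) ((hp.coprime_iff_not_dvd.2 hy).pow_left _)
  exact ⟨z, hz, fun h => Nat.not_dvd_ordCompl hp hx0 (h.trans hzd)⟩

/-- `p`-elements lift to `p`-elements. -/
theorem exists_primary_lift {p : ℕ} (hp : p.Prime) (f : G →* H) (hf : Function.Surjective f) {y : H}
    (hy : ∃ k, orderOf y = p ^ k) : ∃ x, f x = y ∧ ∃ k, orderOf x = p ^ k := by
  obtain ⟨x, rfl⟩ := hf y
  obtain ⟨k, hk⟩ := hy
  have hx0 : orderOf x ≠ 0 := (orderOf_pos x).ne'
  have hd := Nat.ordCompl_dvd (orderOf x) p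
  obtain ⟨z, hz, hzd⟩ := exists_lift_coprime f x hd
    (ne_zero_of_dvd_ne_zero hx0 hd)
    (by rw [hk]; exact (hp.coprime_iff_not_dvd.2 (Nat.not_dvd_ordCompl hp hx0)).symm.pow_right k)
  rw [Nat.div_div_self (Nat.ordProj_dvd _ p) hx0] at hzd
  obtain ⟨i, -, hi⟩ := (Nat.dvd_prime_pow hp).1 hzd
  exact ⟨z, hz, i, hi⟩

/-- Pairwise nonconjugate regular elements. -/
theorem le_card_regular {p : ℕ} {ι : Type v} (f : ι → G) (hreg : ∀ i, ¬ p ∣ orderOf (f i))
    (hinj : ∀ i j, IsConj (f i) (f j) → i = j) : Nat.card ι ≤ regCount p G := by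
  refine Nat.card_le_card_of_injective
    (fun i => (⟨ConjClasses.mk (f i), f i, rfl, hreg i⟩ :
      {c : ConjClasses G // ∃ g : G, ConjClasses.mk g = c ∧ ¬ p ∣ orderOf g})) fun i j h => hinj i j ?_
  exact ConjClasses.mk_eq_mk_iff_isConj.1 (congrArg Subtype.val h)

/-- Classes of a `p'`-quotient, and nonconjugate regular elements in few fibres. -/
theorem card_quotient_add_le {p : ℕ} (hp : p.Prime) [Finite H] (π : G →* H)
    (hπ : Function.Surjective π) (hH : ¬ p ∣ Nat.card H) (A : Finset G)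
    (hreg : ∀ a ∈ A, ¬ p ∣ orderOf a) (hinj : ∀ a ∈ A, ∀ b ∈ A, IsConj a b → a = b)
    (S : Finset (ConjClasses H)) (hS : ∀ a ∈ A, ConjClasses.mk (π a) ∈ S) :
    Nat.card (ConjClasses H) + A.card ≤ regCount p G + S.card := by
  classical
  haveI : Fintype (ConjClasses H) := Fintype.ofFinite _
  have hlift : ∀ c : ConjClasses H, ∃ x : G, ConjClasses.mk (π x) = c ∧ ¬ p ∣ orderOf x := fun c => by
    obtain ⟨h, rfl⟩ := ConjClasses.mk_surjective c
    obtain ⟨x, hx, hxr⟩ := exists_regular_lift hp π hπ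
      (fun hd => hH (hd.trans (orderOf_dvd_natCard h)))
    exact ⟨x, by rw [hx], hxr⟩
  choose σ hσ hσr using hlift
  have hmap : ∀ {a b : G}, IsConj a b → ConjClasses.mk (π a) = ConjClasses.mk (π b) := fun h =>
    ConjClasses.mk_eq_mk_iff_isConj.2 (π.map_isConj h)
  set T := (Finset.univ \ S).image σ with hT
  have hσinj : Function.Injective σ := fun c d h => by rw [← hσ c, ← hσ d, h]
  have hTA : ∀ t ∈ T, ∀ a ∈ A, ¬ IsConj t a := fun t ht a ha h => by
    obtain ⟨c, hc, rfl⟩ := Finset.mem_image.1 ht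
    have he := hmap h
    rw [hσ] at he
    exact (Finset.mem_sdiff.1 hc).2 (he ▸ hS a ha)
  have hdisj : Disjoint T A := Finset.disjoint_left.2 fun x hx hxA => hTA x hx x hxA (IsConj.refl x)
  have hle : (T ∪ A).card ≤ regCount p G := by
    refine le_trans (le_of_eq (Nat.card_eq_finsetCard (T ∪ A)).symm) ?_
    refine Nat.card_le_card_of_injective (fun x : ↥(T ∪ A) =>
      (⟨ConjClasses.mk (x : G), x, rfl, ?_⟩ :
        {c : ConjClasses G // ∃ g : G, ConjClasses.mk g = c ∧ ¬ p ∣ orderOf g})) fun x y h => ?_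
    · rcases Finset.mem_union.1 x.2 with hx | hx
      · obtain ⟨c, -, hc⟩ := Finset.mem_image.1 hx
        rw [← hc]; exact hσr c
      · exact hreg _ hx
    · have hc : IsConj (x : G) y := ConjClasses.mk_eq_mk_iff_isConj.1 (congrArg Subtype.val h)
      refine Subtype.ext ?_
      rcases Finset.mem_union.1 x.2 with hx | hx <;> rcases Finset.mem_union.1 y.2 with hy | hy
      · obtain ⟨c, -, hcx⟩ := Finset.mem_image.1 hx
        obtain ⟨d, -, hdy⟩ := Finset.mem_image.1 hy
        rw [← hcx, ← hdy] at hc ⊢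
        have he := hmap hc
        rw [hσ, hσ] at he
        rw [he]
      · exact absurd hc (hTA _ hx _ hy)
      · exact absurd hc.symm (hTA _ hy _ hx)
      · exact hinj _ hx _ hy hc
  rw [Finset.card_union_of_disjoint hdisj, hT, Finset.card_image_of_injective _ hσinj,
    Finset.card_univ_diff, ← Nat.card_eq_fintype_card] at hle
  omega

/-- The upper bound when the complement acts without fixed points. -/
theorem card_regular_le_of_fpf {p : ℕ} (hp : p.Prime) (V : Subgroup G) [V.Normal]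
    (hVexp : ∀ v ∈ V, v ^ p = 1) (K : Subgroup G) (hK : ¬ p ∣ Nat.card K)
    (hcompl : Subgroup.IsComplement' V K)
    (hfpf : ∀ v ∈ V, ∀ h ∈ K, h * v = v * h → v = 1 ∨ h = 1) :
    regCount p G ≤ Nat.card (ConjClasses K) := by
  have hreg : ∀ c : ConjClasses K, ∃ g : G, ConjClasses.mk g = ConjClasses.map K.subtype c ∧
      ¬ p ∣ orderOf g := fun c => by
    obtain ⟨h, rfl⟩ := ConjClasses.mk_surjective c
    refine ⟨h, rfl, fun hd => hK (hd.trans ?_)⟩
    rw [Subgroup.orderOf_coe]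
    exact orderOf_dvd_natCard h
  refine Nat.card_le_card_of_surjective
    (fun c => (⟨ConjClasses.map K.subtype c, hreg c⟩ :
      {c : ConjClasses G // ∃ g : G, ConjClasses.mk g = c ∧ ¬ p ∣ orderOf g})) ?_
  rintro ⟨c, g, rfl, hg⟩
  obtain ⟨⟨⟨a, ha⟩, ⟨h, hh⟩⟩, rfl⟩ := hcompl.2 g
  suffices hc : IsConj h (a * h) from
    ⟨ConjClasses.mk ⟨h, hh⟩, Subtype.ext (ConjClasses.mk_eq_mk_iff_isConj.2 hc)⟩
  change ¬ p ∣ orderOf (a * h) at hg
  rcases eq_or_ne h 1 with rfl | hh1
  · rw [mul_one] at hg ⊢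
    have hd := orderOf_dvd_of_pow_eq_one (hVexp a ha)
    rw [orderOf_eq_one_iff.1 ((Nat.dvd_prime hp).1 hd |>.resolve_right fun e => hg (e ▸ dvd_rfl))]
  · haveI := Finite.of_injective (Subtype.val : V → G) Subtype.val_injective
    let ψ : V → V := fun v => ⟨(v : G) * (h * (v : G)⁻¹ * h⁻¹),
      V.mul_mem v.2 (Subgroup.Normal.conj_mem inferInstance _ (V.inv_mem v.2) h)⟩
    have hψ : Function.Injective ψ := fun v w e => by
      have e' : (v : G) * (h * (v : G)⁻¹ * h⁻¹) = (w : G) * (h * (w : G)⁻¹ * h⁻¹) :=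
        congrArg Subtype.val e
      have e2 : (v : G) * h * (v : G)⁻¹ = (w : G) * h * (w : G)⁻¹ := mul_right_cancel (b := h⁻¹) (by
        simpa only [mul_assoc] using e')
      have hc : h * ((w : G)⁻¹ * v) = ((w : G)⁻¹ * v) * h := by
        calc h * ((w : G)⁻¹ * v) = (w : G)⁻¹ * ((w : G) * h * (w : G)⁻¹) * v := by group
          _ = (w : G)⁻¹ * ((v : G) * h * (v : G)⁻¹) * v := by rw [e2]
          _ = ((w : G)⁻¹ * v) * h := by group
      exact Subtype.ext (inv_mul_eq_one.1
        ((hfpf _ (V.mul_mem (V.inv_mem w.2) v.2) h hh hc).resolve_right hh1)).symm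
    obtain ⟨v, hv⟩ := Finite.surjective_of_injective hψ ⟨a, ha⟩
    refine isConj_iff.2 ⟨v, ?_⟩
    have hv' : (v : G) * (h * (v : G)⁻¹ * h⁻¹) = a := congrArg Subtype.val hv
    rw [← hv']
    group

end Cfsg.Agent.TransCoprime
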