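import Cfsg.Agent.Lib.TransCoprime.Conj
import Cfsg.Agent.Lib.TransCoprime.Regular
import Cfsg.Agent.Lib.PCore.HallHigman
import Cfsg.Agent.Lib.PCore.PSolvable
import Cfsg.Prelude.Def_Perm

/-!
# `p`-solvable groups with one class of nontrivial `p`-elements

* `exists_structure` : when `O_{p'}(G) = 1`, `G = V ⋊ H` with `H` transitive on `V \ {1}`.
* `affine_iso` : the one-dimensional case.
-/

set_option autoImplicit false
set_option linter.style.haveILetI false
set_option linter.unusedSectionVars false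

namespace Cfsg.Agent.TransCoprime

universe u

variable {G : Type u} [Group G] [Finite G] {p : ℕ} [Fact p.Prime]

/-- All nonidentity `p`-elements are conjugate. -/
def OneClass (p : ℕ) (G : Type u) [Group G] : Prop :=
  ∀ x y : G, x ≠ 1 → y ≠ 1 → (∃ k : ℕ, orderOf x = p ^ k) → (∃ k : ℕ, orderOf y = p ^ k) →
    IsConj x y

/-- The configuration `G = V ⋊ H`. -/
structure Split (p : ℕ) (V H : Subgroup G) : Prop where
  exp : ∀ v ∈ V, v ^ p = 1
  index : ¬ p ∣ V.index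
  self : Subgroup.centralizer (V : Set G) = V
  compl : Subgroup.IsComplement' V H
  trans : ∀ v ∈ V, ∀ w ∈ V, v ≠ 1 → w ≠ 1 → ∃ g ∈ H, g * v * g⁻¹ = w
  ne_bot : V ≠ ⊥

theorem exists_structure (hsolv : Cfsg.IsPSolvable p G) (hdiv : p ∣ Nat.card G) (hconj : OneClass p G)
    (hcore : Cfsg.pPrimeCore p G = ⊥) :
    ∃ V H : Subgroup G, ∃ _ : V.Normal, Split p V H := by
  classical
  have hp : p.Prime := Fact.out
  haveI : Nontrivial G := Finite.one_lt_card_iff_nontrivial.1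
    (lt_of_lt_of_le hp.one_lt (Nat.le_of_dvd Nat.card_pos hdiv))
  set V := Cfsg.pCore p G with hVdef
  have hne : V ≠ ⊥ :=
    (PCore.pCore_ne_bot_or_pPrimeCore_ne_bot hsolv).resolve_right (fun h => h hcore)
  have hVp : IsPGroup p V := PCore.isPGroup_pCore
  haveI hVn : V.Normal := by rw [hVdef]; infer_instance
  have hord : ∀ v : G, v ∈ V → ∃ k, orderOf v = p ^ k := fun v hv => by
    obtain ⟨k, hk⟩ := IsPGroup.iff_orderOf.1 hVp ⟨v, hv⟩
    exact ⟨k, by rw [← Subgroup.orderOf_coe] at hk; exact hk⟩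
  obtain ⟨v₁, hv₁V, hv₁⟩ := (Subgroup.bot_or_exists_ne_one V).resolve_left hne
  have hall : ∀ x : G, (∃ k, orderOf x = p ^ k) → x ∈ V := fun x hx => by
    rcases eq_or_ne x 1 with rfl | hx1
    · exact V.one_mem
    · obtain ⟨g, rfl⟩ := isConj_iff.1 (hconj v₁ x hv₁ hx1 (hord v₁ hv₁V) hx)
      exact hVn.conj_mem v₁ hv₁V g
  obtain ⟨P⟩ : Nonempty (Sylow p G) := inferInstance
  have hidx : ¬ p ∣ V.index := fun h => P.not_dvd_index (h.trans (Subgroup.index_dvd_of_le fun x hx => by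
    obtain ⟨k, hk⟩ := IsPGroup.iff_orderOf.1 P.2 ⟨x, hx⟩
    exact hall x ⟨k, by rw [← Subgroup.orderOf_coe] at hk; exact hk⟩))
  have hexp : ∀ v ∈ V, v ^ p = 1 := fun v hv => by
    obtain ⟨u, hu⟩ := exists_prime_orderOf_dvd_card' p hdiv
    rcases eq_or_ne v 1 with rfl | hv1
    · exact one_pow p
    have hu1 : u ≠ 1 := fun h => hp.ne_one (by rw [← hu, h, orderOf_one])
    obtain ⟨g, rfl⟩ := isConj_iff.1 (hconj u v hu1 hv1 ⟨1, by rw [hu, pow_one]⟩ (hord v hv))
    rw [conj_pow, ← hu, pow_orderOf_eq_one, mul_one, mul_inv_cancel]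
  haveI : Nontrivial V := (Subgroup.nontrivial_iff_ne_bot V).2 hne
  obtain ⟨⟨⟨c, hcV⟩, hc⟩, hc1⟩ :=
    @exists_ne _ hVp.center_nontrivial (1 : Subgroup.center V)
  have hc1' : c ≠ 1 := fun h => hc1 (Subtype.ext (Subtype.ext h))
  have hab : ∀ a ∈ V, ∀ b ∈ V, a * b = b * a := fun a ha b hb => by
    rcases eq_or_ne a 1 with rfl | ha1
    · rw [one_mul, mul_one]
    obtain ⟨g, rfl⟩ := isConj_iff.1 (hconj c a hc1' ha1 (hord c hcV) (hord a ha))
    have h : g⁻¹ * b * g * c = c * (g⁻¹ * b * g) := congrArg Subtype.val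
      (Subgroup.mem_center_iff.1 hc ⟨g⁻¹ * b * g, by simpa using hVn.conj_mem b hb g⁻¹⟩)
    calc g * c * g⁻¹ * b = g * (c * (g⁻¹ * b * g)) * g⁻¹ := by group
      _ = g * (g⁻¹ * b * g * c) * g⁻¹ := by rw [h]
      _ = b * (g * c * g⁻¹) := by group
  have hself : Subgroup.centralizer (V : Set G) = V :=
    le_antisymm (PCore.centralizer_pCore_le hsolv hcore) fun a ha b hb => (hab b hb a ha)
  have hcop : (Nat.card V).Coprime V.index := by
    obtain ⟨m, hm⟩ := IsPGroup.iff_card.1 hVp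
    rw [hm]
    exact ((hp.coprime_iff_not_dvd).2 hidx).pow_left m
  obtain ⟨H, hH⟩ := Subgroup.exists_right_complement'_of_coprime hcop
  refine ⟨V, H, hVn, hexp, hidx, hself, hH, fun v hv w hw hv1 hw1 => ?_, hne⟩
  obtain ⟨g, rfl⟩ := isConj_iff.1 (hconj v w hv1 hw1 (hord v hv) (hord w hw))
  obtain ⟨⟨⟨a, ha⟩, ⟨b, hb⟩⟩, rfl⟩ := hH.2 g
  refine ⟨b, hb, ?_⟩
  have h2 : b * v * b⁻¹ ∈ V := hVn.conj_mem v hv b
  show b * v * b⁻¹ = a * b * v * (a * b)⁻¹
  rw [mul_inv_rev, show a * b * v * (b⁻¹ * a⁻¹) = a * (b * v * b⁻¹) * a⁻¹ by group, hab a ha _ h2,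
    mul_inv_cancel_right]

variable {V H : Subgroup G} [V.Normal]

theorem Split.card_complement (hs : Split p V H) : ¬ p ∣ Nat.card H := by
  rw [← hs.compl.symm.index_eq_card]; exact hs.index

/-- A complement of order `|V| - 1` acts without fixed points. -/
theorem Split.fpf (hs : Split p V H) (hcard : Nat.card H ≤ Nat.card V - 1) :
    ∀ v ∈ V, ∀ h ∈ H, h * v = v * h → v = 1 ∨ h = 1 := by
  intro v hv h hh hc
  refine or_iff_not_imp_left.2 fun hv1 => ?_
  let f : H → {w : V // w ≠ 1} := fun g => ⟨⟨g * v * (g : G)⁻¹,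
    Subgroup.Normal.conj_mem inferInstance v hv g⟩, fun e => hv1 (conj_eq_one_iff.1
      (congrArg Subtype.val e))⟩
  have hsurj : Function.Surjective f := fun w => by
    obtain ⟨g, hg, hgw⟩ := hs.trans v hv w.1 w.1.2 hv1 (fun e => w.2 (Subtype.ext e))
    exact ⟨⟨g, hg⟩, Subtype.ext (Subtype.ext hgw)⟩
  have hcard' : Nat.card {w : V // w ≠ 1} = Nat.card V - 1 := by
    haveI : Fintype V := Fintype.ofFinite _
    classical
    rw [Nat.card_eq_fintype_card, Fintype.card_subtype_compl, Nat.card_eq_fintype_card,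
      Fintype.card_subtype_eq]
  have hbij : Function.Bijective f := (Nat.bijective_iff_surjective_and_card f).2
    ⟨hsurj, le_antisymm (hcard' ▸ hcard) (Nat.card_le_card_of_surjective f hsurj)⟩
  have he : (⟨h, hh⟩ : H) = 1 := hbij.1 (Subtype.ext (Subtype.ext (by
    show h * v * h⁻¹ = ((1 : H) : G) * v * ((1 : H) : G)⁻¹
    rw [hc, mul_inv_cancel_right, Subgroup.coe_one, one_mul, inv_one, mul_one])))
  exact congrArg Subtype.val he

theorem Split.fpf_of_prime (hs : Split p V H) (hV : Nat.card V = p) :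
    ∀ v ∈ V, ∀ h ∈ H, h * v = v * h → v = 1 ∨ h = 1 := by
  intro v hv h hh hc
  refine or_iff_not_imp_left.2 fun hv1 => ?_
  have hz : Subgroup.zpowers (⟨v, hv⟩ : V) = ⊤ :=
    zpowers_eq_top_of_prime_card hV fun e => hv1 (congrArg Subtype.val e)
  have hmem : h ∈ V := by
    rw [← hs.self]
    intro x hx
    obtain ⟨i, hi⟩ := Subgroup.mem_zpowers_iff.1 (hz.ge (Subgroup.mem_top (⟨x, hx⟩ : V)))
    have hi' : v ^ i = x := congrArg Subtype.val hi
    rw [← hi']
    exact ((show Commute h v from hc).zpow_right i).eq.symm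
  have : h ∈ (⊥ : Subgroup G) := hs.compl.disjoint.eq_bot ▸ ⟨hmem, hh⟩
  exact Subgroup.mem_bot.1 this

/-- The one-dimensional case is the affine group. -/
theorem affine_iso (hs : Split p V H) (hV : Nat.card V = p) :
    Nonempty (G ≃* ↥(Cfsg.affineGroup (ZMod p))) := by
  classical
  let e : Multiplicative (ZMod p) ≃* V :=
    mulEquivOfPrimeCardEq (p := p) (by simp) hV
  let w : ZMod p → G := fun t => (e (Multiplicative.ofAdd t) : G)
  have hwadd : ∀ s t, w (s + t) = w s * w t := fun s t => by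
    show ((e (Multiplicative.ofAdd (s + t)) : V) : G) = _
    rw [ofAdd_add, map_mul, Subgroup.coe_mul]
  have hwV : ∀ t, w t ∈ V := fun t => (e (Multiplicative.ofAdd t)).2
  have hwinj : Function.Injective w := fun s t h =>
    Multiplicative.ofAdd.injective (e.injective (Subtype.ext h))
  have hwsurj : ∀ a ∈ V, ∃ t, w t = a := fun a ha =>
    ⟨(e.symm ⟨a, ha⟩).toAdd, by show ((e (e.symm ⟨a, ha⟩) : V) : G) = a; rw [e.apply_symm_apply]⟩
  have hw0 : w 0 = 1 := by
    show ((e 1 : V) : G) = 1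
    rw [map_one, Subgroup.coe_one]
  have hf : ∀ x : G, ∃ u : ZMod p, ∀ t, x * w t * x⁻¹ = w (u * t) := fun x => by
    choose f hf using fun t => hwsurj (x * w t * x⁻¹) (Subgroup.Normal.conj_mem inferInstance _ (hwV t) x)
    have hadd : ∀ s t, f (s + t) = f s + f t := fun s t => hwinj (by
      rw [hwadd (f s), hf, hf, hf, hwadd]; group)
    refine ⟨f 1, fun t => ?_⟩
    rw [← hf t]
    congr 1
    have h := map_nsmul (AddMonoidHom.mk' f hadd) t.val (1 : ZMod p)
    simp only [nsmul_one, ZMod.natCast_zmod_val, AddMonoidHom.mk'_apply, nsmul_eq_mul] at h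
    rw [mul_one] at h
    rw [h, mul_comm]
  choose u hu using hf
  let E0 : ZMod p → G ⧸ H := fun t => (w t : G ⧸ H)
  have hdis : ∀ y, y ∈ V → y ∈ H → y = 1 := fun y h1 h2 =>
    Subgroup.mem_bot.1 (hs.compl.disjoint.eq_bot ▸ ⟨h1, h2⟩ : y ∈ (⊥ : Subgroup G))
  have hE : Function.Bijective E0 := by
    refine ⟨fun s t h => hwinj ?_, fun y => ?_⟩
    · have h' : (w s)⁻¹ * w t ∈ H := QuotientGroup.eq.1 h
      exact inv_mul_eq_one.1 (hdis _ (V.mul_mem (V.inv_mem (hwV s)) (hwV t)) h')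
    · induction y using QuotientGroup.induction_on with
      | H g =>
        obtain ⟨⟨⟨a, ha⟩, ⟨b, hb⟩⟩, rfl⟩ := hs.compl.2 g
        obtain ⟨t, rfl⟩ := hwsurj a ha
        exact ⟨t, QuotientGroup.eq.2 (by simpa using hb)⟩
  let E := Equiv.ofBijective E0 hE
  let φ : G →* Equiv.Perm (ZMod p) :=
    (E.symm.permCongrHom.toMonoidHom).comp (MulAction.toPermHom G (G ⧸ H))
  have hφ : ∀ x t, E (φ x t) = x • E t := fun x t => by simp [φ, Equiv.permCongrHom]
  have hform : ∀ a b t, b ∈ H → φ (w a * b) t = u b * t + a := fun a b t hb => E.injective (by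
    rw [hφ]
    show ((w a * b) * w t : G) = ((w (u b * t + a) : G) : G ⧸ H)
    rw [add_comm, hwadd, ← hu]
    exact QuotientGroup.eq.2 (by
      rw [show (w a * b * w t)⁻¹ * (w a * (b * w t * b⁻¹)) = b⁻¹ by group]
      exact H.inv_mem hb))
  have hu0 : ∀ x, u x ≠ 0 := fun x h => by
    have h1 := hu x 1
    rw [h, zero_mul, hw0, conj_eq_one_iff, ← hw0] at h1
    exact one_ne_zero (hwinj h1)
  have hinj : Function.Injective φ := (injective_iff_map_eq_one φ).2 fun x hx => by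
    obtain ⟨⟨⟨a, ha⟩, ⟨b, hb⟩⟩, rfl⟩ := hs.compl.2 x
    obtain ⟨t, rfl⟩ := hwsurj a ha
    change φ (w t * b) = 1 at hx
    have h0 := hform t b 0 hb
    have h1 := hform t b 1 hb
    rw [hx, Equiv.Perm.one_apply, mul_zero, zero_add] at h0
    rw [hx, Equiv.Perm.one_apply, mul_one, ← h0, add_zero] at h1
    show w t * b = 1
    rw [← h0, hw0, one_mul]
    refine hdis b ?_ hb
    rw [← hs.self]
    intro y hy
    obtain ⟨s, rfl⟩ := hwsurj y hy
    have h := hu b s
    rw [← h1, one_mul] at h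
    exact (mul_inv_eq_iff_eq_mul.1 h).symm
  have hrange : φ.range = Cfsg.affineGroup (ZMod p) := by
    refine le_antisymm ?_ ?_
    · rintro _ ⟨x, rfl⟩
      obtain ⟨⟨⟨a, ha⟩, ⟨b, hb⟩⟩, rfl⟩ := hs.compl.2 x
      obtain ⟨t, rfl⟩ := hwsurj a ha
      exact ⟨Units.mk0 (u b) (hu0 b), t, fun s => hform t b s hb⟩
    · rintro σ ⟨a, b, hσ⟩
      obtain ⟨g, hg, hgw⟩ := hs.trans (w 1) (hwV 1) (w a) (hwV a)
        (fun h => one_ne_zero (hwinj (h.trans hw0.symm)))
        (fun h => a.ne_zero (hwinj (h.trans hw0.symm)))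
      rw [hu, mul_one] at hgw
      refine ⟨w b * g, Equiv.ext fun t => ?_⟩
      rw [hform b g t hg, hwinj hgw, hσ]
  exact ⟨(MonoidHom.ofInjective hinj).trans (MulEquiv.subgroupCongr hrange)⟩

/-- A complement acting without fixed points is a Frobenius complement. -/
theorem Split.isFrobeniusComplement (hs : Split p V H) (hH : H ≠ ⊥)
    (hfpf : ∀ v ∈ V, ∀ h ∈ H, h * v = v * h → v = 1 ∨ h = 1) : Cfsg.IsFrobeniusComplement H := by
  refine ⟨hH, fun h => hs.ne_bot ?_, fun g hg => (Subgroup.eq_bot_iff_forall _).2 fun x hx => ?_⟩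
  · have h1 := hs.compl.disjoint
    rwa [h, disjoint_top] at h1
  obtain ⟨hxH, y, hy, hxy⟩ := hx
  obtain ⟨⟨⟨a, ha⟩, ⟨b, hb⟩⟩, rfl⟩ := hs.compl.2 g
  have hxy' : (a * b) * y * (a * b)⁻¹ = x := hxy
  have hy' : b * y * b⁻¹ ∈ H := H.mul_mem (H.mul_mem hb hy) (H.inv_mem hb)
  have hx' : a * (b * y * b⁻¹) * a⁻¹ = x := by rw [← hxy']; group
  generalize b * y * b⁻¹ = z at hy' hx'
  have hmem : x * z⁻¹ ∈ (⊥ : Subgroup G) := by
    rw [← hs.compl.disjoint.eq_bot]
    refine ⟨?_, H.mul_mem hxH (H.inv_mem hy')⟩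
    rw [← hx', show a * z * a⁻¹ * z⁻¹ = a * (z * a⁻¹ * z⁻¹) by group]
    exact V.mul_mem ha (Subgroup.Normal.conj_mem inferInstance _ (V.inv_mem ha) z)
  rw [Subgroup.mem_bot, mul_inv_eq_one] at hmem
  subst hmem
  rcases hfpf a ha x hxH (mul_inv_eq_iff_eq_mul.1 hx').symm with h | h
  · exact absurd (show a * b ∈ H by rw [h, one_mul]; exact hb) hg
  · exact h

end Cfsg.Agent.TransCoprime
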