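import Cfsg.Agent.Lib.SolvableTransitive.Field
import Mathlib

/-!
# Coprime transitive linear groups with a self-centralizing abelian normal subgroup

* `Good G V q` : the class number bounds for a coprime group `G` transitive on `V ∖ {0}`.
* `good_of_selfCentralizing` : they hold when `G` has a self-centralizing abelian normal subgroup.
-/

set_option autoImplicit false
set_option linter.style.haveILetI false
set_option linter.unusedSectionVars false

namespace Cfsg.Agent.TransCoprime

open SolvableTransitive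

universe u v

/-- The class number bounds: `k(G) + |G_v| ≤ |V|` with few cases of equality, and `k(G) ≥ q` up to two
exceptions. -/
def Good (G : Type u) [Group G] (V : Type v) [AddCommGroup V] [DistribMulAction G V] (q : ℕ) :
    Prop :=
  (∀ v : V, v ≠ 0 →
    Nat.card (ConjClasses G) + Nat.card (MulAction.stabilizer G v) ≤ Nat.card V ∧
    (Nat.card (ConjClasses G) + Nat.card (MulAction.stabilizer G v) = Nat.card V →
      IsCyclic G ∨ (Nat.card V = 8 ∧ Nat.card G = 21) ∨ (Nat.card V = 9 ∧ Nat.card G = 16))) ∧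
  (q ≤ Nat.card (ConjClasses G) ∨ (Nat.card V = q ∧ Nat.card (ConjClasses G) = q - 1) ∨
    (q = 11 ∧ Nat.card V = 121 ∧ Nat.card G = 120 ∧ Nat.card (ConjClasses G) = 9 ∧
      Nonempty (G ≃* Matrix.SpecialLinearGroup (Fin 2) (ZMod 5))))

/-- `k(G) |G|` is the sum of the centralizer orders. -/
theorem card_conjClasses_mul_card {G : Type u} [Group G] [Fintype G] :
    Nat.card (ConjClasses G) * Nat.card G =
      ∑ x : G, Nat.card (Subgroup.centralizer ({x} : Set G)) := by
  rw [← card_comm_eq_card_conjClasses_mul_card, ← Nat.card_sigma]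
  exact Nat.card_congr
    { toFun := fun p => ⟨p.1.1, p.1.2, Subgroup.mem_centralizer_singleton_iff.2 p.2.symm⟩
      invFun := fun s => ⟨(s.1, (s.2 : G)), (Subgroup.mem_centralizer_singleton_iff.1 s.2.2).symm⟩
      left_inv := fun p => rfl
      right_inv := fun s => rfl }

theorem card_le_index_of_disjoint {G : Type u} [Group G] [Finite G] (H A : Subgroup G) [A.Normal]
    (h : H ⊓ A = ⊥) : Nat.card H ≤ A.index := by
  rw [Subgroup.index]
  refine Nat.card_le_card_of_injective (fun x : H => (QuotientGroup.mk (x : G) : G ⧸ A)) fun x y e => ?_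
  have hxy : (x : G)⁻¹ * y ∈ A := QuotientGroup.eq.1 e
  have h1 : (x : G)⁻¹ * y ∈ H ⊓ A := ⟨H.mul_mem (H.inv_mem x.2) y.2, hxy⟩
  rw [h, Subgroup.mem_bot, inv_mul_eq_one] at h1
  exact Subtype.ext h1

theorem succ_lt_pow {q d e : ℕ} (hq : q.Prime) (he : 2 ≤ e) (hed : e ∣ d) (hqe : ¬ q ∣ e)
    (hd : 0 < d) : e + 1 < q ^ (d - d / 2) ∨ (q = 3 ∧ d = 2 ∧ e = 2) ∨ (q = 2 ∧ d = 3 ∧ e = 3) := by
  have hle := Nat.le_of_dvd hd hed
  have h2 := hq.two_le
  have key : ∀ c, 3 ≤ c → 2 * c + 1 < 2 ^ c := by
    intro c hc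
    induction c, hc using Nat.le_induction with
    | base => norm_num
    | succ c hc ih => rw [pow_succ]; omega
  rcases Nat.lt_or_ge (d - d / 2) 3 with hc | hc
  · have hd4 : d ≤ 4 := by omega
    rcases Nat.lt_or_ge q 5 with hq5 | hq5
    · interval_cases d <;> interval_cases e <;> interval_cases q <;>
        first | omega | (norm_num at hq) | (norm_num at hed) | (norm_num at hqe) | norm_num
    · left
      have h3 : q ≤ q ^ (d - d / 2) := Nat.le_self_pow (by omega) q
      interval_cases d
      all_goals first | omega | (simp only [show (3 : ℕ) - 3 / 2 = 2 from rfl] at *; nlinarith)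
  · left
    have h1 := key _ hc
    have h3 := Nat.pow_le_pow_left h2 (d - d / 2)
    omega

theorem sub_one_mul_sq_le {q d : ℕ} (hq : 2 ≤ q) :
    ∀ e, e ≤ d → 2 ≤ d → (q - 1) * e ^ 2 + 3 * e + 1 < q ^ d + 3 * e ^ 2 := by
  intro e he hd
  have h4 : 4 ≤ q ^ d :=
    le_trans (Nat.pow_le_pow_left hq 2) (Nat.pow_le_pow_right (by omega) hd)
  rcases Nat.lt_or_ge q 5 with h5 | h5
  · rcases Nat.lt_or_ge q 4 with h9 | h9
    · have : (q - 1) * e ^ 2 ≤ 2 * e ^ 2 := Nat.mul_le_mul_right _ (by omega)
      rcases Nat.lt_or_ge e 3 with h10 | h10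
      · interval_cases e <;> omega
      · have : 3 * e ≤ e ^ 2 := by rw [sq]; exact Nat.mul_le_mul_right e h10
        omega
    · obtain rfl : q = 4 := by omega
      have key : ∀ j, 2 ≤ j → 3 * j + 1 < 4 ^ j := by
        intro j hj
        induction j, hj using Nat.le_induction with
        | base => norm_num
        | succ k hk ih => rw [pow_succ]; omega
      have := key d hd
      omega
  · have hqd : q ^ (d - 1) * q = q ^ d := by rw [← pow_succ, Nat.sub_add_cancel (by omega)]
    have he2 : 3 * e ≤ 3 * e ^ 2 := Nat.mul_le_mul_left 3 (Nat.le_self_pow two_ne_zero e)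
    rcases (show d = 2 ∨ 3 ≤ d by omega) with rfl | hd3
    · obtain ⟨s, rfl⟩ : ∃ s, q = s + 1 := ⟨q - 1, by omega⟩
      interval_cases e <;> simp <;> nlinarith
    · have key : ∀ j, 3 ≤ j → j ^ 2 ≤ 5 ^ (j - 1) := by
        intro j hj
        induction j, hj using Nat.le_induction with
        | base => norm_num
        | succ k hk ih =>
          rw [Nat.add_sub_cancel, show 5 ^ k = 5 ^ (k - 1) * 5 by
            rw [← pow_succ, Nat.sub_add_cancel (by omega)]]
          nlinarith
      have h1 : (q - 1) * e ^ 2 ≤ (q - 1) * q ^ (d - 1) :=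
        Nat.mul_le_mul_left _ (le_trans (Nat.pow_le_pow_left he 2)
          ((key d hd3).trans (Nat.pow_le_pow_left h5 _)))
      have h2 : (q - 1) * q ^ (d - 1) + q ^ (d - 1) = q ^ d := by
        rw [← hqd, ← Nat.succ_mul, mul_comm]
        congr 1
        omega
      have h3 : 5 ^ 1 ≤ q ^ (d - 1) :=
        le_trans (Nat.pow_le_pow_left h5 1) (Nat.pow_le_pow_right (by omega) (by omega))
      omega

section Field

variable {R : Type v} [Field R] [Finite R] (q : ℕ) [Fact q.Prime] [CharP R q]

/-- A nontrivial automorphism fixes at most `q^(d/2)` elements. -/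
theorem card_fixed_le {d : ℕ} (hd : Nat.card R = q ^ d) {s : R ≃+* R} (hs : s ≠ 1) :
    Nat.card {x : R // s x = x} ≤ q ^ (d / 2) := by
  classical
  obtain ⟨k, hk, hks⟩ := ringAut_eq_pow q hd s
  have hq : 1 < q := (Fact.out (p := q.Prime)).one_lt
  have hk0 : k ≠ 0 := fun h => hs (RingEquiv.ext fun x => by rw [hks, h, pow_zero, pow_one]; rfl)
  have hg : Nat.gcd k d ≤ d / 2 := by
    obtain ⟨c, hc⟩ := Nat.gcd_dvd_right k d
    have hlt : Nat.gcd k d ≤ k := Nat.le_of_dvd (Nat.pos_of_ne_zero hk0) (Nat.gcd_dvd_left k d)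
    rw [Nat.le_div_iff_mul_le two_pos]
    rcases (show c ≤ 1 ∨ 2 ≤ c by omega) with h | h
    · have := Nat.mul_le_mul_left (Nat.gcd k d) h
      omega
    · have := Nat.mul_le_mul_left (Nat.gcd k d) h
      omega
  have := Fintype.ofFinite R
  have hfix : ∀ x : R, s x = x → x ^ q ^ Nat.gcd k d = x := by
    intro x hx
    have h1 : Function.IsPeriodicPt (fun y : R => y ^ q) k x := by
      show (fun y : R => y ^ q)^[k] x = x
      simp only [pow_iterate]
      rw [← hks, hx]
    have h2 : Function.IsPeriodicPt (fun y : R => y ^ q) d x := by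
      show (fun y : R => y ^ q)^[d] x = x
      simp only [pow_iterate]
      rw [← hd, Nat.card_eq_fintype_card]
      exact FiniteField.pow_card x
    have h3 : (fun y : R => y ^ q)^[Nat.gcd k d] x = x := h1.gcd h2
    simpa only [pow_iterate] using h3
  set g := Nat.gcd k d with hgdef
  have hg0 : 0 < g := Nat.gcd_pos_of_pos_left _ (Nat.pos_of_ne_zero hk0)
  set P : Polynomial R := Polynomial.X ^ q ^ g - Polynomial.X with hP
  have hdeg : P.natDegree = q ^ g :=
    FiniteField.X_pow_card_sub_X_natDegree_eq _ (Nat.one_lt_pow hg0.ne' hq)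
  have hP0 : P ≠ 0 := FiniteField.X_pow_card_sub_X_ne_zero _ (Nat.one_lt_pow hg0.ne' hq)
  calc Nat.card {x : R // s x = x} ≤ Nat.card {x : R // x ∈ P.roots.toFinset} := by
        refine Nat.card_le_card_of_injective (fun x => ⟨x.1, ?_⟩) fun a b e => ?_
        swap; · exact Subtype.ext (by simpa using e)
        rw [Multiset.mem_toFinset, Polynomial.mem_roots hP0]
        simp [hP, hfix x.1 x.2]
    _ = P.roots.toFinset.card := Nat.card_eq_finsetCard _
    _ ≤ Multiset.card P.roots := Multiset.toFinset_card_le _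
    _ ≤ P.natDegree := Polynomial.card_roots' P
    _ = q ^ g := hdeg
    _ ≤ q ^ (d / 2) := Nat.pow_le_pow_right (by omega) hg

end Field

variable {G : Type u} [Group G] [Finite G] {V : Type v} [AddCommGroup V] [DistribMulAction G V]
  [Finite V] [Nontrivial V] [FaithfulSMul G V]

theorem card_eq_stabilizer_mul (htrans : ∀ a b : V, a ≠ 0 → b ≠ 0 → ∃ g : G, g • a = b) {v : V}
    (hv : v ≠ 0) : Nat.card G = (Nat.card V - 1) * Nat.card (MulAction.stabilizer G v) := by
  have horb : MulAction.orbit G v = ({0} : Set V)ᶜ := by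
    ext w
    rw [MulAction.mem_orbit_iff, Set.mem_compl_iff, Set.mem_singleton_iff]
    exact ⟨fun ⟨g, hg⟩ h => hv ((smul_eq_zero_iff_eq g).mp (hg.trans h)), htrans v w hv⟩
  rw [← (MulAction.stabilizer G v).index_mul_card, MulAction.index_stabilizer, horb,
    Set.ncard_compl, Set.ncard_singleton]

/-- The data of the semilinear case. -/
theorem semilinear_data {q : ℕ} (hq : q.Prime) (hV : ∀ v : V, q • v = 0)
    (hcop : ¬ q ∣ Nat.card G) (htrans : ∀ a b : V, a ≠ 0 → b ≠ 0 → ∃ g : G, g • a = b)
    (A : Subgroup G) [A.Normal] (hA : IsMulCommutative A)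
    (hC : Subgroup.centralizer (A : Set G) = A) :
    ∃ d, 0 < d ∧ Nat.card V = q ^ d ∧ IsCyclic A ∧ Nat.card A ≤ q ^ d - 1 ∧ A.index ∣ d ∧
      (∀ a ∈ A, ∀ v : V, v ≠ 0 → a • v = v → a = 1) ∧
      Nat.card (ConjClasses G) * A.index ≤
        Nat.card A + (A.index - 1) * ((q ^ (d / 2) - 1) * (A.index + 1)) ∧
      Nat.card A + 3 * (A.index - 1) ≤ Nat.card (ConjClasses G) * A.index := by
  classical
  haveI := Fact.mk hq
  have := Fintype.ofFinite G
  have hF := isField_spanRing htrans hA (V := V)
  letI : Field ↥(spanRing V A) := hF.toField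
  haveI : Finite (AddMonoid.End V) :=
    Finite.of_injective (fun f => (f : V → V)) DFunLike.coe_injective
  obtain ⟨v₀, hv₀⟩ := exists_ne (0 : V)
  have hq0 : (q : ↥(spanRing V A)) = 0 := Subtype.ext (AddMonoidHom.ext fun v => by
    rw [show ((q : ↥(spanRing V A)) : AddMonoid.End V) = (q : AddMonoid.End V) from rfl]
    exact hV v)
  haveI : CharP ↥(spanRing V A) q := (CharP.charP_iff_prime_eq_zero hq).mpr hq0
  obtain ⟨d, hd⟩ : ∃ d, Nat.card ↥(spanRing V A) = q ^ d := by
    letI := ZMod.algebra ↥(spanRing V A) q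
    exact ⟨_, by rw [Module.natCard_eq_pow_finrank (K := ZMod q), Nat.card_zmod]⟩
  have hd0 : 0 < d := by
    refine Nat.pos_of_ne_zero fun h => ?_
    rw [h, pow_zero] at hd
    exact absurd hd Finite.one_lt_card.ne'
  let χ : ↥A →* (↥(spanRing V A))ˣ :=
    MonoidHom.toHomUnits (((toEnd V).comp A.subtype).codRestrict (spanRing V A)
      fun a => toEnd_mem_spanRing a.2)
  have hχi : Function.Injective χ := fun a b h =>
    Subtype.ext (toEnd_injective (V := V) (congrArg (fun u : (↥(spanRing V A))ˣ =>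
      ((u : ↥(spanRing V A)) : AddMonoid.End V)) h))
  have hAcyc : IsCyclic A :=
    isCyclic_of_subgroup_isDomain ((Units.coeHom _).comp χ) (Units.val_injective.comp hχi)
  have hAcard : Nat.card ↥A ≤ q ^ d - 1 := by
    refine le_trans (Nat.card_le_card_of_injective χ hχi) (le_of_eq ?_)
    rw [Nat.card_units, hd]
  have hker : (galois V A).ker = A := (ker_galois A).trans hC
  set e := A.index with he
  have hed : e ∣ d := by rw [he, ← hker]; exact index_dvd_of_ker q hd (galois V A)
  have hAe : Nat.card A * e = Nat.card G := A.card_mul_index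
  have he0 : 0 < e := Nat.pos_of_ne_zero A.index_ne_zero_of_finite
  have hde : e ≤ d := Nat.le_of_dvd hd0 hed
  have hqe : ¬ q ∣ e := fun h => hcop (h.trans (Subgroup.index_dvd_card A))
  have hdlt : d < q ^ d := Nat.lt_pow_self hq.one_lt
  -- `V` is one-dimensional over the field
  have hcardV : Nat.card V = q ^ d := by
    have hVR : Nat.card V = (q ^ d) ^ Module.finrank ↥(spanRing V A) V := by
      rw [Module.natCard_eq_pow_finrank (K := ↥(spanRing V A)), hd]
    have hj : 0 < Module.finrank ↥(spanRing V A) V := Module.finrank_pos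
    rcases (show Module.finrank ↥(spanRing V A) V = 1 ∨ 2 ≤ Module.finrank ↥(spanRing V A) V by
      omega) with h | h
    · rw [hVR, h, pow_one]
    · exfalso
      have h1 := card_eq_stabilizer_mul htrans (G := G) hv₀
      have h2 : Nat.card V - 1 ≤ (q ^ d - 1) * d := by
        calc Nat.card V - 1 ≤ Nat.card G := by
              rw [h1]; exact Nat.le_mul_of_pos_right _ Nat.card_pos
          _ ≤ (q ^ d - 1) * d := hAe ▸ Nat.mul_le_mul hAcard hde
      have h3 : q ^ d * q ^ d ≤ Nat.card V := by
        rw [hVR, ← sq]; exact Nat.pow_le_pow_right (pow_pos hq.pos d) h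
      obtain ⟨s, hs⟩ : ∃ s, q ^ d = s + 1 := ⟨q ^ d - 1, by omega⟩
      rw [hs] at h2 h3 hdlt
      simp only [Nat.add_sub_cancel] at h2
      have h4 : s * d ≤ s * s := Nat.mul_le_mul_left s (by omega)
      have h5 : (s + 1) * (s + 1) = s * s + 2 * s + 1 := by ring
      have h6 : 0 < Nat.card V := Nat.card_pos
      omega
  have hfreeA : ∀ a ∈ A, ∀ v : V, v ≠ 0 → a • v = v → a = 1 := by
    intro a ha v hv hav
    refine toEnd_injective (V := V) ?_
    rw [map_one, ← sub_eq_zero]
    refine eq_zero_of_apply_eq_zero htrans hA (sub_mem (toEnd_mem_spanRing ha) (one_mem _)) hv ?_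
    show a • v - v = 0
    rw [hav, sub_self]
  -- centralisers
  set m := q ^ (d / 2) with hm
  have hm0 : 0 < m := pow_pos hq.pos _
  set D : G → ℕ := fun g => Nat.card ↥(A ⊓ Subgroup.centralizer ({g} : Set G)) with hD
  have hDle : ∀ g, g ∉ A → D g ≤ m - 1 := by
    intro g hg
    have hs : galois V A g ≠ 1 := fun h => hg (hker ▸ MonoidHom.mem_ker.2 h)
    have hfix := card_fixed_le q hd hs
    have hf : ∀ a : ↥(A ⊓ Subgroup.centralizer ({g} : Set G)), galois V A g
        ⟨toEnd V (a : G), toEnd_mem_spanRing a.2.1⟩ = ⟨toEnd V (a : G), toEnd_mem_spanRing a.2.1⟩ := by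
      intro a
      have hc := Subgroup.mem_centralizer_singleton_iff.1 a.2.2
      refine Subtype.ext ?_
      show toEnd V g * toEnd V (a : G) * toEnd V g⁻¹ = _
      rw [← map_mul, ← map_mul, ← hc, mul_inv_cancel_right]
    have hlt : Nat.card {x : ↥(spanRing V A) // galois V A g x = x ∧ x ≠ 0} <
        Nat.card {x : ↥(spanRing V A) // galois V A g x = x} := by
      have := Fintype.ofFinite ↥(spanRing V A)
      rw [Nat.card_eq_fintype_card, Nat.card_eq_fintype_card]
      rw [Fintype.card_subtype, Fintype.card_subtype]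
      refine Finset.card_lt_card ((Finset.ssubset_iff_of_subset fun x hx => ?_).2 ⟨0, ?_, ?_⟩)
      · exact Finset.mem_filter.2 ⟨Finset.mem_univ _, (Finset.mem_filter.1 hx).2.1⟩
      · simp
      · simp
    have hle : D g ≤ Nat.card {x : ↥(spanRing V A) // galois V A g x = x ∧ x ≠ 0} := by
      refine Nat.card_le_card_of_injective
        (fun a => ⟨⟨toEnd V (a : G), toEnd_mem_spanRing a.2.1⟩, hf a, fun h => ?_⟩) fun a b h => ?_
      · have h1 := congrArg (fun x : ↥(spanRing V A) => (x : AddMonoid.End V) v₀) h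
        exact hv₀ ((smul_eq_zero_iff_eq (a : G)).1 h1)
      · exact Subtype.ext (toEnd_injective (V := V) (congrArg Subtype.val (congrArg Subtype.val h)))
    omega
  have hswap : ∑ a ∈ Finset.univ.filter (· ∈ A), Nat.card (Subgroup.centralizer ({a} : Set G)) =
      ∑ g : G, D g := by
    calc ∑ a ∈ Finset.univ.filter (· ∈ A), Nat.card (Subgroup.centralizer ({a} : Set G))
        = ∑ a ∈ Finset.univ.filter (· ∈ A), (Finset.univ.filter (fun g : G => g * a = a * g)).card := by
          refine Finset.sum_congr rfl fun a _ => ?_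
          rw [← Nat.card_eq_finsetCard]
          exact Nat.card_congr (Equiv.subtypeEquivRight fun g => by
            simp [Subgroup.mem_centralizer_singleton_iff])
      _ = ∑ g : G, ((Finset.univ.filter (· ∈ A)).filter (fun a : G => g * a = a * g)).card := by
          simp only [Finset.card_filter]
          exact Finset.sum_comm
      _ = ∑ g : G, D g := by
          refine Finset.sum_congr rfl fun g _ => ?_
          rw [← Nat.card_eq_finsetCard]
          exact Nat.card_congr (Equiv.subtypeEquivRight fun a => by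
            simp [Subgroup.mem_inf, Subgroup.mem_centralizer_singleton_iff, eq_comm])
  have hDA : ∀ g ∈ A, D g = Nat.card A := fun g hg => by
    refine congrArg (fun S : Subgroup G => Nat.card S) (inf_eq_left.2 fun a ha => ?_)
    rw [Subgroup.mem_centralizer_singleton_iff]
    exact (hC.ge hg) a ha
  have hsplit := Finset.sum_filter_add_sum_filter_not (Finset.univ : Finset G) (· ∈ A)
    (fun x => Nat.card (Subgroup.centralizer ({x} : Set G)))
  have hsplitD := Finset.sum_filter_add_sum_filter_not (Finset.univ : Finset G) (· ∈ A) D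
  rw [← card_conjClasses_mul_card, hswap, ← hsplitD, Finset.sum_congr rfl (fun g hg =>
    hDA g (Finset.mem_filter.1 hg).2), Finset.sum_const, smul_eq_mul] at hsplit
  have hcardA : (Finset.univ.filter (· ∈ A)).card = Nat.card A := by
    rw [← Nat.card_eq_finsetCard]
    exact Nat.card_congr (Equiv.subtypeEquivRight fun x => by simp)
  rw [hcardA] at hsplit
  set S := Finset.univ.filter (fun g : G => g ∉ A) with hS
  have hScard : S.card + Nat.card A = Nat.card G := by
    rw [← hcardA, add_comm, hS, Finset.card_filter_add_card_filter_not, Nat.card_eq_fintype_card,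
      Finset.card_univ]
  have hCle : ∀ g, Nat.card (Subgroup.centralizer ({g} : Set G)) ≤ D g * e := by
    intro g
    have h1 := Subgroup.index_mul_card (A.subgroupOf (Subgroup.centralizer ({g} : Set G)))
    have h2 : Nat.card (A.subgroupOf (Subgroup.centralizer ({g} : Set G))) = D g := by
      rw [hD]
      exact Nat.card_congr
        { toFun := fun x => ⟨x.1.1, x.2, x.1.2⟩
          invFun := fun x => ⟨⟨x.1, x.2.2⟩, x.2.1⟩
          left_inv := fun x => rfl
          right_inv := fun x => rfl }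
    rw [← h1, h2, mul_comm]
    exact Nat.mul_le_mul_left _ (Nat.le_of_dvd he0 (Subgroup.relIndex_dvd_index_of_normal A _))
  have hCge : ∀ g, g ∉ A → 2 ≤ Nat.card (Subgroup.centralizer ({g} : Set G)) := by
    intro g hg
    refine (Subgroup.one_lt_card_iff_ne_bot _).2 fun h => hg ?_
    have : g ∈ Subgroup.centralizer ({g} : Set G) :=
      Subgroup.mem_centralizer_singleton_iff.2 rfl
    rw [h, Subgroup.mem_bot] at this
    rw [this]; exact one_mem A
  have hS1 : ∑ g ∈ S, D g ≤ S.card * (m - 1) := by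
    rw [← smul_eq_mul, ← Finset.sum_const]
    exact Finset.sum_le_sum fun g hg => hDle g (Finset.mem_filter.1 hg).2
  have hS2 : ∑ g ∈ S, Nat.card (Subgroup.centralizer ({g} : Set G)) ≤ S.card * ((m - 1) * e) := by
    rw [← smul_eq_mul, ← Finset.sum_const]
    exact Finset.sum_le_sum fun g hg =>
      (hCle g).trans (Nat.mul_le_mul_right e (hDle g (Finset.mem_filter.1 hg).2))
  have hS3 : S.card * 2 ≤ ∑ g ∈ S, Nat.card (Subgroup.centralizer ({g} : Set G)) := by
    rw [← smul_eq_mul, ← Finset.sum_const]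
    exact Finset.sum_le_sum fun g hg => hCge g (Finset.mem_filter.1 hg).2
  have hS4 : S.card ≤ ∑ g ∈ S, D g := by
    rw [Finset.card_eq_sum_ones]
    exact Finset.sum_le_sum fun g _ => Nat.card_pos
  set k := Nat.card (ConjClasses G) with hk
  set a := Nat.card A with ha
  have ha0 : 0 < a := Nat.card_pos
  -- the two bounds
  have hSA : S.card = a * (e - 1) := by
    rw [Nat.mul_sub_one]
    omega
  have hup : k * e ≤ a + (e - 1) * ((m - 1) * (e + 1)) := by
    refine Nat.le_of_mul_le_mul_left ?_ ha0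
    have h : (a * (e - 1)) * (m - 1) + (a * (e - 1)) * ((m - 1) * e) + a * a =
        a * (a + (e - 1) * ((m - 1) * (e + 1))) := by ring
    rw [hSA] at hS1 hS2
    rw [← h, show a * (k * e) = k * Nat.card G by rw [← hAe]; ring]
    omega
  have hlow : a + 3 * (e - 1) ≤ k * e := by
    refine Nat.le_of_mul_le_mul_left ?_ ha0
    have h : a * (e - 1) + a * (e - 1) * 2 + a * a = a * (a + 3 * (e - 1)) := by ring
    rw [hSA] at hS3 hS4
    rw [← h, show a * (k * e) = k * Nat.card G by rw [← hAe]; ring]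
    omega
  exact ⟨d, hd0, hcardV, hAcyc, hAcard, hed, hfreeA, hup, hlow⟩

/-- The upper bound, arithmetically. -/
theorem upper_arith {q d k h a e : ℕ} (hq : q.Prime) (hd : 0 < d) (he : 2 ≤ e) (hed : e ∣ d)
    (hqe : ¬ q ∣ e) (ha : a ≤ q ^ d - 1) (hhe : h ≤ e)
    (hk : k * e ≤ a + (e - 1) * ((q ^ (d / 2) - 1) * (e + 1))) :
    k + h < q ^ d ∨ (k + h ≤ q ^ d ∧
      ((q = 3 ∧ d = 2 ∧ e = 2) ∨ (q = 2 ∧ d = 3 ∧ e = 3))) := by
  obtain ⟨m', hm'⟩ : ∃ m', q ^ (d / 2) = m' + 1 :=
    ⟨q ^ (d / 2) - 1, by have := pow_pos hq.pos (d / 2); omega⟩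
  obtain ⟨e', rfl⟩ : ∃ e', e = e' + 1 := ⟨e - 1, by omega⟩
  rw [hm', Nat.add_sub_cancel, Nat.add_sub_cancel] at hk
  have h3 : h * (e' + 1) ≤ (e' + 1) * (e' + 1) := Nat.mul_le_mul_right _ hhe
  have h2 : 1 ≤ q ^ d := pow_pos hq.pos d
  have hqd : q ^ (d - d / 2) * (m' + 1) = q ^ d := by
    rw [← hm', ← pow_add, Nat.sub_add_cancel (Nat.div_le_self _ _)]
  have key : (k + h) * (e' + 1) ≤ q ^ d + e' * ((e' + 1 + 1) * (m' + 1)) := by
    have e1 : e' * ((e' + 1 + 1) * (m' + 1)) + 1 = e' * (m' * (e' + 1 + 1)) + (e' + 1) * (e' + 1) := by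
      ring
    rw [add_mul]
    omega
  rcases succ_lt_pow hq he hed hqe hd with hlt | hex
  · left
    have hlt' : (e' + 1 + 1) * (m' + 1) < q ^ d := hqd ▸ Nat.mul_lt_mul_of_pos_right hlt (by omega)
    by_contra hge
    have h7 := Nat.mul_le_mul_right (e' + 1) (not_lt.1 hge)
    have h8 : e' * ((e' + 1 + 1) * (m' + 1)) < e' * q ^ d :=
      Nat.mul_lt_mul_of_pos_left hlt' (by omega)
    have h9 : q ^ d * (e' + 1) = e' * q ^ d + q ^ d := by ring
    omega
  · right
    refine ⟨?_, hex⟩
    rcases hex with ⟨rfl, rfl, h1⟩ | ⟨rfl, rfl, h1⟩ <;>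
      (obtain rfl : e' = _ := Nat.succ_injective h1; norm_num at hm' key ⊢; omega)

/-- The lower bound, arithmetically. -/
theorem lower_arith {q d k h a e : ℕ} (hq : q.Prime) (hd : 2 ≤ d) (he0 : 0 < e) (hed : e ≤ d)
    (hae : q ^ d - 1 ≤ a * e) (hh : 0 < h) (hk : a + 3 * (e - 1) ≤ k * e) : q ≤ k := by
  by_contra hlt
  have h1 : k * (e * e) ≤ (q - 1) * e ^ 2 := by
    rw [sq]; exact Nat.mul_le_mul_right _ (by omega)
  have h2 := sub_one_mul_sq_le hq.two_le e hed hd
  have h3 : a * e + 3 * (e - 1) * e ≤ k * (e * e) := by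
    rw [← add_mul, ← mul_assoc]; exact Nat.mul_le_mul_right e hk
  obtain ⟨e', rfl⟩ : ∃ e', e = e' + 1 := ⟨e - 1, by omega⟩
  rw [Nat.add_sub_cancel] at h3
  have h5 : 3 * e' * (e' + 1) + 3 * (e' + 1) = 3 * (e' + 1) ^ 2 := by ring
  omega

/-- Commutative when the class number is the order. -/
theorem comm_of_card_conjClasses (h : Nat.card G ≤ Nat.card (ConjClasses G)) (x y : G) :
    x * y = y * x := by
  have hb : Function.Bijective (ConjClasses.mk : G → ConjClasses G) :=
    (Nat.bijective_iff_surjective_and_card _).2 ⟨ConjClasses.mk_surjective,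
      le_antisymm h (Nat.card_le_card_of_surjective _ ConjClasses.mk_surjective)⟩
  exact hb.1 (ConjClasses.mk_eq_mk_iff_isConj.2 (isConj_iff.2 ⟨y, by group⟩))

/-- The bounds in the semilinear case. -/
theorem good_of_selfCentralizing {q : ℕ} (hq : q.Prime) (hV : ∀ v : V, q • v = 0)
    (hcop : ¬ q ∣ Nat.card G) (htrans : ∀ a b : V, a ≠ 0 → b ≠ 0 → ∃ g : G, g • a = b)
    (A : Subgroup G) [A.Normal] (hA : IsMulCommutative A)
    (hC : Subgroup.centralizer (A : Set G) = A) : Good G V q := by
  obtain ⟨d, hd0, hcardV, hAcyc, hAcard, hed, hfree, hup, hlow⟩ :=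
    semilinear_data hq hV hcop htrans A hA hC
  have hAe : Nat.card A * A.index = Nat.card G := A.card_mul_index
  have he0 : 0 < A.index := Nat.pos_of_ne_zero A.index_ne_zero_of_finite
  have hde : A.index ≤ d := Nat.le_of_dvd hd0 hed
  have hqe : ¬ q ∣ A.index := fun h => hcop (h.trans (Subgroup.index_dvd_card A))
  refine ⟨fun v hv => ?_, ?_⟩
  · have hGh := card_eq_stabilizer_mul htrans (G := G) hv
    have hhe : Nat.card (MulAction.stabilizer G v) ≤ A.index :=
      card_le_index_of_disjoint _ A ((Subgroup.eq_bot_iff_forall _).2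
        fun x hx => hfree x hx.2 v hv hx.1)
    have hh0 : 0 < Nat.card (MulAction.stabilizer G v) := Nat.card_pos
    have hk_le : Nat.card (ConjClasses G) ≤ Nat.card G :=
      Nat.card_le_card_of_surjective _ ConjClasses.mk_surjective
    rw [hcardV] at hGh ⊢
    rcases (show A.index = 1 ∨ 2 ≤ A.index by omega) with he1 | he2
    · rw [show Nat.card (MulAction.stabilizer G v) = 1 by omega] at hGh ⊢
      rw [mul_one] at hGh
      have := pow_pos hq.pos d
      refine ⟨by omega, fun _ => Or.inl ?_⟩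
      rw [Subgroup.index_eq_one] at he1
      subst he1
      exact isCyclic_of_surjective (Subgroup.topEquiv (G := G)) (MulEquiv.surjective _)
    · rcases upper_arith hq hd0 he2 hed hqe hAcard hhe hup with h | ⟨h, hex⟩
      · exact ⟨h.le, fun h' => absurd h' h.ne⟩
      refine ⟨h, fun heq => ?_⟩
      rcases hex with ⟨rfl, rfl, he'⟩ | ⟨rfl, rfl, he'⟩
      · rcases (show Nat.card (MulAction.stabilizer G v) = 1 ∨
            Nat.card (MulAction.stabilizer G v) = 2 by omega) with hh1 | hh1
        · exfalso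
          rw [hh1] at hGh heq
          norm_num at hGh heq
          have hcomm := comm_of_card_conjClasses (G := G) (by omega)
          have hAtop : A = ⊤ := hC ▸ eq_top_iff.2 fun x _ => fun y _ => hcomm y x
          rw [hAtop, Subgroup.index_top] at he'
          omega
        · exact Or.inr (Or.inr ⟨by norm_num, by rw [hGh, hh1]; norm_num⟩)
      · refine Or.inr (Or.inl ⟨by norm_num, ?_⟩)
        norm_num at hGh hAcard
        rw [he'] at hAe hhe
        interval_cases Nat.card A <;> omega
  · obtain ⟨v, hv⟩ := exists_ne (0 : V)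
    have hGh := card_eq_stabilizer_mul htrans (G := G) hv
    rw [hcardV] at hGh
    have hle : q ^ d - 1 ≤ Nat.card A * A.index := by
      rw [hAe, hGh]; exact Nat.le_mul_of_pos_right _ Nat.card_pos
    rcases (show d = 1 ∨ 2 ≤ d by omega) with rfl | hd2
    · right; left
      have he1 : A.index = 1 := by omega
      rw [he1] at hup hlow hle
      rw [pow_one] at hle hAcard hcardV
      simp at hup hlow
      exact ⟨hcardV, by omega⟩
    · exact Or.inl (lower_arith hq hd2 he0 hde hle Nat.one_pos hlow)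

end Cfsg.Agent.TransCoprime
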