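import Cfsg.Agent.Lib.TransCoprime.Primitive
import Cfsg.Agent.Lib.TransCoprime.TwoDim
import Cfsg.Agent.Lib.G2TwoRecog.SylowThree
import Mathlib

/-!
# Coprime linear groups of degree six with a primitive prime of order three

* `card_dvd_prod` : a linear group's order divides the order of `GL_n(q)`.
* `sylow_normal_in_centralizer` : for `r` of order 3 modulo `q` and a Sylow `r`-subgroup of order `r^2`
  in dimension 6, it is normal in the centralizer of each of its nontrivial elements.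
* `not_sq_dvd` : so `r ^ 2` does not divide the order of a coprime transitive group, `q ∈ {3, 5}`.
-/

set_option autoImplicit false
set_option linter.style.haveILetI false
set_option linter.unusedSectionVars false

namespace Cfsg.Agent.TransCoprime

open Module

universe u v

variable {q : ℕ} [Fact q.Prime] {V : Type v} [AddCommGroup V] [Module (ZMod q) V] [Finite V]
  {G : Type u} [Group G] [Finite G]

theorem card_dvd_prod {n : ℕ} (ρ : G →* Module.End (ZMod q) V) (hρ : Function.Injective ρ)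
    (hn : finrank (ZMod q) V = n) : Nat.card G ∣ ∏ i : Fin n, (q ^ n - q ^ (i : ℕ)) := by
  classical
  set B := Module.finBasisOfFinrankEq (ZMod q) V hn
  let φ : G →* Matrix (Fin n) (Fin n) (ZMod q) :=
    ((LinearMap.toMatrixAlgEquiv B).toMonoidHom).comp ρ
  have h : Function.Injective φ := (LinearMap.toMatrixAlgEquiv B).injective.comp hρ
  have hu : Function.Injective φ.toHomUnits := fun a b e => h (congrArg Units.val e)
  have hd := Subgroup.card_dvd_of_injective φ.toHomUnits hu
  rwa [show Nat.card (Matrix (Fin n) (Fin n) (ZMod q))ˣ = ∏ i : Fin n, (q ^ n - q ^ (i : ℕ)) by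
    rw [show Nat.card (Matrix (Fin n) (Fin n) (ZMod q))ˣ = Nat.card (GL (Fin n) (ZMod q)) from rfl,
      Matrix.card_GL_field, ZMod.card]] at hd

/-- Restriction of a representation to an invariant subspace. -/
def resHom (ρ : G →* Module.End (ZMod q) V) (H : Subgroup G) (U : Submodule (ZMod q) V)
    (hU : ∀ h ∈ H, ∀ u ∈ U, ρ h u ∈ U) : H →* Module.End (ZMod q) U where
  toFun h := (ρ (h : G)).restrict (hU h h.2)
  map_one' := LinearMap.ext fun u => Subtype.ext (by simp)
  map_mul' a b := LinearMap.ext fun u => Subtype.ext (by simp)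

theorem coe_resHom (ρ : G →* Module.End (ZMod q) V) (H : Subgroup G) (U : Submodule (ZMod q) V)
    (hU : ∀ h ∈ H, ∀ u ∈ U, ρ h u ∈ U) (h : H) (u : U) :
    ((resHom ρ H U hU h u : U) : V) = ρ (h : G) u := rfl

/-- A map of prime order prime to the characteristic: fixed vectors are not differences. -/
theorem disjoint_fixed {r : ℕ} (T : Module.End (ZMod q) V) (hT : T ^ r = 1)
    (hr : (r : ZMod q) ≠ 0) : Disjoint (LinearMap.ker (T - 1)) (LinearMap.range (T - 1)) := by
  rw [Submodule.disjoint_def]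
  intro w hw hw'
  obtain ⟨v, hv⟩ := hw'
  rw [LinearMap.mem_ker, LinearMap.sub_apply, Module.End.one_apply, sub_eq_zero] at hw
  rw [LinearMap.sub_apply, Module.End.one_apply, sub_eq_iff_eq_add] at hv
  have hk : ∀ k : ℕ, (T ^ k) v = v + k • w := by
    intro k
    induction k with
    | zero => simp
    | succ k ih =>
      rw [pow_succ', Module.End.mul_apply, ih, map_add, map_nsmul, hw, hv, succ_nsmul]
      abel
  have h1 := hk r
  rw [hT, Module.End.one_apply, left_eq_add, ← Nat.cast_smul_eq_nsmul (ZMod q), smul_eq_zero] at h1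
  exact h1.resolve_left hr

theorem mem_sylow_of_commute {r : ℕ} [Fact r.Prime] (P : Sylow r G) {z : G} {k : ℕ}
    (hz : z ^ r ^ k = 1) (hcomm : ∀ y ∈ (P : Subgroup G), y * z = z * y) : z ∈ (P : Subgroup G) := by
  have hzp : IsPGroup r (Subgroup.zpowers z) := fun a => by
    obtain ⟨i, hi⟩ := a.2
    refine ⟨k, Subtype.ext ?_⟩
    rw [SubgroupClass.coe_pow, OneMemClass.coe_one, show ((a : G)) = z ^ i from hi.symm,
      ← zpow_natCast, ← zpow_mul, mul_comm, zpow_mul, zpow_natCast, hz, one_zpow]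
  have hnorm : (P : Subgroup G) ≤ Subgroup.normalizer (Subgroup.zpowers z : Set G) := fun y hy => by
    rw [Subgroup.mem_normalizer_iff]
    intro w
    constructor
    · rintro ⟨i, rfl⟩
      exact ⟨i, by simp [((show Commute y z from hcomm y hy).zpow_right i).eq]⟩
    · rintro ⟨i, hi⟩
      refine ⟨i, ?_⟩
      have : w = y⁻¹ * z ^ i * y := by rw [show z ^ i = y * w * y⁻¹ from hi]; group
      rw [this, mul_assoc, ← ((show Commute y z from hcomm y hy).zpow_right i).eq,
        inv_mul_cancel_left]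
  have hsup := IsPGroup.to_sup_of_normal_right' P.isPGroup' hzp hnorm
  exact P.is_maximal' hsup le_sup_left ▸ Subgroup.mem_sup_right (Subgroup.mem_zpowers z)

variable {r : ℕ} [Fact r.Prime]

/-- The setting of degree six with a prime of order three. -/
structure SixSetting (ρ : G →* Module.End (ZMod q) V) (P : Sylow r G) : Prop where
  inj : Function.Injective ρ
  coprime : ¬ q ∣ Nat.card G
  finrank : Module.finrank (ZMod q) V = 6
  ne : r ≠ q
  lt : 7 < r
  three : r ∣ q ^ 3 - 1
  primitive : ∀ i, 0 < i → i < 3 → ¬ r ∣ q ^ i - 1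
  card : Nat.card ↥(P : Subgroup G) = r ^ 2
  notCyclicDvd : ¬ r ^ 2 ∣ q ^ 6 - 1
  sqDvd : ¬ r ^ 2 ∣ ∏ i : Fin 3, (q ^ 3 - q ^ (i : ℕ))

variable {ρ : G →* Module.End (ZMod q) V} {P : Sylow r G}

namespace SixSetting

variable (S : SixSetting ρ P)

include S

theorem cast_ne : (r : ZMod q) ≠ 0 := by
  rw [Ne, CharP.cast_eq_zero_iff (ZMod q) q, Nat.prime_dvd_prime_iff_eq Fact.out Fact.out]
  exact S.ne.symm

theorem comm {a b : G} (ha : a ∈ (P : Subgroup G)) (hb : b ∈ (P : Subgroup G)) : a * b = b * a :=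
  congrArg Subtype.val (IsPGroup.commutative_of_card_eq_prime_sq S.card ⟨a, ha⟩ ⟨b, hb⟩)

theorem pow_sq {a : G} (ha : a ∈ (P : Subgroup G)) : a ^ r ^ 2 = 1 := by
  have h : (⟨a, ha⟩ : ↥(P : Subgroup G)) ^ r ^ 2 = 1 := by rw [← S.card]; exact pow_card_eq_one'
  exact congrArg Subtype.val h

theorem map_pow_eq {a : G} {m : ℕ} (h : a ^ m = 1) : ρ a ^ m = 1 := by rw [← map_pow, h, map_one]

/-- On an invariant subspace of dimension 3 a map of order `r` is trivial or has commutative
commutant. -/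
theorem trivial_or_comm (U : Submodule (ZMod q) V) (hU : Module.finrank (ZMod q) U = 3)
    (X : Module.End (ZMod q) U) (hX : X ^ r = 1) (hX1 : X ≠ 1) {A B : Module.End (ZMod q) U}
    (hA : Commute A X) (hB : Commute B X) : A * B = B * A := by
  haveI : Nontrivial U := Module.nontrivial_of_finrank_pos (R := ZMod q) (by omega)
  exact SolvableTransitive.mul_comm_of_commute (r := r) X hX hX1 S.cast_ne
    (by rw [hU, Nat.card_zmod]; exact S.primitive) hA hB

/-- An invariant subspace meets a subspace of dimension 3 in `⊥` or all of it when a map of order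
`r` is nontrivial on it. -/
theorem irreducible (U : Submodule (ZMod q) V) (hU : Module.finrank (ZMod q) U = 3) {y : G}
    (hy : y ^ r = 1) (hyU : ∀ u ∈ U, ρ y u ∈ U) (hne : ∃ u ∈ U, ρ y u ≠ u)
    (W : Submodule (ZMod q) V) (hW : ∀ w ∈ W, ρ y w ∈ W) : Disjoint U W ∨ U ≤ W := by
  haveI : Nontrivial U := Module.nontrivial_of_finrank_pos (R := ZMod q) (by omega)
  have hk : ∀ (k : ℕ) (u : U), ((((ρ y).restrict hyU) ^ k) u : V) = (ρ y ^ k) u := by
    intro k
    induction k with
    | zero => intro u; rfl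
    | succ k ih => intro u; rw [pow_succ', pow_succ', Module.End.mul_apply, Module.End.mul_apply, ← ih u]; rfl
  rcases SolvableTransitive.eq_bot_or_eq_top_of_invariant (r := r) ((ρ y).restrict hyU)
    (LinearMap.ext fun u => Subtype.ext (by rw [hk, S.map_pow_eq hy]; rfl))
    (fun h => by
      obtain ⟨u, hu, hne⟩ := hne
      exact hne (congrArg Subtype.val (LinearMap.congr_fun h ⟨u, hu⟩)))
    S.cast_ne (by rw [hU, Nat.card_zmod]; exact S.primitive) (W.comap U.subtype)
    (fun u hu => hW _ hu) with h | h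
  · left
    rw [Submodule.disjoint_def]
    intro u hu hu'
    have : (⟨u, hu⟩ : U) ∈ W.comap U.subtype := hu'
    rw [h, Submodule.mem_bot] at this
    exact congrArg Subtype.val this
  · exact Or.inr fun u hu => (h.ge Submodule.mem_top : (⟨u, hu⟩ : U) ∈ W.comap U.subtype)

theorem exists_split : ∃ y, y ∈ (P : Subgroup G) ∧ orderOf y = r ∧
    Module.finrank (ZMod q) (LinearMap.ker (ρ y - 1)) = 3 ∧
    Module.finrank (ZMod q) (LinearMap.range (ρ y - 1)) = 3 ∧
    IsCompl (LinearMap.ker (ρ y - 1)) (LinearMap.range (ρ y - 1)) := by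
  classical
  have hrp := Fact.out (p := r.Prime)
  haveI : Nontrivial V := Module.nontrivial_of_finrank_pos (R := ZMod q) (by rw [S.finrank]; norm_num)
  have hcardV : Nat.card V = q ^ 6 := by
    rw [Module.natCard_eq_pow_finrank (K := ZMod q), S.finrank, Nat.card_zmod]
  -- some element has a fixed vector
  obtain ⟨y₁, hy₁, hy₁1, w, hw, hyw⟩ : ∃ y ∈ (P : Subgroup G), y ≠ 1 ∧ ∃ w : V, w ≠ 0 ∧ ρ y w = w := by
    by_contra! hno
    refine S.notCyclicDvd ?_
    rw [← S.card, ← hcardV]
    letI : MulAction ↥(P : Subgroup G) {x : V // x ≠ 0} :=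
      { smul := fun g x => ⟨ρ (g : G) x.1, fun h => x.2 (by
          have h2 := congrArg (ρ (g : G)⁻¹) h
          rwa [← Module.End.mul_apply, ← map_mul, inv_mul_cancel, map_one, Module.End.one_apply,
            map_zero] at h2)⟩
        one_smul := fun x => Subtype.ext (show ρ 1 x.1 = x.1 by rw [map_one]; rfl)
        mul_smul := fun g h x => Subtype.ext (show ρ ((g : G) * h) x.1 = _ by rw [map_mul]; rfl) }
    have hstab : ∀ x : {x : V // x ≠ 0}, MulAction.stabilizer ↥(P : Subgroup G) x = ⊥ := fun x => by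
      refine (Subgroup.eq_bot_iff_forall _).mpr fun g hg => ?_
      by_contra hg1
      exact hno g g.2 (fun h => hg1 (Subtype.ext h)) x.1 x.2 (congrArg Subtype.val hg)
    have h1 : Nat.card {x : V // x ≠ 0} = Nat.card V - 1 := by
      have := Fintype.ofFinite V
      rw [Nat.card_eq_fintype_card, Nat.card_eq_fintype_card, Fintype.card_subtype_compl,
        Fintype.card_subtype_eq]
    rw [← h1, Nat.card_congr (MulAction.selfEquivOrbitsQuotientProd hstab), Nat.card_prod]
    exact dvd_mul_left _ _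
  obtain ⟨k, hk⟩ := (IsPGroup.iff_orderOf.1 P.isPGroup') ⟨y₁, hy₁⟩
  rw [Subgroup.orderOf_mk] at hk
  obtain ⟨j, rfl⟩ : ∃ j, k = j + 1 := ⟨k - 1, by
    have : k ≠ 0 := fun h => hy₁1 (orderOf_eq_one_iff.1 (by rw [hk, h, pow_zero]))
    omega⟩
  set y := y₁ ^ r ^ j with hy
  have hyo : orderOf y = r := by
    rw [hy, orderOf_pow' y₁ (pow_ne_zero _ hrp.ne_zero), hk, Nat.gcd_eq_right (pow_dvd_pow r j.le_succ),
      pow_succ, Nat.mul_div_cancel_left _ (pow_pos hrp.pos j)]
  have hyr : y ^ r = 1 := hyo ▸ pow_orderOf_eq_one y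
  have hyw' : ρ y w = w := by
    have : ∀ m : ℕ, ρ (y₁ ^ m) w = w := by
      intro m
      induction m with
      | zero => rw [pow_zero, map_one]; rfl
      | succ m ih => rw [pow_succ, map_mul, Module.End.mul_apply, hyw, ih]
    exact this _
  refine ⟨y, Subgroup.pow_mem _ hy₁ _, hyo, ?_⟩
  have hdis := disjoint_fixed (ρ y) (S.map_pow_eq hyr) S.cast_ne
  have hrn := LinearMap.finrank_range_add_finrank_ker (ρ y - 1)
  rw [S.finrank] at hrn
  have h0 : 0 < Module.finrank (ZMod q) (LinearMap.ker (ρ y - 1)) := by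
    refine Nat.pos_of_ne_zero fun h => hw ?_
    rw [Submodule.finrank_eq_zero] at h
    have : w ∈ LinearMap.ker (ρ y - 1) := by
      rw [LinearMap.mem_ker, LinearMap.sub_apply, Module.End.one_apply, hyw', sub_self]
    rwa [h, Submodule.mem_bot] at this
  have h1 : 0 < Module.finrank (ZMod q) (LinearMap.range (ρ y - 1)) := by
    refine Nat.pos_of_ne_zero fun h => ?_
    rw [Submodule.finrank_eq_zero, LinearMap.range_eq_bot, sub_eq_zero, ← map_one ρ] at h
    rw [S.inj h, orderOf_one] at hyo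
    exact hrp.ne_one hyo.symm
  have hdvd : r ∣ q ^ Module.finrank (ZMod q) (LinearMap.range (ρ y - 1)) - 1 := by
    by_contra hnd
    obtain ⟨u, hu, hu0, hfix⟩ := SolvableTransitive.exists_fixed_of_invariant (r := r) (ρ y)
      (S.map_pow_eq hyr) (LinearMap.range (ρ y - 1))
      (by rintro _ ⟨v, rfl⟩; exact ⟨ρ y v, by simp⟩)
      (by rwa [Module.natCard_eq_pow_finrank (K := ZMod q), Nat.card_zmod])
    refine hu0 (Submodule.disjoint_def.1 hdis u ?_ hu)
    rw [LinearMap.mem_ker, LinearMap.sub_apply, Module.End.one_apply, hfix, sub_self]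
  have h3 := dvd_of_primitive (Fact.out (p := q.Prime)).pos (by norm_num : 0 < 3) S.three S.primitive hdvd
  obtain ⟨c, hc⟩ := h3
  refine ⟨by omega, by omega, hdis, codisjoint_iff.2 ?_⟩
  refine Submodule.eq_top_of_finrank_eq ?_
  have h4 := Submodule.finrank_sup_add_finrank_inf_eq (LinearMap.ker (ρ y - 1)) (LinearMap.range (ρ y - 1))
  rw [hdis.eq_bot, finrank_bot, add_zero] at h4
  rw [h4, S.finrank]
  omega

/-- Both factors of an invariant splitting force `P` to be normalized. -/
theorem conj_mem_of_split (H : Subgroup G) (hPH : (P : Subgroup G) ≤ H)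
    (U W : Submodule (ZMod q) V) (hUW : IsCompl U W) (hU : ∀ h ∈ H, ∀ u ∈ U, ρ h u ∈ U)
    (hW : ∀ h ∈ H, ∀ u ∈ W, ρ h u ∈ W)
    (hPU : ∀ (g y : H), (y : G) ∈ (P : Subgroup G) →
      ∃ y' : H, (y' : G) ∈ (P : Subgroup G) ∧ resHom ρ H U hU (g * y * g⁻¹) = resHom ρ H U hU y')
    (hPW : ∀ (g y : H), (y : G) ∈ (P : Subgroup G) →
      ∃ y' : H, (y' : G) ∈ (P : Subgroup G) ∧ resHom ρ H W hW (g * y * g⁻¹) = resHom ρ H W hW y')
    {g y : G} (hg : g ∈ H) (hy : y ∈ (P : Subgroup G)) : g * y * g⁻¹ ∈ (P : Subgroup G) := by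
  set z : H := ⟨g, hg⟩ * ⟨y, hPH hy⟩ * ⟨g, hg⟩⁻¹ with hz
  obtain ⟨u₁, hu₁P, hu₁⟩ := hPU ⟨g, hg⟩ ⟨y, hPH hy⟩ hy
  obtain ⟨w₁, hw₁P, hw₁⟩ := hPW ⟨g, hg⟩ ⟨y, hPH hy⟩ hy
  have hext : ∀ a b : H, resHom ρ H U hU a = resHom ρ H U hU b →
      resHom ρ H W hW a = resHom ρ H W hW b → a = b := by
    intro a b h1 h2
    refine Subtype.ext (S.inj (LinearMap.ext fun v => ?_))
    obtain ⟨u, hu, w, hw, rfl⟩ := Submodule.mem_sup.1
      (show v ∈ U ⊔ W by rw [hUW.sup_eq_top]; exact Submodule.mem_top)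
    have e1 : ρ (a : G) u = ρ (b : G) u := congrArg Subtype.val (LinearMap.congr_fun h1 ⟨u, hu⟩)
    have e2 : ρ (a : G) w = ρ (b : G) w := congrArg Subtype.val (LinearMap.congr_fun h2 ⟨w, hw⟩)
    rw [map_add, map_add, e1, e2]
  have hcomm : ∀ x ∈ (P : Subgroup G), x * (g * y * g⁻¹) = g * y * g⁻¹ * x := by
    intro x hx
    refine congrArg Subtype.val (hext (⟨x, hPH hx⟩ * z) (z * ⟨x, hPH hx⟩) ?_ ?_)
    · have hz' : resHom ρ H U hU z = resHom ρ H U hU u₁ := hu₁
      rw [map_mul _ ⟨x, hPH hx⟩ z, map_mul _ z, hz', ← map_mul, ← map_mul]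
      exact congrArg _ (Subtype.ext (S.comm hx hu₁P))
    · have hz' : resHom ρ H W hW z = resHom ρ H W hW w₁ := hw₁
      rw [map_mul _ ⟨x, hPH hx⟩ z, map_mul _ z, hz', ← map_mul, ← map_mul]
      exact congrArg _ (Subtype.ext (S.comm hx hw₁P))
  refine mem_sylow_of_commute P (k := 2) ?_ hcomm
  rw [conj_pow, S.pow_sq hy, mul_one, mul_inv_cancel]

/-- A factor on which `x` is nontrivial, or whose image of order prime to `r ^ 2` has a normal
`r`-subgroup. -/
theorem factor_condition (H : Subgroup G) {x : G} (hxr : x ^ r = 1) (hxH : x ∈ H)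
    (hH : ∀ h ∈ H, h * x = x * h) (hPH : (P : Subgroup G) ≤ H)
    (U : Submodule (ZMod q) V) (hU3 : Module.finrank (ZMod q) U = 3)
    (hU : ∀ h ∈ H, ∀ u ∈ U, ρ h u ∈ U) (g y : H) (hy : (y : G) ∈ (P : Subgroup G)) :
    ∃ y' : H, (y' : G) ∈ (P : Subgroup G) ∧ resHom ρ H U hU (g * y * g⁻¹) = resHom ρ H U hU y' := by
  set φ := resHom ρ H U hU
  by_cases hx : φ ⟨x, hxH⟩ = 1
  swap
  · refine ⟨y, hy, ?_⟩
    have hc : ∀ h : H, Commute (φ h) (φ ⟨x, hxH⟩) := fun h => by
      rw [commute_iff_eq, ← map_mul, ← map_mul]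
      exact congrArg φ (Subtype.ext (hH h h.2))
    rw [map_mul, map_mul, S.trivial_or_comm U hU3 _ (by
      rw [← map_pow, show (⟨x, hxH⟩ : H) ^ r = 1 from Subtype.ext hxr, map_one]) hx (hc g) (hc y),
      mul_assoc, ← map_mul, mul_inv_cancel, map_one, mul_one]
  -- the image on `U`
  set B := φ.toHomUnits.range
  haveI : Finite B := Finite.of_surjective _ φ.toHomUnits.rangeRestrict_surjective
  let σ : B →* Module.End (ZMod q) U := (Units.coeHom _).comp B.subtype
  have hσ : Function.Injective σ := Units.val_injective.comp Subtype.val_injective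
  have hBG : Nat.card B ∣ Nat.card G :=
    (Subgroup.card_dvd_of_surjective _ φ.toHomUnits.rangeRestrict_surjective).trans
      (Subgroup.card_subgroup_dvd_card H)
  have hcopB : ¬ q ∣ Nat.card B := fun h => S.coprime (h.trans hBG)
  have hsqB : ¬ r ^ 2 ∣ Nat.card B := fun h => S.sqDvd (h.trans (card_dvd_prod σ hσ hU3))
  let πB : H →* B := φ.toHomUnits.rangeRestrict
  have hval : ∀ a b : H, πB a = πB b → φ a = φ b := fun a b h =>
    congrArg (fun t : B => σ t) h
  set Q := ((P : Subgroup G).subgroupOf H).map πB with hQ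
  have hQp : IsPGroup r Q :=
    (P.isPGroup'.of_equiv (Subgroup.subgroupOfEquivOfLe hPH).symm).map πB
  suffices h : πB (g * y * g⁻¹) ∈ Q by
    obtain ⟨y', hy', he⟩ := h
    exact ⟨y', hy', hval _ _ he.symm⟩
  have hyQ : πB y ∈ Q := ⟨y, hy, rfl⟩
  obtain ⟨k, hk⟩ := IsPGroup.iff_card.1 hQp
  rcases Nat.eq_zero_or_pos k with rfl | hk0
  · rw [pow_zero, Subgroup.card_eq_one] at hk
    rw [hk, Subgroup.mem_bot] at hyQ ⊢
    rw [map_mul, map_mul, hyQ, mul_one, ← map_mul, mul_inv_cancel, map_one]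
  have hrB : r ∣ Nat.card B :=
    (dvd_pow_self r hk0.ne').trans (hk ▸ Subgroup.card_subgroup_dvd_card Q)
  obtain ⟨χ, hχ, hfaith, hdeg⟩ := exists_faithful_character hcopB σ hσ
  obtain ⟨N, hN, hNr⟩ : ∃ N : Subgroup B, N.Normal ∧ Nat.card N = r := by
    by_contra! hnn
    have := Cfsg.Agent.S4503.result r Fact.out hrB hsqB hnn χ hχ hfaith
    rw [hdeg, hU3] at this
    have := S.lt
    omega
  haveI := hN
  have hNp : IsPGroup r N := IsPGroup.of_card (n := 1) (by rw [hNr, pow_one])
  obtain ⟨m, hm⟩ := IsPGroup.iff_card.1 (hQp.to_sup_of_normal_right hNp)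
  have hm1 : m ≤ 1 := by
    by_contra h
    exact hsqB (((pow_dvd_pow r (by omega : 2 ≤ m)).trans (dvd_of_eq hm.symm)).trans
      (Subgroup.card_subgroup_dvd_card _))
  have hQN : Q ⊔ N = N := (Subgroup.eq_of_le_of_card_ge le_sup_right (by
    rw [hm, hNr]
    calc r ^ m ≤ r ^ 1 := Nat.pow_le_pow_right (Fact.out (p := r.Prime)).pos hm1
      _ = r := pow_one r)).symm
  have hQN' : Q = N := Subgroup.eq_of_le_of_card_ge (hQN ▸ le_sup_left) (by
    rw [hNr, hk]; exact Nat.le_self_pow hk0.ne' r)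
  rw [map_mul, map_mul, map_inv, hQN']
  exact hN.conj_mem _ (hQN' ▸ hyQ) _

/-- `P` is normalized by the centralizer of each of its elements of order `r`. -/
theorem conj_mem {x g y : G} (hxP : x ∈ (P : Subgroup G)) (hx : orderOf x = r) (hg : g * x = x * g)
    (hy : y ∈ (P : Subgroup G)) : g * y * g⁻¹ ∈ (P : Subgroup G) := by
  classical
  obtain ⟨y₀, hy₀, hy₀o, hk3, hr3, hc₀⟩ := S.exists_split
  have hy₀r : y₀ ^ r = 1 := hy₀o ▸ pow_orderOf_eq_one y₀
  have hxr : x ^ r = 1 := hx ▸ pow_orderOf_eq_one x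
  set U := LinearMap.ker (ρ y₀ - 1) with hU
  set W := LinearMap.range (ρ y₀ - 1) with hW
  set H := Subgroup.centralizer ({x} : Set G) with hH
  have hgH : g ∈ H := Subgroup.mem_centralizer_singleton_iff.2 hg
  have hPH : (P : Subgroup G) ≤ H := fun a ha =>
    Subgroup.mem_centralizer_singleton_iff.2 (S.comm ha hxP)
  have hHx : ∀ h ∈ H, h * x = x * h := fun h hh => Subgroup.mem_centralizer_singleton_iff.1 hh
  have hxH : x ∈ H := hPH hxP
  set T := Subgroup.zpowers x
  have hTP : T ≤ (P : Subgroup G) := Subgroup.zpowers_le.2 hxP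
  -- the algebra generated by `x`
  set R := Subring.closure ({ρ x} : Set (Module.End (ZMod q) V)) with hR
  have hRcomm : ∀ a : G, ρ a * ρ x = ρ x * ρ a → ∀ f ∈ R, ρ a * f = f * ρ a := by
    intro a ha f hf
    have hle : R ≤ Subring.centralizer {ρ a} := by
      refine Subring.closure_le.mpr ?_
      rintro _ rfl
      exact Subring.mem_centralizer_iff.mpr fun b hb => by rw [Set.mem_singleton_iff.1 hb]; exact ha
    exact Subring.mem_centralizer_iff.mp (hle hf) _ rfl
  have hHR : ∀ a ∈ H, ∀ f ∈ R, ρ a * f = f * ρ a := fun a ha =>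
    hRcomm a (by rw [← map_mul, ← map_mul, hHx a ha])
  have hRinv : ∀ (Z : Submodule (ZMod q) V), (∀ z ∈ Z, ρ x z ∈ Z) → ∀ f ∈ R, ∀ z ∈ Z, f z ∈ Z := by
    intro Z hZ f hf
    induction hf using Subring.closure_induction with
    | mem f hf => rw [Set.mem_singleton_iff.1 hf]; exact hZ
    | zero => intro z _; simp
    | one => intro z hz; simpa using hz
    | add f f' _ _ hf hf' => intro z hz; exact Z.add_mem (hf z hz) (hf' z hz)
    | neg f _ hf => intro z hz; exact Z.neg_mem (hf z hz)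
    | mul f f' _ _ hf hf' => intro z hz; exact hf _ (hf' z hz)
  have hxy : ρ x * ρ y₀ = ρ y₀ * ρ x := by rw [← map_mul, ← map_mul, S.comm hxP hy₀]
  have hUinv : ∀ z ∈ U, ρ x z ∈ U := by
    intro z hz
    rw [hU, LinearMap.mem_ker, LinearMap.sub_apply, Module.End.one_apply, sub_eq_zero] at hz ⊢
    rw [← Module.End.mul_apply, ← hxy, Module.End.mul_apply, hz]
  have hWinv : ∀ z ∈ W, ρ x z ∈ W := by
    rintro _ ⟨v, rfl⟩
    exact ⟨ρ x v, by
      simp only [LinearMap.sub_apply, Module.End.one_apply, map_sub]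
      rw [← Module.End.mul_apply, ← hxy]; rfl⟩
  have hx1 : ρ x ≠ 1 := fun h => by
    rw [S.inj (h.trans (map_one ρ).symm), orderOf_one] at hx
    exact (Fact.out (p := r.Prime)).ne_one hx.symm
  have hyU : ∃ u ∈ W, ρ y₀ u ≠ u := by
    obtain ⟨u, hu, hu0⟩ : ∃ u ∈ W, u ≠ 0 := Submodule.exists_mem_ne_zero_of_ne_bot fun h => by
      rw [h, finrank_bot] at hr3; norm_num at hr3
    refine ⟨u, hu, fun h => hu0 (Submodule.disjoint_def.1 hc₀.disjoint u ?_ hu)⟩
    rw [hU, LinearMap.mem_ker, LinearMap.sub_apply, Module.End.one_apply, h, sub_self]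
  by_cases hsplit : ∃ f ∈ R, f ≠ 0 ∧ ∃ v : V, v ≠ 0 ∧ f v = 0
  · obtain ⟨f, hf, hf0, v, hv0, hfv⟩ := hsplit
    have hfU := hRinv U hUinv f hf
    have hfW := hRinv W hWinv f hf
    -- on each of `U`, `W`, zero or injective
    have hzi : ∀ (Z : Submodule (ZMod q) V), Module.finrank (ZMod q) Z = 3 → (∀ z ∈ Z, ρ x z ∈ Z) →
        (∀ z ∈ Z, f z = 0) ∨ (∀ z ∈ Z, f z = 0 → z = 0) := by
      intro Z hZ3 hZx
      by_cases htriv : ∀ z ∈ Z, ρ x z = z
      · -- `f` is a scalar on `Z`
        obtain ⟨c, hc⟩ : ∃ c : ZMod q, ∀ z ∈ Z, f z = c • z := by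
          clear hf0 hfv hfU hfW
          induction hf using Subring.closure_induction with
          | mem f hf => exact ⟨1, fun z hz => by rw [Set.mem_singleton_iff.1 hf, htriv z hz, one_smul]⟩
          | zero => exact ⟨0, fun z _ => by simp⟩
          | one => exact ⟨1, fun z _ => by simp⟩
          | add f f' _ _ hf hf' =>
            obtain ⟨c, hc⟩ := hf; obtain ⟨c', hc'⟩ := hf'
            exact ⟨c + c', fun z hz => by rw [LinearMap.add_apply, hc z hz, hc' z hz, add_smul]⟩
          | neg f _ hf =>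
            obtain ⟨c, hc⟩ := hf
            exact ⟨-c, fun z hz => by rw [LinearMap.neg_apply, hc z hz, neg_smul]⟩
          | mul f f' _ _ hf hf' =>
            obtain ⟨c, hc⟩ := hf; obtain ⟨c', hc'⟩ := hf'
            exact ⟨c * c', fun z hz => by
              rw [Module.End.mul_apply, hc' z hz, hc _ (Z.smul_mem _ hz), smul_smul]⟩
        rcases eq_or_ne c 0 with rfl | hc0
        · exact Or.inl fun z hz => by rw [hc z hz, zero_smul]
        · exact Or.inr fun z hz h => (smul_eq_zero.1 ((hc z hz).symm.trans h)).resolve_left hc0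
      · push Not at htriv
        rcases S.irreducible Z hZ3 hxr hZx htriv (LinearMap.ker f) (fun w hw => by
          rw [LinearMap.mem_ker] at hw ⊢
          rw [← Module.End.mul_apply, ← hHR x hxH f hf, Module.End.mul_apply, hw, map_zero]) with h | h
        · exact Or.inr fun z hz h0 => Submodule.disjoint_def.1 h z hz h0
        · exact Or.inl fun z hz => h hz
    have hker : ∀ (Z Z' : Submodule (ZMod q) V), IsCompl Z Z' → (∀ z ∈ Z, f z = 0) →
        (∀ z ∈ Z', f z = 0 → z = 0) → (∀ z ∈ Z', f z ∈ Z') → LinearMap.ker f = Z ∧ LinearMap.range f = Z' := by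
      intro Z Z' hc h0 hinj hmap
      have hdec : ∀ w : V, ∃ a ∈ Z, ∃ b ∈ Z', a + b = w := fun w => Submodule.mem_sup.1
        (show w ∈ Z ⊔ Z' by rw [hc.sup_eq_top]; exact Submodule.mem_top)
      have hk : LinearMap.ker f = Z := by
        refine le_antisymm (fun w hw => ?_) fun z hz => h0 z hz
        obtain ⟨a, ha, b, hb, rfl⟩ := hdec w
        rw [LinearMap.mem_ker, map_add, h0 a ha, zero_add] at hw
        rw [hinj b hb hw, add_zero]; exact ha
      refine ⟨hk, Submodule.eq_of_le_of_finrank_eq (fun w hw => ?_) ?_⟩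
      · obtain ⟨u, rfl⟩ := hw
        obtain ⟨a, ha, b, hb, rfl⟩ := hdec u
        rw [map_add, h0 a ha, zero_add]
        exact hmap b hb
      · have h1 := LinearMap.finrank_range_add_finrank_ker f
        rw [hk] at h1
        have h2 := Submodule.finrank_add_eq_of_isCompl hc
        omega
    have hkr : (LinearMap.ker f = U ∧ LinearMap.range f = W) ∨
        (LinearMap.ker f = W ∧ LinearMap.range f = U) := by
      obtain ⟨a, ha, b, hb, rfl⟩ := Submodule.mem_sup.1
        (show v ∈ U ⊔ W by rw [hc₀.sup_eq_top]; exact Submodule.mem_top)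
      rcases hzi U hk3 hUinv with h1 | h1 <;> rcases hzi W hr3 hWinv with h2 | h2
      · refine absurd (LinearMap.ext fun w => ?_) hf0
        obtain ⟨a, ha, b, hb, rfl⟩ := Submodule.mem_sup.1
          (show w ∈ U ⊔ W by rw [hc₀.sup_eq_top]; exact Submodule.mem_top)
        rw [map_add, h1 a ha, h2 b hb, add_zero]; rfl
      · exact Or.inl (hker U W hc₀ h1 h2 hfW)
      · exact Or.inr (hker W U hc₀.symm h2 h1 hfU)
      · refine absurd ?_ hv0
        rw [map_add] at hfv
        have ha0 : f a = 0 := Submodule.disjoint_def.1 hc₀.disjoint _ (hfU a ha) (by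
          rw [eq_neg_of_add_eq_zero_left hfv]; exact W.neg_mem (hfW b hb))
        rw [h1 a ha ha0, zero_add]
        rw [ha0, zero_add] at hfv
        exact h2 b hb hfv
    have hkH : ∀ h ∈ H, ∀ w ∈ LinearMap.ker f, ρ h w ∈ LinearMap.ker f := fun h hh w hw => by
      rw [LinearMap.mem_ker] at hw ⊢
      rw [← Module.End.mul_apply, ← hHR h hh f hf, Module.End.mul_apply, hw, map_zero]
    have hrH : ∀ h ∈ H, ∀ w ∈ LinearMap.range f, ρ h w ∈ LinearMap.range f := by
      rintro h hh _ ⟨u, rfl⟩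
      exact ⟨ρ h u, by rw [← Module.End.mul_apply, ← hHR h hh f hf]; rfl⟩
    rcases hkr with ⟨e1, e2⟩ | ⟨e1, e2⟩ <;> rw [e1] at hkH <;> rw [e2] at hrH
    · exact S.conj_mem_of_split H hPH U W hc₀ hkH hrH
        (S.factor_condition H hxr hxH hHx hPH U hk3 hkH)
        (S.factor_condition H hxr hxH hHx hPH W hr3 hrH) hgH hy
    · exact S.conj_mem_of_split H hPH U W hc₀ hrH hkH
        (S.factor_condition H hxr hxH hHx hPH U hk3 hrH)
        (S.factor_condition H hxr hxH hHx hPH W hr3 hkH) hgH hy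
  -- the algebra is a field
  push Not at hsplit
  haveI : Finite (Module.End (ZMod q) V) :=
    Finite.of_injective (fun f => (f : V → V)) DFunLike.coe_injective
  haveI : Nontrivial V := Module.nontrivial_of_finrank_pos (R := ZMod q) (by rw [S.finrank]; norm_num)
  letI : CommRing R :=
    { (inferInstance : Ring R) with
      mul_comm := fun a b => Subtype.ext (by
        have hle : R ≤ Subring.centralizer (R : Set (Module.End (ZMod q) V)) := by
          refine Subring.closure_le.mpr ?_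
          rintro _ rfl
          exact Subring.mem_centralizer_iff.mpr fun w hw => (hRcomm x rfl w hw).symm
        exact Subring.mem_centralizer_iff.mp (hle b.2) a a.2) }
  haveI : NoZeroDivisors R := ⟨fun {a b} hab => by
    by_contra! h
    obtain ⟨v, hv⟩ : ∃ v, (b : Module.End (ZMod q) V) v ≠ 0 := by
      by_contra! h'
      exact h.2 (Subtype.ext (LinearMap.ext h'))
    exact hsplit a a.2 (fun e => h.1 (Subtype.ext e)) _ hv
      (LinearMap.congr_fun (congrArg Subtype.val hab) v)⟩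
  haveI : Nontrivial R := ⟨⟨0, 1, fun e => zero_ne_one (congrArg Subtype.val e)⟩⟩
  haveI : IsDomain R := NoZeroDivisors.to_isDomain _
  letI : Field R := (Finite.isField_of_domain R).toField
  haveI : CharP R q := by
    refine (CharP.charP_iff_prime_eq_zero (Fact.out : q.Prime)).mpr (Subtype.ext ?_)
    have h0 : (q : Module.End (ZMod q) V) = 0 := LinearMap.ext fun w => by
      rw [Module.End.natCast_apply, ← Nat.cast_smul_eq_nsmul (ZMod q), ZMod.natCast_self, zero_smul]
      rfl
    exact (map_natCast R.subtype q).trans h0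
  obtain ⟨e, he⟩ : ∃ e, Nat.card R = q ^ e := by
    letI := ZMod.algebra R q
    exact ⟨_, by rw [Module.natCard_eq_pow_finrank (K := ZMod q), Nat.card_zmod]⟩
  set X : R := ⟨ρ x, Subring.subset_closure rfl⟩
  have hXr : X ^ r = 1 := Subtype.ext (S.map_pow_eq hxr)
  have hX1 : X ≠ 1 := fun h => hx1 (congrArg Subtype.val h)
  have hre : r ∣ q ^ e - 1 := by
    have hX0 : X ≠ 0 := fun h => by
      rw [h, zero_pow (Fact.out (p := r.Prime)).ne_zero] at hXr
      exact zero_ne_one hXr
    have ho : orderOf (Units.mk0 X hX0) = r :=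
      orderOf_eq_prime (Units.ext hXr) fun h => hX1 (congrArg Units.val h)
    rw [← he, ← Nat.card_units, ← ho]
    exact orderOf_dvd_natCard _
  have h3e := dvd_of_primitive (Fact.out (p := q.Prime)).pos (by norm_num : 0 < 3) S.three S.primitive hre
  let ρR : H →* Module.End R V :=
    { toFun := fun h =>
        { toFun := ρ (h : G)
          map_add' := map_add _
          map_smul' := fun c w => LinearMap.congr_fun (hHR h h.2 c c.2) w }
      map_one' := LinearMap.ext fun w => by show ρ (1 : G) w = w; rw [map_one]; rfl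
      map_mul' := fun a b => LinearMap.ext fun w => by
        show ρ ((a : G) * b) w = ρ (a : G) (ρ (b : G) w); rw [map_mul]; rfl }
  have hρR : Function.Injective ρR := fun a b h => Subtype.ext (S.inj (LinearMap.ext fun w =>
    LinearMap.congr_fun h w))
  set j := Module.finrank R V
  have hcard : q ^ 6 = q ^ (e * j) := by
    rw [pow_mul, ← he, ← Module.natCard_eq_pow_finrank (K := R),
      Module.natCard_eq_pow_finrank (K := ZMod q), S.finrank, Nat.card_zmod]
  have hej : 6 = e * j := Nat.pow_right_injective (Fact.out (p := q.Prime)).two_le hcard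
  have hj : j = 1 ∨ j = 2 := by
    obtain ⟨c, rfl⟩ := h3e
    have h2 : 2 = c * j := by
      have : 3 * 2 = 3 * (c * j) := by rw [← mul_assoc]; exact hej
      omega
    exact (Nat.dvd_prime Nat.prime_two).1 ⟨c, by rw [h2, mul_comm]⟩
  have hcomm_case : (∀ a b : H, a * b = b * a) → g * y * g⁻¹ ∈ (P : Subgroup G) := fun hab => by
    have : (g * y) = y * g := congrArg Subtype.val (hab ⟨g, hgH⟩ ⟨y, hPH hy⟩)
    rwa [this, mul_inv_cancel_right]
  rcases hj with hj1 | hj2
  · refine hcomm_case fun a b => hρR (LinearMap.ext fun w => ?_)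
    obtain ⟨v₀, hv₀⟩ := exists_ne (0 : V)
    obtain ⟨ca, hca⟩ := (finrank_eq_one_iff_of_nonzero' v₀ hv₀).mp hj1 (ρR a v₀)
    obtain ⟨cb, hcb⟩ := (finrank_eq_one_iff_of_nonzero' v₀ hv₀).mp hj1 (ρR b v₀)
    obtain ⟨c, hc⟩ := (finrank_eq_one_iff_of_nonzero' v₀ hv₀).mp hj1 w
    rw [map_mul, map_mul, Module.End.mul_apply, Module.End.mul_apply, ← hc, map_smul, map_smul,
      map_smul, map_smul, ← hcb, ← hca, map_smul, map_smul, ← hcb, ← hca, smul_smul, smul_smul,
      smul_smul, smul_smul]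
    congr 1; ring
  have hcopH : ¬ q ∣ Nat.card H := fun h => S.coprime (h.trans (Subgroup.card_subgroup_dvd_card H))
  have hyH : ∀ a ∈ (P : Subgroup G), ∀ ha : a ∈ H, (⟨a, ha⟩ : H) ^ r ^ 2 = 1 := fun a ha _ =>
    Subtype.ext (S.pow_sq ha)
  rcases shape ρR q hj2 hρR hcopH with h | ⟨t, ht, h⟩ | ⟨t, ht, hn, hidx⟩ | h
  · exact hcomm_case fun a b => commute_of_mem_scalarSub ρR (h b) hρR a
  · exact hcomm_case fun a b => centralizer_comm ρR hj2 hρR ht (h a) (h b)
  · -- an abelian subgroup of index two contains all `r`-elements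
    have hr2 : ¬ 2 ∣ r ^ 2 := fun h => by
      have := (Nat.prime_dvd_prime_iff_eq Nat.prime_two Fact.out).1 (Nat.prime_two.dvd_of_dvd_pow h)
      have := S.lt
      omega
    haveI := hn
    have hmem : ∀ a : H, a ^ r ^ 2 = 1 → a ∈ Subgroup.centralizer ({t} : Set H) := by
      intro a ha
      obtain ⟨m, hm⟩ := exists_pow_eq_self_of_coprime (x := a) (n := 2)
        ((Nat.prime_two.coprime_iff_not_dvd).2 fun h => hr2 (h.trans (orderOf_dvd_of_pow_eq_one ha)))
      exact hm ▸ pow_mem (hidx ▸ Subgroup.pow_index_mem _ a) m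
    refine mem_sylow_of_commute P (k := 2) (by rw [conj_pow, S.pow_sq hy, mul_one, mul_inv_cancel]) ?_
    intro a ha
    have h1 := hmem ⟨a, hPH ha⟩ (hyH a ha _)
    have h2 := hmem (⟨g, hgH⟩ * ⟨y, hPH hy⟩ * ⟨g, hgH⟩⁻¹) (by
      rw [conj_pow, hyH y hy, mul_one, mul_inv_cancel])
    exact congrArg Subtype.val (centralizer_comm ρR hj2 hρR ht h1 h2)
  · -- `P` is scalar
    have hQ : Nat.card (H ⧸ scalarSub ρR) ∣ 120 := by
      rcases h with ⟨⟨e'⟩⟩ | ⟨⟨e'⟩⟩ | ⟨⟨e'⟩⟩ <;> rw [Nat.card_congr e'.toEquiv]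
      · rw [nat_card_alternatingGroup, Nat.card_eq_fintype_card, Fintype.card_fin]; decide
      · rw [Nat.card_perm, Nat.card_eq_fintype_card, Fintype.card_fin]; decide
      · rw [nat_card_alternatingGroup, Nat.card_eq_fintype_card, Fintype.card_fin]; decide
    have hcop : Nat.Coprime (r ^ 2) 120 := by
      refine Nat.Coprime.pow_left _ (((Fact.out : r.Prime).coprime_iff_not_dvd).2 fun hd => ?_)
      have h5 : r ∣ 2 ^ 3 * 3 * 5 := hd
      have hl := S.lt
      rcases (Fact.out : r.Prime).dvd_mul.1 h5 with h5 | h5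
      · rcases (Fact.out : r.Prime).dvd_mul.1 h5 with h5 | h5
        · have := Nat.le_of_dvd (by norm_num) ((Fact.out : r.Prime).dvd_of_dvd_pow h5); omega
        · have := Nat.le_of_dvd (by norm_num) h5; omega
      · have := Nat.le_of_dvd (by norm_num) h5; omega
    have hyS : (⟨y, hPH hy⟩ : H) ∈ scalarSub ρR := by
      rw [← QuotientGroup.eq_one_iff, ← orderOf_eq_one_iff]
      refine Nat.eq_one_of_dvd_coprimes hcop (orderOf_dvd_of_pow_eq_one ?_)
        ((orderOf_dvd_natCard _).trans hQ)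
      rw [← QuotientGroup.mk_pow, hyH y hy, QuotientGroup.mk_one]
    have := congrArg Subtype.val (commute_of_mem_scalarSub ρR hyS hρR ⟨g, hgH⟩)
    rw [show g * y = y * g from this, mul_inv_cancel_right]
    exact hy

/-- The Sylow number is `1` modulo `r ^ 2`. -/
theorem card_sylow_modEq : ∃ j, Nat.card (Sylow r G) = r ^ 2 * j + 1 := by
  refine G2TwoRecog.card_sylow_modEq_pow P fun Q hQ => ?_
  suffices h : (Q : Subgroup G).subgroupOf (P : Subgroup G) = ⊥ by
    rw [h, Subgroup.index_bot, S.card]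
  rw [Subgroup.eq_bot_iff_forall]
  intro z hz
  by_contra hz1
  obtain ⟨k, hk⟩ := (IsPGroup.iff_orderOf.1 P.isPGroup') z
  obtain ⟨j, rfl⟩ : ∃ j, k = j + 1 := ⟨k - 1, by
    have : k ≠ 0 := fun h => hz1 (orderOf_eq_one_iff.1 (by rw [hk, h, pow_zero]))
    omega⟩
  set x : G := ((z ^ r ^ j : ↥(P : Subgroup G)) : G) with hxdef
  have hrp := Fact.out (p := r.Prime)
  have hxo : orderOf x = r := by
    rw [hxdef, Subgroup.orderOf_coe, orderOf_pow' z (pow_ne_zero _ hrp.ne_zero), hk,
      Nat.gcd_eq_right (pow_dvd_pow r j.le_succ), pow_succ, Nat.mul_div_cancel_left _ (pow_pos hrp.pos j)]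
  have hxP : x ∈ (P : Subgroup G) := (z ^ r ^ j).2
  have hxQ : x ∈ (Q : Subgroup G) := by
    have := pow_mem hz (r ^ j)
    exact this
  have hQab : ∀ a ∈ (Q : Subgroup G), ∀ b ∈ (Q : Subgroup G), a * b = b * a := fun a ha b hb =>
    congrArg Subtype.val (IsPGroup.commutative_of_card_eq_prime_sq
      (p := r) (G := ↥(Q : Subgroup G)) ((Q.card_eq_multiplicity).trans
        ((P.card_eq_multiplicity).symm.trans S.card)) ⟨a, ha⟩ ⟨b, hb⟩)
  have hnorm : (Q : Subgroup G) ≤ Subgroup.normalizer ((P : Subgroup G) : Set G) := fun a ha => by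
    rw [Subgroup.mem_normalizer_iff]
    intro b
    refine ⟨fun hb => S.conj_mem hxP hxo (hQab a ha x hxQ) hb, fun hb => ?_⟩
    have := S.conj_mem hxP hxo (hQab a⁻¹ (inv_mem ha) x hxQ) hb
    rwa [inv_inv, show a⁻¹ * (a * b * a⁻¹) * a = b by group] at this
  have hsup := IsPGroup.to_sup_of_normal_right' Q.isPGroup' P.isPGroup' hnorm
  exact hQ (Sylow.ext (((Q.is_maximal' hsup le_sup_left).symm.trans
    (P.is_maximal' hsup le_sup_right))))

end SixSetting

end Cfsg.Agent.TransCoprime
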