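import Cfsg.Agent.Lib.TransCoprime.TwoDim
import Cfsg.Agent.Lib.TransCoprime.Semilinear
import Cfsg.Agent.Lib.Frobenius.ComplementSL25
import Cfsg.Agent.Lib.Frobenius.Construct
import Cfsg.Agent.Lib.Frobenius.SL25Normal
import Cfsg.Agent.Lib.GL2Char.SLClasses

/-!
# Coprime transitive linear groups in dimension two

* `good_dim_two` : the class number bounds for `|V| = q ^ 2`.
-/

set_option autoImplicit false
set_option linter.style.haveILetI false
set_option linter.unusedSectionVars false

namespace Cfsg.Agent.TransCoprime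

open Module
open scoped MatrixGroups

universe u v

/-- The number of distinct small powers. -/
def powWeight {X : Type*} [Monoid X] [DecidableEq X] (x : X) : ℕ :=
  ((Finset.range 6).image fun i => x ^ i).card

theorem powWeight_le {X : Type*} [Group X] [Finite X] [DecidableEq X] (x : X) :
    powWeight x ≤ orderOf x := by
  refine le_trans (Finset.card_le_card fun y hy => ?_)
    ((Finset.card_image_le (s := Finset.range (orderOf x)) (f := fun i => x ^ i)).trans
      (le_of_eq (Finset.card_range _)))
  obtain ⟨i, -, rfl⟩ := Finset.mem_image.1 hy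
  exact Finset.mem_image.2 ⟨i % orderOf x, Finset.mem_range.2 (Nat.mod_lt _ (orderOf_pos x)),
    pow_mod_orderOf x i⟩

theorem alt_four_facts : Fintype.card (ConjClasses (alternatingGroup (Fin 4))) = 4 ∧
    (∑ x : alternatingGroup (Fin 4), powWeight x) = 31 := by decide +kernel

theorem perm_four_facts : Fintype.card (ConjClasses (Equiv.Perm (Fin 4))) = 5 ∧
    (∑ x : Equiv.Perm (Fin 4), powWeight x) = 67 := by decide +kernel

theorem alt_five_facts : Fintype.card (ConjClasses (alternatingGroup (Fin 5))) = 5 ∧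
    (∑ x : alternatingGroup (Fin 5), powWeight x) = 211 := by decide +kernel

theorem not_isSolvable_altFive : ¬ Group.IsSolvable (alternatingGroup (Fin 5)) := by
  intro h
  haveI := alternatingGroup.isSimpleGroup_five
  have hne : ∃ a b : alternatingGroup (Fin 5), a * b ≠ b * a := by decide +kernel
  obtain ⟨a, b, hab⟩ := hne
  exact hab (IsSimpleGroup.comm_iff_isSolvable.2 h a b)

variable {G : Type u} [Group G] [Finite G]

/-- Isomorphic groups have the same class number. -/
theorem card_conjClasses_congr {H : Type*} [Group H] (e : G ≃* H) :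
    Nat.card (ConjClasses G) = Nat.card (ConjClasses H) := by
  refine Nat.card_congr
    { toFun := ConjClasses.map e.toMonoidHom
      invFun := ConjClasses.map e.symm.toMonoidHom
      left_inv := fun c => ?_
      right_inv := fun c => ?_ }
  · induction c using Quotient.inductionOn with
    | h a =>
      show ConjClasses.mk (e.symm (e a)) = ConjClasses.mk a
      rw [e.symm_apply_apply]
  · induction c using Quotient.inductionOn with
    | h a =>
      show ConjClasses.mk (e (e.symm a)) = ConjClasses.mk a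
      rw [e.apply_symm_apply]

/-- A central subgroup: `k(G) ≤ |Z| k(G/Z)`. -/
theorem card_conjClasses_le_central (Z : Subgroup G) [Z.Normal]
    (hc : ∀ z ∈ Z, ∀ g : G, g * z = z * g) :
    Nat.card (ConjClasses G) ≤ Nat.card Z * Nat.card (ConjClasses (G ⧸ Z)) := by
  rw [← Nat.card_prod]
  refine Nat.card_le_card_of_surjective
    (fun zc : Z × ConjClasses (G ⧸ Z) => ConjClasses.mk ((Quotient.out zc.2).out * zc.1)) fun c => ?_
  obtain ⟨g, rfl⟩ := ConjClasses.exists_rep c
  set x := (Quotient.out (ConjClasses.mk (g : G ⧸ Z))).out with hx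
  have hconj : IsConj (x : G ⧸ Z) (g : G ⧸ Z) := by
    rw [hx, QuotientGroup.out_eq', ← ConjClasses.mk_eq_mk_iff_isConj]
    exact Quotient.out_eq _
  obtain ⟨h, hh⟩ := isConj_iff.1 hconj
  obtain ⟨h, rfl⟩ := QuotientGroup.mk_surjective h
  rw [← QuotientGroup.mk_mul, ← QuotientGroup.mk_inv, ← QuotientGroup.mk_mul] at hh
  have hz := QuotientGroup.eq.1 hh
  refine ⟨(⟨_, hz⟩, ConjClasses.mk (g : G ⧸ Z)), ConjClasses.mk_eq_mk_iff_isConj.2 (isConj_iff.2 ⟨h, ?_⟩)⟩
  simp only [← hx]
  calc h * (x * ((h * x * h⁻¹)⁻¹ * g)) * h⁻¹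
      = h * x * (((h * x * h⁻¹)⁻¹ * g) * h⁻¹) := by simp only [mul_assoc]
    _ = h * x * (h⁻¹ * ((h * x * h⁻¹)⁻¹ * g)) := by rw [hc _ hz h⁻¹]
    _ = g := by group

theorem card_conjClasses_quotient_le (Z : Subgroup G) [Z.Normal] :
    Nat.card (ConjClasses (G ⧸ Z)) ≤ Nat.card (ConjClasses G) :=
  Nat.card_le_card_of_surjective (ConjClasses.map (QuotientGroup.mk' Z)) fun c => by
    obtain ⟨x, rfl⟩ := ConjClasses.exists_rep c
    obtain ⟨g, rfl⟩ := QuotientGroup.mk_surjective x
    exact ⟨ConjClasses.mk g, rfl⟩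

/-- Element orders in `G/Z` bound `k(G)` from below. -/
theorem card_conjClasses_ge {Q : Type*} [Group Q] [Fintype Q] [DecidableEq Q] (Z : Subgroup G)
    [Z.Normal] (hc : ∀ z ∈ Z, ∀ g : G, g * z = z * g) (e : G ⧸ Z ≃* Q) {S k : ℕ}
    (hS : (∑ x : Q, powWeight x) = S) (hk : Nat.card Q = k) :
    Nat.card Z * (S + k) ≤ Nat.card (ConjClasses G) * k + Nat.card Z := by
  classical
  have := Fintype.ofFinite G
  set π : G →* Q := e.toMonoidHom.comp (QuotientGroup.mk' Z) with hπ
  have hπs : Function.Surjective π := e.surjective.comp (QuotientGroup.mk'_surjective Z)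
  have hker : π.ker = Z := by
    ext x
    rw [MonoidHom.mem_ker, hπ]
    simp
  set z := Nat.card Z
  have hG : Nat.card G = k * z := by
    rw [← hk, ← Nat.card_congr e.toEquiv, Z.card_eq_card_quotient_mul_card_subgroup]
  have hfib : ∀ x : Q, (Finset.univ.filter fun g : G => π g = x).card = z := by
    intro x
    obtain ⟨g₀, rfl⟩ := hπs x
    rw [← Nat.card_eq_finsetCard]
    exact Nat.card_congr
      { toFun := fun g => ⟨g₀⁻¹ * g.1, by
          rw [← hker, MonoidHom.mem_ker, map_mul, (Finset.mem_filter.1 g.2).2, map_inv, inv_mul_cancel]⟩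
        invFun := fun y => ⟨g₀ * y.1, Finset.mem_filter.2 ⟨Finset.mem_univ _, by
          rw [map_mul, MonoidHom.mem_ker.1 (hker.ge y.2), mul_one]⟩⟩
        left_inv := fun g => Subtype.ext (mul_inv_cancel_left _ _)
        right_inv := fun y => Subtype.ext (inv_mul_cancel_left _ _) }
  have hge : ∀ g : G, z * (if π g = 1 then k else powWeight (π g)) ≤
      Nat.card (Subgroup.centralizer ({g} : Set G)) := by
    intro g
    split_ifs with h
    · rw [mul_comm, ← hG, ← Subgroup.card_top (G := G)]
      refine Subgroup.card_le_of_le fun x _ => Subgroup.mem_centralizer_singleton_iff.2 ?_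
      exact hc g (hker ▸ MonoidHom.mem_ker.2 h) x
    · refine le_trans (Nat.mul_le_mul_left z (powWeight_le _)) ?_
      set C := Subgroup.centralizer ({g} : Set G)
      have hZC : Z ≤ C := fun x hx => Subgroup.mem_centralizer_singleton_iff.2 (hc x hx g).symm
      have h1 := (Z.subgroupOf C).card_mul_index
      rw [Nat.card_congr (Subgroup.subgroupOfEquivOfLe hZC).toEquiv] at h1
      rw [← h1]
      refine Nat.mul_le_mul_left _ ?_
      rw [← hker, show (π.ker).subgroupOf C = (π.comp C.subtype).ker from rfl, Subgroup.index_ker,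
        ← Nat.card_zpowers]
      refine Subgroup.card_le_of_le (Subgroup.zpowers_le.2 ⟨⟨g, ?_⟩, rfl⟩)
      exact Subgroup.mem_centralizer_singleton_iff.2 rfl
  have hsum := Finset.sum_le_sum (s := Finset.univ) fun g _ => hge g
  rw [← card_conjClasses_mul_card, hG, ← Finset.mul_sum] at hsum
  rw [← Finset.sum_fiberwise_of_maps_to (g := π) (t := Finset.univ)
    (fun g _ => Finset.mem_univ (π g))] at hsum
  have hin : ∀ x : Q, ∑ g ∈ Finset.univ.filter (fun g : G => π g = x),
      (if π g = 1 then k else powWeight (π g)) = z * (if x = 1 then k else powWeight x) := by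
    intro x
    rw [← hfib x, ← smul_eq_mul, ← Finset.sum_const]
    exact Finset.sum_congr rfl fun g hg => by rw [(Finset.mem_filter.1 hg).2]
  rw [Finset.sum_congr rfl fun x _ => hin x, ← Finset.mul_sum] at hsum
  have h1 : (∑ x : Q, (if x = 1 then k else powWeight x)) + 1 = S + k := by
    have hw : powWeight (1 : Q) = 1 := by
      simp [powWeight, Finset.image_const (Finset.nonempty_range_iff.2 (by norm_num : (6 : ℕ) ≠ 0))]
    rw [← hS, ← Finset.add_sum_erase _ _ (Finset.mem_univ (1 : Q)),
      ← Finset.add_sum_erase _ powWeight (Finset.mem_univ (1 : Q)), if_pos rfl, hw]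
    have : ∑ x ∈ Finset.univ.erase (1 : Q), (if x = 1 then k else powWeight x) =
        ∑ x ∈ Finset.univ.erase (1 : Q), powWeight x :=
      Finset.sum_congr rfl fun x hx => if_neg (Finset.ne_of_mem_erase hx)
    omega
  rw [← h1, mul_add, mul_one]
  refine Nat.add_le_add_right (Nat.le_of_mul_le_mul_left ?_ (Nat.card_pos : 0 < z)) _
  calc z * (z * ∑ x : Q, (if x = 1 then k else powWeight x))
      ≤ Nat.card (ConjClasses G) * (k * z) := hsum
    _ = z * (Nat.card (ConjClasses G) * k) := by ring

section Module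

variable {V : Type v} [AddCommGroup V] [DistribMulAction G V] [Finite V] [Nontrivial V]
  [FaithfulSMul G V] {q : ℕ}

/-- The action as a linear representation over the prime field. -/
theorem exists_rep [Fact q.Prime] [Module (ZMod q) V] {n : ℕ} (hn : Nat.card V = q ^ n) :
    ∃ ρ : G →* Module.End (ZMod q) V,
      finrank (ZMod q) V = n ∧ Function.Injective ρ ∧ ∀ g v, ρ g v = g • v := by
  refine ⟨{ toFun := fun g => (DistribSMul.toAddMonoidHom V g).toZModLinearMap q
            map_one' := LinearMap.ext fun v => one_smul G v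
            map_mul' := fun g h => LinearMap.ext fun v => mul_smul g h v }, ?_, ?_, fun g v => rfl⟩
  · have h := Module.natCard_eq_pow_finrank (K := ZMod q) (V := V)
    rw [hn, Nat.card_zmod] at h
    exact (Nat.pow_right_injective (Fact.out (p := q.Prime)).two_le h).symm
  · intro g h hgh
    exact eq_of_smul_eq_smul fun v : V => LinearMap.congr_fun hgh v

/-- In dimension two a point stabilizer has fewer than `q` elements. -/
theorem card_stabilizer_le [Fact q.Prime] (hcop : ¬ q ∣ Nat.card G) [Module (ZMod q) V]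
    (ρ : G →* Module.End (ZMod q) V) (h2 : finrank (ZMod q) V = 2) (hρ : Function.Injective ρ)
    (hρV : ∀ g v, ρ g v = g • v) {v : V} (hv : v ≠ 0) :
    Nat.card (MulAction.stabilizer G v) ≤ q - 1 := by
  classical
  obtain ⟨w, hw⟩ : ∃ w : V, ∀ c : ZMod q, w ≠ c • v := by
    by_contra! h
    have := finrank_le_one v fun w => let ⟨c, hc⟩ := h w; ⟨c, hc.symm⟩
    omega
  have hli : LinearIndependent (ZMod q) ![v, w] :=
    (LinearIndependent.pair_iff' hv).2 fun c => (hw c).symm
  set B := basisOfLinearIndependentOfCardEqFinrank hli (by rw [Fintype.card_fin, h2]) with hB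
  have hB' : ∀ i, B i = ![v, w] i := fun i => by
    rw [hB, coe_basisOfLinearIndependentOfCardEqFinrank]
  have hdec : ∀ u : V, u = B.repr u 0 • v + B.repr u 1 • w := fun u => by
    conv_lhs => rw [← B.sum_repr u]
    rw [Fin.sum_univ_two, hB', hB']
    rfl
  have hfix : ∀ x : MulAction.stabilizer G v, ρ (x : G) v = v := fun x => by rw [hρV]; exact x.2
  have hne : ∀ x : MulAction.stabilizer G v, B.repr (ρ (x : G) w) 1 ≠ 0 := fun x h => by
    have h1 := hdec (ρ (x : G) w)
    rw [h, zero_smul, add_zero] at h1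
    have h2 := congrArg (ρ ((x : G)⁻¹)) h1
    rw [← Module.End.mul_apply, ← map_mul, inv_mul_cancel, map_one, Module.End.one_apply, map_smul,
      show ρ ((x : G)⁻¹) v = v from hfix x⁻¹] at h2
    exact hw _ h2
  have hunits : Nat.card (ZMod q)ˣ = q - 1 := by rw [Nat.card_units, Nat.card_zmod]
  rw [← hunits]
  refine Nat.card_le_card_of_injective (fun x => Units.mk0 _ (hne x)) fun x y h => ?_
  have hxy : B.repr (ρ (x : G) w) 1 = B.repr (ρ (y : G) w) 1 := congrArg Units.val h
  set c := B.repr (ρ (y : G) w) 0 - B.repr (ρ (x : G) w) 0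
  set u := (x : G)⁻¹ * y
  have hu : ρ u w = c • v + w := by
    have h1 : ρ (y : G) w = c • v + ρ (x : G) w := by
      rw [hdec (ρ (y : G) w), hdec (ρ (x : G) w), ← hxy, sub_smul]
      abel
    rw [map_mul, Module.End.mul_apply, h1, map_add, map_smul,
      show ρ ((x : G)⁻¹) v = v from hfix x⁻¹, ← Module.End.mul_apply, ← map_mul, inv_mul_cancel,
      map_one, Module.End.one_apply]
  have huv : ρ u v = v := hfix (x⁻¹ * y)
  have hpow : ∀ m : ℕ, ρ (u ^ m) w = (m • c) • v + w := by
    intro m
    induction m with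
    | zero => simp
    | succ m ih =>
      rw [pow_succ', map_mul, Module.End.mul_apply, ih, map_add, map_smul, huv, hu, succ_nsmul,
        add_smul, add_assoc]
  have hq1 : u ^ q = 1 := by
    refine hρ (B.ext fun i => ?_)
    rw [hB', map_one]
    fin_cases i
    · exact hfix ((x⁻¹ * y) ^ q)
    · show ρ (u ^ q) w = w
      rw [hpow, nsmul_eq_mul, ZMod.natCast_self, zero_mul, zero_smul, zero_add]
  have hu1 : orderOf u = 1 := by
    rcases (Nat.dvd_prime Fact.out).1 (orderOf_dvd_of_pow_eq_one hq1) with h | h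
    · exact h
    · exact absurd (h ▸ orderOf_dvd_natCard u) hcop
  exact Subtype.ext (inv_mul_eq_one.1 (orderOf_eq_one_iff.1 hu1))

/-- The bounds in dimension two. -/
theorem good_dim_two (hq : q.Prime) (hV : ∀ v : V, q • v = 0) (hcop : ¬ q ∣ Nat.card G)
    (htrans : ∀ a b : V, a ≠ 0 → b ≠ 0 → ∃ g : G, g • a = b) (hcard : Nat.card V = q ^ 2) :
    Good G V q := by
  classical
  haveI := Fact.mk hq
  letI : Module (ZMod q) V := AddCommGroup.zmodModule (n := q) (G := V) hV
  obtain ⟨ρ, h2, hρ, hρV⟩ := exists_rep (G := G) (V := V) (q := q) hcard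
  set Z := scalarSub ρ with hZ
  have hc : ∀ z ∈ Z, ∀ g : G, g * z = z * g := fun z hz g => commute_of_mem_scalarSub ρ hz hρ g
  have hzdvd : Nat.card Z ∣ q - 1 := by
    obtain ⟨v, hv⟩ := exists_ne (0 : V)
    let f : Z → ZMod q := fun x => x.2.choose
    have hf : ∀ (x : Z) (w : V), ρ x w = f x • w := fun x w => LinearMap.congr_fun x.2.choose_spec w
    have hinj : ∀ {a b : ZMod q}, a • v = b • v → a = b := fun {a b} h =>
      smul_left_injective (ZMod q) hv h
    let φ : Z →* ZMod q :=
      { toFun := f
        map_one' := hinj (by rw [← hf, Subgroup.coe_one, map_one, Module.End.one_apply, one_smul])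
        map_mul' := fun x y => hinj (by
          rw [← hf, Subgroup.coe_mul, map_mul, Module.End.mul_apply, hf, hf, smul_smul]) }
    have h := Subgroup.card_dvd_of_injective φ.toHomUnits fun x y h => Subtype.ext (hρ
      (LinearMap.ext fun w => by
        rw [hf, hf]; exact congrArg (fun a : ZMod q => a • w) (congrArg Units.val h)))
    rwa [Nat.card_units, Nat.card_zmod] at h
  have hexc : ∀ {Q : Type} [Group Q] [Fintype Q] [DecidableEq Q] (e : G ⧸ Z ≃* Q) (kQ S c : ℕ),
      Nat.card (ConjClasses Q) = kQ → kQ ≤ 5 → (∑ x : Q, powWeight x) = S → Nat.card Q = c →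
      ((c = 12 ∧ S = 31) ∨ (c = 24 ∧ S = 67 ∧ kQ = 5) ∨
        (c = 60 ∧ S = 211 ∧ kQ = 5 ∧ Nonempty (Q ≃* alternatingGroup (Fin 5)))) → Good G V q := by
    intro Q _ _ _ e kQ S c hkQ hk5 hS hc' hcases
    have hlow := card_conjClasses_ge Z hc e hS hc'
    have hup := card_conjClasses_le_central Z hc
    rw [card_conjClasses_congr e, hkQ] at hup
    have hquot := card_conjClasses_quotient_le Z
    rw [card_conjClasses_congr e, hkQ] at hquot
    have hG : Nat.card G = c * Nat.card Z := by
      rw [← hc', ← Nat.card_congr e.toEquiv, Z.card_eq_card_quotient_mul_card_subgroup]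
    have hq5 : 5 ≤ q ∧ (c = 60 → 7 ≤ q) := by
      have h' : ∀ d, d ∣ c → q ≠ d := by
        rintro d hd rfl
        exact hcop (hG ▸ Dvd.dvd.mul_right hd _)
      rcases hcases with ⟨rfl, -⟩ | ⟨rfl, -, -⟩ | ⟨rfl, -, -, -⟩
      · have := h' 2 (by norm_num); have := h' 3 (by norm_num); have := hq.two_le
        have : q ≠ 4 := fun h => by subst h; norm_num at hq
        omega
      · have := h' 2 (by norm_num); have := h' 3 (by norm_num); have := hq.two_le
        have : q ≠ 4 := fun h => by subst h; norm_num at hq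
        omega
      · have := h' 2 (by norm_num); have := h' 3 (by norm_num); have := hq.two_le
        have := h' 5 (by norm_num)
        have : q ≠ 4 := fun h => by subst h; norm_num at hq
        have : q ≠ 6 := fun h => by subst h; norm_num at hq
        omega
    set k := Nat.card (ConjClasses G) with hk
    set z := Nat.card Z with hz
    have hz1 : z ≤ q - 1 := Nat.le_of_dvd (by omega) hzdvd
    obtain ⟨v₁, hv₁⟩ := exists_ne (0 : V)
    have hGh := card_eq_stabilizer_mul htrans (G := G) hv₁
    rw [hcard, hG] at hGh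
    have hh0 : 0 < Nat.card (MulAction.stabilizer G v₁) := Nat.card_pos
    refine ⟨fun v hv => ?_, ?_⟩
    · have hh := card_stabilizer_le hcop ρ h2 hρ hρV hv
      rw [← hk, hcard]
      have h5 : z * kQ ≤ (q - 1) * 5 := Nat.mul_le_mul hz1 hk5
      have h6 : 6 * q < q ^ 2 + 6 := by rw [sq]; nlinarith [hq5.1]
      have hlt : k + Nat.card (MulAction.stabilizer G v) < q ^ 2 := by omega
      exact ⟨hlt.le, fun h => absurd h hlt.ne⟩
    · have hle : q ^ 2 - 1 ≤ c * z :=
        hGh ▸ Nat.le_mul_of_pos_right _ hh0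
      by_cases hbig : q ≤ k
      · exact Or.inl hbig
      rw [not_le] at hbig
      rcases hcases with ⟨rfl, rfl⟩ | ⟨rfl, rfl, rfl⟩ | ⟨rfl, rfl, rfl, ⟨eA⟩⟩
      · exfalso
        have h3 : 5 * q ≤ q ^ 2 := by rw [sq]; exact Nat.mul_le_mul_right q hq5.1
        omega
      · exfalso
        have hq7 : 7 ≤ q := by
          have : q ≠ 5 := fun h => by omega
          have : q ≠ 6 := fun h => by subst h; norm_num at hq
          omega
        have h3 : 7 * q ≤ q ^ 2 := by rw [sq]; exact Nat.mul_le_mul_right q hq7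
        omega
      · have hq7 := hq5.2 rfl
        have hqlt : q < 17 := by
          by_contra h17
          have h3 : 17 * q ≤ q ^ 2 := by rw [sq]; exact Nat.mul_le_mul_right q (not_lt.1 h17)
          omega
        have hdiv : q ^ 2 - 1 ∣ 60 * z := ⟨_, hGh⟩
        have hq3 : q = 7 ∨ q = 11 ∨ q = 13 := by
          have : ∀ j ∈ Finset.Ico 7 17, j.Prime → j = 7 ∨ j = 11 ∨ j = 13 := by decide +kernel
          exact this q (Finset.mem_Ico.2 ⟨hq7, hqlt⟩) hq
        rcases hq3 with rfl | rfl | rfl
        · exfalso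
          norm_num at hzdvd hdiv hz1
          interval_cases z <;> omega
        · -- `q = 11`
          norm_num at hzdvd hdiv hz1 hle
          have hz2 : z = 2 := by
            interval_cases z <;> first | rfl | omega
          right; right
          have hh1 : Nat.card (MulAction.stabilizer G v₁) = 1 := by
            rw [hz2] at hGh; omega
          have hG120 : Nat.card G = 120 := by rw [hG, hz2]
          have hfree : ∀ g : G, g ≠ 1 → ∀ v : V, g • v = v → v = 0 := by
            intro g hg v hgv
            by_contra hv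
            have h1 := card_eq_stabilizer_mul htrans (G := G) hv
            rw [hcard, hG120] at h1
            have h2' : Nat.card (MulAction.stabilizer G v) = 1 := by omega
            rw [Subgroup.card_eq_one] at h2'
            exact hg (Subgroup.mem_bot.1 (h2' ▸ MulAction.mem_stabilizer_iff.2 hgv))
          haveI : Nontrivial G := Finite.one_lt_card_iff_nontrivial.1 (by omega)
          let φ : G →* MulAut (Multiplicative V) :=
            { toFun := fun g => AddEquiv.toMultiplicative (DistribMulAction.toAddEquiv V g)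
              map_one' := MulEquiv.ext fun x => congrArg Multiplicative.ofAdd (one_smul G x.toAdd)
              map_mul' := fun g h => MulEquiv.ext fun x =>
                congrArg Multiplicative.ofAdd (mul_smul g h x.toAdd) }
          have hns : ¬ Group.IsSolvable G := by
            intro hs
            have := Group.isSolvable_of_surjective (f := (e.trans eA).toMonoidHom.comp (QuotientGroup.mk' Z))
              ((e.trans eA).surjective.comp (QuotientGroup.mk'_surjective Z))
            exact not_isSolvable_altFive this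
          obtain ⟨L, iL, iLf, H, hH, hGH, -⟩ := Frobenius.exists_complement_of_fpf φ
            fun g hg x hx => Multiplicative.toAdd.injective (hfree g hg x.toAdd (congrArg Multiplicative.toAdd hx))
          obtain ⟨K, ⟨eK⟩⟩ := SL25.exists_SL25_of_complement (G := G) ⟨L, iL, iLf, H, hH, hGH⟩ hns
          have hKtop : K = ⊤ := Subgroup.eq_top_of_card_eq K (by
            rw [Nat.card_congr eK.toEquiv, Axes.card_SL25, hG120])
          have eG : G ≃* SL(2, ZMod 5) := (Subgroup.topEquiv.symm.trans (MulEquiv.subgroupCongr hKtop.symm)).trans eK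
          haveI : Fact (Nat.Prime 5) := ⟨Nat.prime_five⟩
          refine ⟨rfl, by rw [hcard]; norm_num, hG120, ?_, ⟨eG⟩⟩
          rw [card_conjClasses_congr eG, GL2Char.card_conjClasses_SL2_odd (by rw [ZMod.card]; decide), ZMod.card]
        · exfalso
          norm_num at hzdvd hdiv hz1
          interval_cases z <;> omega
  rcases shape ρ q h2 hρ hcop with h | ⟨g, hg, h⟩ | ⟨g, hg, hn, hidx⟩ | ⟨⟨e⟩⟩ | ⟨⟨e⟩⟩ | ⟨⟨e⟩⟩
  · refine good_of_selfCentralizing hq hV hcop htrans ⊤ ⟨⟨fun a b => Subtype.ext ?_⟩⟩ ?_
    · exact (hc b (h b) a)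
    · exact eq_top_iff.2 fun x _ => fun y _ => hc x (h x) y
  · refine good_of_selfCentralizing hq hV hcop htrans ⊤ ⟨⟨fun a b => Subtype.ext ?_⟩⟩ ?_
    · exact centralizer_comm ρ h2 hρ hg (h a) (h b)
    · exact eq_top_iff.2 fun x _ => fun y _ => centralizer_comm ρ h2 hρ hg (h y) (h x)
  · haveI := hn
    refine good_of_selfCentralizing hq hV hcop htrans (Subgroup.centralizer ({g} : Set G))
      ⟨⟨fun a b => Subtype.ext (centralizer_comm ρ h2 hρ hg a.2 b.2)⟩⟩ ?_
    refine le_antisymm (fun x hx => ?_) fun x hx y hy => centralizer_comm ρ h2 hρ hg hy hx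
    exact Subgroup.mem_centralizer_singleton_iff.2 (hx g (Subgroup.mem_centralizer_singleton_iff.2 rfl)).symm
  · exact hexc e 4 31 12 (by rw [Nat.card_eq_fintype_card]; exact alt_four_facts.1) (by norm_num)
      alt_four_facts.2 (by rw [nat_card_alternatingGroup, Nat.card_eq_fintype_card]; rfl) (Or.inl ⟨rfl, rfl⟩)
  · exact hexc e 5 67 24 (by rw [Nat.card_eq_fintype_card]; exact perm_four_facts.1) le_rfl
      perm_four_facts.2 (by rw [Nat.card_perm, Nat.card_eq_fintype_card]; rfl) (Or.inr (Or.inl ⟨rfl, rfl, rfl⟩))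
  · exact hexc e 5 211 60 (by rw [Nat.card_eq_fintype_card]; exact alt_five_facts.1) le_rfl
      alt_five_facts.2 (by rw [nat_card_alternatingGroup, Nat.card_eq_fintype_card]; rfl)
      (Or.inr (Or.inr ⟨rfl, rfl, rfl, ⟨MulEquiv.refl _⟩⟩))

end Module

end Cfsg.Agent.TransCoprime
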