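import Cfsg.Agent.Lib.TransCoprime.Six
import Cfsg.Agent.Lib.TransCoprime.TwoBound
import Cfsg.Agent.Lib.SolvableTransitive.Main
import Cfsg.Agent.Lib.CharInt.Burnside

/-!
# Coprime transitive groups on `3 ^ 6` and `5 ^ 6` points

* `good_of_solvable` : the solvable case in dimension at least 3.
* `good_six` : the bounds for `(q, n) = (3, 6), (5, 6)`.
-/

set_option autoImplicit false
set_option linter.style.haveILetI false
set_option linter.unusedSectionVars false

namespace Cfsg.Agent.TransCoprime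

open Module
open scoped MatrixGroups

universe u v

/-- The excluded Sylow numbers. -/
def sylowOk (M : List (ℕ × ℕ)) (m : ℕ) : Bool :=
  (M.foldl (fun acc pe => acc.flatMap fun t => (List.range (pe.2 + 1)).map fun i => t * pe.1 ^ i) [1]).all
    fun t => t % m != 1 || t % 7 != 0

theorem sylow_check_three : sylowOk [(2, 13), (5, 1), (7, 1), (11, 2)] 169 = true := by decide +kernel

theorem sylow_check_five :
    sylowOk [(2, 16), (3, 4), (7, 1), (11, 1), (13, 1), (71, 1)] 961 = true := by decide +kernel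

/-- Divisors lie in the list. -/
theorem mem_of_dvd : ∀ (l : List (ℕ × ℕ)), (∀ pe ∈ l, pe.1.Prime) → ∀ (init : List ℕ) (t₀ d : ℕ),
    t₀ ∈ init → d ∣ (l.map fun pe => pe.1 ^ pe.2).prod →
    t₀ * d ∈ l.foldl (fun acc pe => acc.flatMap fun t => (List.range (pe.2 + 1)).map fun i => t * pe.1 ^ i)
      init := by
  intro l
  induction l with
  | nil =>
    intro _ init t₀ d ht hd
    rw [List.map_nil, List.prod_nil, Nat.dvd_one] at hd
    simpa [hd] using ht
  | cons pe l ih =>
    intro hpr init t₀ d ht hd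
    rw [List.map_cons, List.prod_cons] at hd
    obtain ⟨d₁, d₂, h1, h2, rfl⟩ := (Nat.dvd_mul).1 hd
    obtain ⟨i, hi, rfl⟩ := (Nat.dvd_prime_pow (hpr pe (List.mem_cons_self ..))).1 h1
    rw [List.foldl_cons, ← mul_assoc]
    refine ih (fun q hq => hpr q (List.mem_cons_of_mem _ hq)) _ _ _ ?_ h2
    simp only [List.mem_flatMap, List.mem_map, List.mem_range]
    exact ⟨t₀, ht, i, by omega, rfl⟩

theorem sylow_impossible {M : List (ℕ × ℕ)} {m d : ℕ} (hok : sylowOk M m = true)
    (hpr : ∀ pe ∈ M, pe.1.Prime) (hd : d ∣ (M.map fun pe => pe.1 ^ pe.2).prod)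
    (h7 : 7 ∣ d) (hm : d % m = 1) : False := by
  have hmem := mem_of_dvd M hpr [1] 1 d (List.mem_singleton_self 1) hd
  rw [one_mul] at hmem
  have h := (List.all_eq_true.1 hok) d hmem
  simp [hm, Nat.mod_eq_zero_of_dvd h7] at h

variable {G : Type u} [Group G] [Finite G] {V : Type v} [AddCommGroup V] [DistribMulAction G V]
  [Finite V] [Nontrivial V] [FaithfulSMul G V] {q : ℕ}

/-- The solvable case in dimension at least 3. -/
theorem good_of_solvable (hsol : Group.IsSolvable G) (hq : q.Prime) (hV : ∀ v : V, q • v = 0)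
    (hcop : ¬ q ∣ Nat.card G) (htrans : ∀ a b : V, a ≠ 0 → b ≠ 0 → ∃ g : G, g • a = b) {n : ℕ}
    (hn : 3 ≤ n) (hcard : Nat.card V = q ^ n) (h34 : ¬ (q = 3 ∧ n = 4)) : Good G V q := by
  rcases SolvableTransitive.selfCentralizing_or_exception hsol hq hV htrans with
    ⟨A, hAn, hA, hC, -⟩ | hex
  · exact good_of_selfCentralizing hq hV hcop htrans A hA hC
  · exfalso
    have key : ∀ p k : ℕ, p.Prime → Nat.card V = p ^ k → 0 < k → q = p ∧ n = k := by
      intro p k hp h hk
      have hqp : q = p := (Nat.prime_dvd_prime_iff_eq hq hp).1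
        (hq.dvd_of_dvd_pow (h ▸ hcard ▸ dvd_pow_self q (by omega : n ≠ 0)))
      subst hqp
      exact ⟨rfl, Nat.pow_right_injective hq.two_le (hcard.symm.trans h)⟩
    simp only [Set.mem_insert_iff, Set.mem_singleton_iff] at hex
    rcases hex with h | h | h | h | h | h
    · have := key 3 2 Nat.prime_three h two_pos; omega
    · have := key 5 2 Nat.prime_five h two_pos; omega
    · have := key 7 2 (by norm_num) h two_pos; omega
    · have := key 11 2 (by norm_num) h two_pos; omega
    · have := key 23 2 (by norm_num) h two_pos; omega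
    · exact h34 (key 3 4 Nat.prime_three h (by norm_num))

/-- An element of order 7 does not normalize `P`. -/
theorem seven_not_normalizer [Fact q.Prime] [Module (ZMod q) V] {r : ℕ} [Fact r.Prime]
    {ρ : G →* Module.End (ZMod q) V} {P : Sylow r G} (S : SixSetting ρ P)
    (h7 : ∀ i, 0 < i → i < 6 → ¬ 7 ∣ q ^ i - 1) (h7q : q ≠ 7) :
    ¬ 7 ∣ Nat.card (Subgroup.normalizer ((P : Subgroup G) : Set G)) := by
  intro hd
  haveI : Fact (Nat.Prime 7) := ⟨by norm_num⟩
  obtain ⟨⟨z, hzN⟩, hz⟩ :=
    exists_prime_orderOf_dvd_card' (G := Subgroup.normalizer ((P : Subgroup G) : Set G)) 7 hd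
  rw [Subgroup.orderOf_mk] at hz
  obtain ⟨y, hy, hyo, hU3, hW3, hc⟩ := S.exists_split
  have hyr : y ^ r = 1 := hyo ▸ pow_orderOf_eq_one y
  set U := LinearMap.ker (ρ y - 1) with hU
  set W := LinearMap.range (ρ y - 1) with hW
  have hWne : ∃ u ∈ W, ρ y u ≠ u := by
    obtain ⟨u, hu, hu0⟩ : ∃ u ∈ W, u ≠ 0 := Submodule.exists_mem_ne_zero_of_ne_bot fun h => by
      rw [h, finrank_bot] at hW3; norm_num at hW3
    refine ⟨u, hu, fun h => hu0 (Submodule.disjoint_def.1 hc.disjoint u ?_ hu)⟩
    rw [hU, LinearMap.mem_ker, LinearMap.sub_apply, Module.End.one_apply, h, sub_self]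
  have hxy : ∀ a ∈ (P : Subgroup G), ρ a * ρ y = ρ y * ρ a := fun a ha => by
    rw [← map_mul, ← map_mul, S.comm ha hy]
  have hPU : ∀ a ∈ (P : Subgroup G), ∀ u ∈ U, ρ a u ∈ U := fun a ha u hu => by
    rw [hU, LinearMap.mem_ker, LinearMap.sub_apply, Module.End.one_apply, sub_eq_zero] at hu ⊢
    rw [← Module.End.mul_apply, ← hxy a ha, Module.End.mul_apply, hu]
  have hPW : ∀ a ∈ (P : Subgroup G), ∀ u ∈ W, ρ a u ∈ W := by
    rintro a ha _ ⟨v, rfl⟩
    refine ⟨ρ a v, ?_⟩
    simp only [LinearMap.sub_apply, Module.End.one_apply, map_sub]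
    rw [← Module.End.mul_apply, ← hxy a ha]; rfl
  have hzP : ∀ a, a ∈ (P : Subgroup G) ↔ z * a * z⁻¹ ∈ (P : Subgroup G) :=
    Subgroup.mem_normalizer_iff.1 hzN
  have hρz : ∀ v, ρ z⁻¹ (ρ z v) = v := fun v => by
    rw [← Module.End.mul_apply, ← map_mul, inv_mul_cancel, map_one, Module.End.one_apply]
  have hinj : Function.Injective (ρ z) := Function.LeftInverse.injective hρz
  -- images of invariant subspaces are invariant
  have himg : ∀ Z : Submodule (ZMod q) V, (∀ a ∈ (P : Subgroup G), ∀ u ∈ Z, ρ a u ∈ Z) →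
      ∀ a ∈ (P : Subgroup G), ∀ u ∈ Z.map (ρ z), ρ a u ∈ Z.map (ρ z) := by
    rintro Z hZ a ha _ ⟨u, hu, rfl⟩
    refine ⟨ρ (z⁻¹ * a * z) u, hZ _ ((hzP _).2 (by
      rw [show z * (z⁻¹ * a * z) * z⁻¹ = a by group]; exact ha)) u hu, ?_⟩
    rw [← Module.End.mul_apply, ← map_mul, show z * (z⁻¹ * a * z) = a * z by group, map_mul,
      Module.End.mul_apply]
  have hfin : ∀ Z : Submodule (ZMod q) V, finrank (ZMod q) (Z.map (ρ z)) = finrank (ZMod q) Z :=
    fun Z => ((Submodule.equivMapOfInjective (ρ z) hinj Z).finrank_eq).symm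
  -- a `P`-invariant subspace of dimension 3 is `U` or `W`
  have hUW : ∀ Z : Submodule (ZMod q) V, finrank (ZMod q) Z = 3 →
      (∀ a ∈ (P : Subgroup G), ∀ u ∈ Z, ρ a u ∈ Z) → (∃ a ∈ (P : Subgroup G), a ^ r = 1 ∧
        (∃ u ∈ U, ρ a u ≠ u)) → Z = U ∨ Z = W := by
    intro Z hZ3 hZ ⟨a, ha, har, hau⟩
    rcases S.irreducible W hW3 hyr (hPW y hy) hWne Z (hZ y hy) with h | h
    · rcases S.irreducible U hU3 har (hPU a ha) hau Z (hZ a ha) with h' | h'
      · exfalso
        -- `Z` projects injectively into `U` along `W` and is `y`-invariant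
        have hZU : Z ≤ U := by
          intro w hw
          obtain ⟨c, hc', b, hb, rfl⟩ := Submodule.mem_sup.1
            (show w ∈ U ⊔ W by rw [hc.sup_eq_top]; exact Submodule.mem_top)
          have h1 : ρ y (c + b) - (c + b) ∈ Z := Z.sub_mem (hZ y hy _ hw) hw
          have hcy : ρ y c = c := by
            rw [hU, LinearMap.mem_ker, LinearMap.sub_apply, Module.End.one_apply, sub_eq_zero] at hc'
            exact hc'
          rw [map_add, hcy, add_sub_add_left_eq_sub] at h1
          have h0 : ρ y b - b = 0 := Submodule.disjoint_def.1 h _ (W.sub_mem (hPW y hy b hb) hb) h1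
          have hbU : b ∈ U := by
            rw [hU, LinearMap.mem_ker, LinearMap.sub_apply, Module.End.one_apply]; exact h0
          rw [Submodule.disjoint_def.1 hc.disjoint b hbU hb, add_zero]; exact hc'
        have hbot : Z = ⊥ := by
          rw [← inf_eq_right.2 hZU]; exact h'.eq_bot
        rw [hbot, finrank_bot] at hZ3; norm_num at hZ3
      · exact Or.inl (Submodule.eq_of_le_of_finrank_eq h' (hU3.trans hZ3.symm)).symm
    · exact Or.inr (Submodule.eq_of_le_of_finrank_eq h (hW3.trans hZ3.symm)).symm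
  -- the conjugate of `y` fixes the image of `U`
  set y' := z * y * z⁻¹ with hy'
  have hy'P : y' ∈ (P : Subgroup G) := (hzP y).1 hy
  have hy'r : y' ^ r = 1 := by rw [hy', conj_pow, hyr, mul_one, mul_inv_cancel]
  have hy'U : U.map (ρ z) = LinearMap.ker (ρ y' - 1) := by
    ext u
    rw [LinearMap.mem_ker, LinearMap.sub_apply, Module.End.one_apply, sub_eq_zero]
    constructor
    · rintro ⟨c, hc', rfl⟩
      rw [SetLike.mem_coe, hU, LinearMap.mem_ker, LinearMap.sub_apply, Module.End.one_apply, sub_eq_zero] at hc'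
      rw [← Module.End.mul_apply, ← map_mul, hy', inv_mul_cancel_right, map_mul, Module.End.mul_apply, hc']
    · intro hu
      refine ⟨ρ z⁻¹ u, ?_, by
        rw [← Module.End.mul_apply, ← map_mul, mul_inv_cancel, map_one, Module.End.one_apply]⟩
      rw [SetLike.mem_coe, hU, LinearMap.mem_ker, LinearMap.sub_apply, Module.End.one_apply, sub_eq_zero,
        ← Module.End.mul_apply, ← map_mul, show y * z⁻¹ = z⁻¹ * y' by rw [hy']; group, map_mul,
        Module.End.mul_apply, hu]
  have hfix : U.map (ρ z) = U := by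
    by_cases htriv : ∀ u ∈ U, ρ y' u = u
    · exact (Submodule.eq_of_le_of_finrank_eq (fun u hu => by
        rw [hy'U, LinearMap.mem_ker, LinearMap.sub_apply, Module.End.one_apply, htriv u hu, sub_self])
        (hU3.trans ((hfin U).trans hU3).symm)).symm
    push Not at htriv
    have hmU := hUW (U.map (ρ z)) ((hfin U).trans hU3) (himg U hPU) ⟨y', hy'P, hy'r, htriv⟩
    have hmW := hUW (W.map (ρ z)) ((hfin W).trans hW3) (himg W hPW) ⟨y', hy'P, hy'r, htriv⟩
    rcases hmU with h | h
    · exact h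
    exfalso
    have hmapmul : ∀ (Z : Submodule (ZMod q) V), (Z.map (ρ z)).map (ρ z) = Z.map (ρ (z * z)) := by
      intro Z; rw [map_mul, ← Submodule.map_comp]; rfl
    have hWU : W.map (ρ z) = U := hmW.resolve_right fun h' => by
      have := Submodule.map_injective_of_injective hinj (h.trans h'.symm)
      rw [← this] at hc
      have h0 := hc.disjoint
      rw [disjoint_self] at h0
      rw [h0, finrank_bot] at hU3
      norm_num at hU3
    have h2 : U.map (ρ (z * z)) = U := by rw [← hmapmul, h, hWU]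
    have h2W : W.map (ρ (z * z)) = W := by rw [← hmapmul, hWU, h]
    have hk : ∀ k : ℕ, U.map (ρ ((z * z) ^ k)) = U := by
      intro k
      induction k with
      | zero => rw [pow_zero, map_one]; exact Submodule.map_id U
      | succ k ih =>
        rw [pow_succ, map_mul,
          show ρ ((z * z) ^ k) * ρ (z * z) = (ρ ((z * z) ^ k)).comp (ρ (z * z)) from rfl,
          Submodule.map_comp, h2, ih]
    have h4 := hk 4
    have h8 : (z * z) ^ 4 = z := by
      rw [← pow_two, ← pow_mul, show 2 * 4 = 7 + 1 from rfl, pow_succ, ← hz, pow_orderOf_eq_one, one_mul]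
    rw [h8, h] at h4
    rw [← h4] at hc
    have h0 := hc.disjoint
    rw [disjoint_self] at h0
    rw [h0, finrank_bot] at hW3
    norm_num at hW3
  haveI : Nontrivial V := inferInstance
  have hz7 : (ρ z) ^ 7 = 1 := by rw [← map_pow, ← hz, pow_orderOf_eq_one, map_one]
  rcases SolvableTransitive.eq_bot_or_eq_top_of_invariant (r := 7) (ρ z) hz7
    (fun h => by
      rw [S.inj (h.trans (map_one ρ).symm), orderOf_one] at hz; norm_num at hz)
    (by rw [Ne, CharP.cast_eq_zero_iff (ZMod q) q,
      Nat.prime_dvd_prime_iff_eq Fact.out (by norm_num)]; exact h7q)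
    (by rw [S.finrank, Nat.card_zmod]; exact h7) U
    (fun u hu => hfix ▸ Submodule.mem_map_of_mem hu) with h | h
  · rw [h, finrank_bot] at hU3; norm_num at hU3
  · rw [h, finrank_top, S.finrank] at hU3; norm_num at hU3

/-- The bounds on `3 ^ 6` and `5 ^ 6` points. -/
theorem good_six (hq : q.Prime) (hV : ∀ v : V, q • v = 0) (hcop : ¬ q ∣ Nat.card G)
    (htrans : ∀ a b : V, a ≠ 0 → b ≠ 0 → ∃ g : G, g • a = b) (hcard : Nat.card V = q ^ 6)
    {r : ℕ} (M : List (ℕ × ℕ)) (hcase : (q = 3 ∧ r = 13 ∧ M = [(2, 13), (5, 1), (7, 1), (11, 2)]) ∨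
      (q = 5 ∧ r = 31 ∧ M = [(2, 16), (3, 4), (7, 1), (11, 1), (13, 1), (71, 1)])) : Good G V q := by
  classical
  haveI := Fact.mk hq
  have hr : r.Prime := by rcases hcase with ⟨-, rfl, -⟩ | ⟨-, rfl, -⟩ <;> norm_num
  haveI := Fact.mk hr
  haveI : Fact (Nat.Prime 7) := ⟨by norm_num⟩
  letI : Module (ZMod q) V := AddCommGroup.zmodModule (n := q) (G := V) hV
  obtain ⟨ρ, h6, hρ, hρV⟩ := exists_rep (G := G) (V := V) (q := q) hcard
  obtain ⟨v₀, hv₀⟩ := exists_ne (0 : V)
  have hdvdG : q ^ 6 - 1 ∣ Nat.card G := ⟨_, by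
    rw [card_eq_stabilizer_mul htrans (G := G) hv₀, hcard]⟩
  have hprod := card_dvd_prod ρ hρ h6
  have hrG : r ∣ Nat.card G := Dvd.dvd.trans (by
    rcases hcase with ⟨rfl, rfl, -⟩ | ⟨rfl, rfl, -⟩ <;> decide +kernel) hdvdG
  have h7G : 7 ∣ Nat.card G := Dvd.dvd.trans (by
    rcases hcase with ⟨rfl, rfl, -⟩ | ⟨rfl, rfl, -⟩ <;> decide +kernel) hdvdG
  have hrq : r ≠ q := by rcases hcase with ⟨rfl, rfl, -⟩ | ⟨rfl, rfl, -⟩ <;> norm_num
  have hprim3 : ∀ i, 0 < i → i < 3 → ¬ r ∣ q ^ i - 1 := by
    rcases hcase with ⟨rfl, rfl, -⟩ | ⟨rfl, rfl, -⟩ <;>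
      (intro i hi hi3; interval_cases i <;> decide +kernel)
  have hthree : r ∣ q ^ 3 - 1 := by
    rcases hcase with ⟨rfl, rfl, -⟩ | ⟨rfl, rfl, -⟩ <;> decide +kernel
  have hlt : 7 < r := by rcases hcase with ⟨-, rfl, -⟩ | ⟨-, rfl, -⟩ <;> norm_num
  by_cases hsq : r ^ 2 ∣ Nat.card G
  · exfalso
    obtain ⟨P⟩ := (inferInstance : Nonempty (Sylow r G))
    obtain ⟨a, ha⟩ := IsPGroup.iff_card.1 P.isPGroup'
    have ha2 : 2 ≤ a := by
      have hle : r ^ 2 ∣ Nat.card ↥(P : Subgroup G) := P.pow_dvd_card_of_pow_dvd_card hsq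
      rw [ha] at hle
      exact (Nat.pow_dvd_pow_iff_le_right hr.one_lt).1 hle
    have ha3 : a < 3 := by
      by_contra h
      have h3 : r ^ 3 ∣ ∏ i : Fin 6, (q ^ 6 - q ^ (i : ℕ)) :=
        ((pow_dvd_pow r (not_lt.1 h)).trans (ha ▸ Subgroup.card_subgroup_dvd_card _)).trans hprod
      rw [Fin.prod_univ_six] at h3
      rcases hcase with ⟨rfl, rfl, -⟩ | ⟨rfl, rfl, -⟩ <;> revert h3 <;> decide +kernel
    have S : SixSetting ρ P :=
      { inj := hρ
        coprime := hcop
        finrank := h6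
        ne := hrq
        lt := hlt
        three := hthree
        primitive := hprim3
        card := by rw [ha]; congr 1; omega
        notCyclicDvd := by rcases hcase with ⟨rfl, rfl, -⟩ | ⟨rfl, rfl, -⟩ <;> decide +kernel
        sqDvd := by
          rw [Fin.prod_univ_three]
          rcases hcase with ⟨rfl, rfl, -⟩ | ⟨rfl, rfl, -⟩ <;> decide +kernel }
    obtain ⟨j, hj⟩ := S.card_sylow_modEq
    have h7N := seven_not_normalizer S (by
      rcases hcase with ⟨rfl, rfl, -⟩ | ⟨rfl, rfl, -⟩ <;>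
        (intro i hi hi6; interval_cases i <;> decide +kernel))
      (by rcases hcase with ⟨rfl, rfl, -⟩ | ⟨rfl, rfl, -⟩ <;> norm_num)
    have hmul : Nat.card (Sylow r G) *
        Nat.card (Subgroup.normalizer ((P : Subgroup G) : Set G)) = Nat.card G := by
      rw [P.card_eq_index_normalizer]
      exact Subgroup.index_mul_card _
    have h7n : 7 ∣ Nat.card (Sylow r G) :=
      ((Nat.Prime.dvd_mul (by norm_num)).1 (hmul.symm ▸ h7G)).resolve_right h7N
    have hcr : Nat.Coprime (Nat.card (Sylow r G)) r := by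
      rw [hj, sq, mul_assoc]
      exact (Nat.coprime_mul_left_add_left _ _ _).2 (Nat.coprime_one_left r)
    have hcq : Nat.Coprime (Nat.card (Sylow r G)) q :=
      ((hq.coprime_iff_not_dvd).2 fun h => hcop (h.trans (Dvd.intro _ hmul))).symm
    have hd : Nat.card (Sylow r G) ∣ (M.map fun pe => pe.1 ^ pe.2).prod := by
      have h := (Dvd.intro _ hmul).trans hprod
      have hfac : (∏ i : Fin 6, (q ^ 6 - q ^ (i : ℕ))) =
          r ^ 2 * (q ^ 15 * (M.map fun pe => pe.1 ^ pe.2).prod) := by
        rw [Fin.prod_univ_six]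
        rcases hcase with ⟨rfl, rfl, rfl⟩ | ⟨rfl, rfl, rfl⟩ <;> decide +kernel
      rw [hfac] at h
      exact (hcq.pow_right 15).dvd_of_dvd_mul_left ((hcr.pow_right 2).dvd_of_dvd_mul_left h)
    have hmod : Nat.card (Sylow r G) % (r ^ 2) = 1 := by
      rw [hj, Nat.mul_add_mod, Nat.one_mod_eq_one]
      have : 1 < r ^ 2 := Nat.one_lt_pow two_ne_zero hr.one_lt
      omega
    rcases hcase with ⟨rfl, rfl, rfl⟩ | ⟨rfl, rfl, rfl⟩
    · exact sylow_impossible sylow_check_three (by
        intro pe hpe; simp at hpe; rcases hpe with rfl | rfl | rfl | rfl <;> norm_num) hd h7n hmod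
    · exact sylow_impossible sylow_check_five (by
        intro pe hpe; simp at hpe; rcases hpe with rfl | rfl | rfl | rfl | rfl | rfl <;> norm_num) hd h7n hmod
  -- a normal subgroup of order `r`
  obtain ⟨χ, hχ, hfaith, hdeg⟩ := exists_faithful_character hcop ρ hρ
  rw [h6] at hdeg
  obtain ⟨H, hH, hHr⟩ : ∃ H : Subgroup G, H.Normal ∧ Nat.card H = r := by
    by_contra! hnn
    have hle := Cfsg.Agent.S4503.result r hr hrG hsq hnn χ hχ hfaith
    rw [hdeg] at hle
    rcases hcase with ⟨rfl, rfl, -⟩ | ⟨rfl, rfl, -⟩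
    · obtain ⟨e⟩ := Cfsg.Agent.S4504.result 13 hr hrG hsq hnn χ hχ hfaith (by rw [hdeg])
      haveI : Fact (Nat.Prime 13) := ⟨hr⟩
      have h := PSL2.two_mul_card_PSL (F := ZMod 13) (by decide +revert +kernel)
      rw [ZMod.card, ← Nat.card_congr e.toEquiv] at h
      have h3 : 3 ∣ Nat.card (G ⧸ Subgroup.center G) := by omega
      exact hcop (h3.trans (Subgroup.card_quotient_dvd_card _))
    · omega
  haveI := hH
  haveI : IsCyclic H := isCyclic_of_prime_card (p := r) hHr
  have hHab : IsMulCommutative H := ⟨⟨fun a b => by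
    letI : CommGroup H := IsCyclic.commGroup
    exact mul_comm a b⟩⟩
  set C := Subgroup.centralizer (H : Set G) with hCdef
  have hF := SolvableTransitive.isField_spanRing htrans hHab (V := V)
  letI : Field ↥(SolvableTransitive.spanRing V H) := hF.toField
  haveI : Finite (AddMonoid.End V) :=
    Finite.of_injective (fun f => (f : V → V)) DFunLike.coe_injective
  have hq0 : (q : ↥(SolvableTransitive.spanRing V H)) = 0 := Subtype.ext (AddMonoidHom.ext fun v => by
    rw [show ((q : ↥(SolvableTransitive.spanRing V H)) : AddMonoid.End V) = (q : AddMonoid.End V) from rfl]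
    exact hV v)
  haveI : CharP ↥(SolvableTransitive.spanRing V H) q := (CharP.charP_iff_prime_eq_zero hq).mpr hq0
  obtain ⟨d, hd⟩ : ∃ d, Nat.card ↥(SolvableTransitive.spanRing V H) = q ^ d := by
    letI := ZMod.algebra ↥(SolvableTransitive.spanRing V H) q
    exact ⟨_, by rw [Module.natCard_eq_pow_finrank (K := ZMod q), Nat.card_zmod]⟩
  have hlin : ∀ g ∈ C, ∀ (c : ↥(SolvableTransitive.spanRing V H)) (w : V), g • c • w = c • g • w :=
    fun g hg c w => DFunLike.congr_fun (SolvableTransitive.spanRing_commute hg c.2) w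
  have hrd : r ∣ q ^ d - 1 := by
    let φ : H →* (↥(SolvableTransitive.spanRing V H))ˣ :=
      MonoidHom.toHomUnits (((SolvableTransitive.toEnd V).comp H.subtype).codRestrict
        (SolvableTransitive.spanRing V H) fun a => SolvableTransitive.toEnd_mem_spanRing a.2)
    have h := Subgroup.card_dvd_of_injective φ fun a b h => Subtype.ext
      (SolvableTransitive.toEnd_injective (V := V)
        (congrArg (fun u : (↥(SolvableTransitive.spanRing V H))ˣ =>
          ((u : ↥(SolvableTransitive.spanRing V H)) : AddMonoid.End V)) h))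
    rwa [Nat.card_units, hd, hHr] at h
  have h3d := dvd_of_primitive hq.pos (by norm_num : 0 < 3) hthree hprim3 hrd
  set j := finrank ↥(SolvableTransitive.spanRing V H) V
  have hdj : 6 = d * j := by
    refine Nat.pow_right_injective hq.two_le ?_
    show q ^ 6 = q ^ (d * j)
    rw [← hcard, Module.natCard_eq_pow_finrank (K := ↥(SolvableTransitive.spanRing V H)), hd, pow_mul]
  have hj : j = 1 ∨ j = 2 := by
    obtain ⟨c, rfl⟩ := h3d
    have h2 : 2 = c * j := by
      have : 3 * 2 = 3 * (c * j) := by rw [← mul_assoc]; exact hdj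
      omega
    exact (Nat.dvd_prime Nat.prime_two).1 ⟨c, by rw [h2, mul_comm]⟩
  have hCgood : (∀ a ∈ C, ∀ b ∈ C, a * b = b * a) → Good G V q := fun hab => by
    refine good_of_selfCentralizing hq hV hcop htrans C ⟨⟨fun a b => Subtype.ext (hab a a.2 b b.2)⟩⟩ ?_
    refine le_antisymm (fun a ha b hb => ?_) fun a ha b hb => hab b hb a ha
    have hHC : H ≤ C := fun x hx y hy => congrArg Subtype.val (hHab.is_comm.comm (⟨y, hy⟩ : H) ⟨x, hx⟩)
    exact ha b (hHC hb)
  rcases hj with hj1 | hj2
  · refine hCgood fun a ha b hb => eq_of_smul_eq_smul fun w : V => ?_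
    obtain ⟨ca, hca⟩ := (finrank_eq_one_iff_of_nonzero' v₀ hv₀).mp hj1 (a • v₀)
    obtain ⟨cb, hcb⟩ := (finrank_eq_one_iff_of_nonzero' v₀ hv₀).mp hj1 (b • v₀)
    obtain ⟨cx, hcx⟩ := (finrank_eq_one_iff_of_nonzero' v₀ hv₀).mp hj1 w
    rw [← hcx, mul_smul, mul_smul, hlin b hb, ← hcb, hlin a ha, hlin a ha, ← hca, hlin a ha, hlin b hb,
      ← hca, hlin b hb, ← hcb]
    simp only [← mul_smul, mul_comm, mul_left_comm]
  -- `C` is solvable
  let ρR : C →* Module.End ↥(SolvableTransitive.spanRing V H) V :=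
    { toFun := fun g =>
        { toFun := fun x => (g : G) • x
          map_add' := fun x y => smul_add _ _ _
          map_smul' := fun c x => hlin g g.2 c x }
      map_one' := LinearMap.ext fun x => one_smul G x
      map_mul' := fun a c => LinearMap.ext fun x => mul_smul (a : G) (c : G) x }
  have hρR : Function.Injective ρR := fun a c h =>
    Subtype.ext (eq_of_smul_eq_smul fun x : V => LinearMap.congr_fun h x)
  have hcopC : ¬ q ∣ Nat.card C := fun h => hcop (h.trans (Subgroup.card_subgroup_dvd_card C))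
  have hCsol : Group.IsSolvable C := by
    rcases shape ρR q hj2 hρR hcopC with h | ⟨t, ht, h⟩ | ⟨t, ht, hn, hi2⟩ | h
    · exact Group.isSolvable_of_comm fun a b => commute_of_mem_scalarSub ρR (h b) hρR a
    · exact Group.isSolvable_of_comm fun a b => centralizer_comm ρR hj2 hρR ht (h a) (h b)
    · haveI := hn
      haveI : Group.IsSolvable (Subgroup.centralizer ({t} : Set C)) :=
        Group.isSolvable_of_comm fun a b => Subtype.ext (centralizer_comm ρR hj2 hρR ht a.2 b.2)
      haveI : Group.IsSolvable (C ⧸ Subgroup.centralizer ({t} : Set C)) := by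
        haveI : Fact (Nat.Prime 2) := ⟨Nat.prime_two⟩
        haveI : IsCyclic (C ⧸ Subgroup.centralizer ({t} : Set C)) :=
          isCyclic_of_prime_card (p := 2) hi2
        letI := IsCyclic.commGroup (α := C ⧸ Subgroup.centralizer ({t} : Set C))
        exact Group.isSolvable_of_comm mul_comm
      exact Group.isSolvable_of_ker_le_range (Subgroup.centralizer ({t} : Set C)).subtype
        (QuotientGroup.mk' (Subgroup.centralizer ({t} : Set C))) (by simp)
    · haveI : Group.IsSolvable (scalarSub ρR) :=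
        Group.isSolvable_of_comm fun a b => Subtype.ext (commute_of_mem_scalarSub ρR b.2 hρR a)
      haveI : Group.IsSolvable (C ⧸ scalarSub ρR) := by
        have hQ : ∀ {Q : Type} [Group Q] [Finite Q], (C ⧸ scalarSub ρR ≃* Q) →
            Group.IsSolvable Q → Group.IsSolvable (C ⧸ scalarSub ρR) := fun e hs =>
          Group.isSolvable_of_isSolvable_injective (f := e.toMonoidHom) e.injective
        rcases h with ⟨⟨e'⟩⟩ | ⟨⟨e'⟩⟩ | ⟨⟨e'⟩⟩
        · exact hQ e' (CharInt.isSolvable_of_card_eq Nat.prime_two Nat.prime_three (a := 2) (b := 1) (by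
            rw [nat_card_alternatingGroup, Nat.card_eq_fintype_card, Fintype.card_fin]; decide))
        · exact hQ e' (CharInt.isSolvable_of_card_eq Nat.prime_two Nat.prime_three (a := 3) (b := 1) (by
            rw [Nat.card_perm, Nat.card_eq_fintype_card, Fintype.card_fin]; decide))
        · exfalso
          have h60 : Nat.card (C ⧸ scalarSub ρR) = 60 := by
            rw [Nat.card_congr e'.toEquiv, nat_card_alternatingGroup, Nat.card_eq_fintype_card,
              Fintype.card_fin]; decide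
          refine hcopC (Dvd.dvd.trans ?_ (Subgroup.card_quotient_dvd_card (scalarSub ρR)))
          rw [h60]
          rcases hcase with ⟨rfl, -, -⟩ | ⟨rfl, -, -⟩ <;> norm_num
      exact Group.isSolvable_of_ker_le_range (scalarSub ρR).subtype (QuotientGroup.mk' (scalarSub ρR))
        (by simp)
  haveI := hCsol
  haveI : Group.IsSolvable
      (↥(SolvableTransitive.spanRing V H) ≃+* ↥(SolvableTransitive.spanRing V H)) :=
    Group.isSolvable_of_comm (SolvableTransitive.ringAut_facts q hd).2
  have hsol : Group.IsSolvable G := Group.isSolvable_of_ker_le_range C.subtype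
    (SolvableTransitive.galois V H) (by rw [SolvableTransitive.ker_galois]; simp [hCdef])
  exact good_of_solvable hsol hq hV hcop htrans (by norm_num) hcard (by
    rintro ⟨-, h⟩; norm_num at h)

end Cfsg.Agent.TransCoprime
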